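import Cfsg.Agent.Classical.TensorPowLin.Stab
import Cfsg.Agent.Classical.TensorOrth.Avg

/-!
# Averaging the projection onto a slot over the conjugates of the slot
-/

set_option autoImplicit false
set_option linter.unusedSectionVars false
set_option linter.unusedSimpArgs false
set_option linter.unusedVariables false
set_option linter.style.haveILetI false

namespace Cfsg.Lib.Classical.TensorPowLin

open Matrix Finset
open scoped Kronecker MatrixGroups

universe u

variable {τ γ : Type} [Fintype τ] [DecidableEq τ] [Fintype γ] [DecidableEq γ] {F : Type u} [Field F]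

/-- The stabiliser of a slot. -/
def normalizerSlot [Nonempty γ] (i : τ) : Subgroup (GL (τ → γ) F) where
  carrier := {g | Eqj g i i}
  one_mem' A := ⟨A, conjM_id _⟩
  mul_mem' {a b} ha hb := Eqj.trans hb ha
  inv_mem' h := Eqj.inv h

theorem trace_slot_conjM (g : GL (τ → γ) F) (i : τ) (A : Matrix γ γ F) (M : Matrix (τ → γ) (τ → γ) F) :
    (slot i A * conjM g⁻¹ M).trace = (conjM g (slot i A) * M).trace := by
  rw [conjM_apply, conjM_apply, inv_inv, ← mul_assoc, ← mul_assoc, Matrix.trace_mul_comm]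
  simp only [mul_assoc]

theorem ptr_ext {i : τ} {M : Matrix (τ → γ) (τ → γ) F} {N : Matrix γ γ F}
    (h : ∀ A, (slot i A * M).trace = (A * N).trace) : ptr i M = N := by
  ext c d
  have := h (Matrix.single d c 1)
  rw [trace_slot_mul, Matrix.trace_single_mul, Matrix.trace_single_mul, one_smul, one_smul] at this
  exact this

/-- The conjugate of the projection onto slot `i`. -/
def qop (i : τ) (g : GL (τ → γ) F) : Matrix (τ → γ) (τ → γ) F →ₗ[F] Matrix (τ → γ) (τ → γ) F where
  toFun M := conjM g (slot i (ptr i (conjM g⁻¹ M)))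
  map_add' M N := by rw [map_add, map_add, slot_add, map_add]
  map_smul' c M := by rw [RingHom.id_apply, map_smul, map_smul, slot_smul, map_smul]

theorem qop_apply (i : τ) (g : GL (τ → γ) F) (M : Matrix (τ → γ) (τ → γ) F) :
    qop i g M = conjM g (slot i (ptr i (conjM g⁻¹ M))) := rfl

theorem qop_normal [Nonempty γ] {i : τ} {k : GL (τ → γ) F} (hk : Eqj k i i) (g : GL (τ → γ) F)
    (M : Matrix (τ → γ) (τ → γ) F) : qop i (g * k) M = qop i g M := by
  obtain ⟨b, hb⟩ := hk.inner
  have h1 : ∀ K : Matrix (τ → γ) (τ → γ) F,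
      ptr i (conjM k⁻¹ K) = ((b⁻¹ : GL γ F) : Matrix γ γ F) * ptr i K * (b : Matrix γ γ F) := fun K => ptr_ext fun A => by
    rw [trace_slot_conjM, hb, trace_slot_mul]
    simp only [mul_assoc]
    rw [Matrix.trace_mul_comm (b : Matrix γ γ F)]
    simp only [mul_assoc]
  rw [qop_apply, qop_apply, _root_.mul_inv_rev, ← conjM_conjM k⁻¹ g⁻¹, h1, ← conjM_conjM g k, hb]
  congr 2
  simp only [mul_assoc, Units.mul_inv_cancel_left, Units.mul_inv, mul_one]

theorem qop_left (i : τ) (x g : GL (τ → γ) F) (M : Matrix (τ → γ) (τ → γ) F) :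
    qop i (x * g) M = conjM x (qop i g (conjM x⁻¹ M)) := by
  simp only [qop_apply, _root_.mul_inv_rev, conjM_conjM]

theorem slotGL_normal [Nonempty γ] (j l : τ) (b : SpecialLinearGroup γ F) : Eqj (slotGL j b) l l := by
  intro A
  by_cases h : l = j
  · subst h
    exact ⟨(b : Matrix γ γ F) * A * ((b⁻¹ : SpecialLinearGroup γ F) : Matrix γ γ F), by
      rw [conjM_apply, slot_mul, slot_mul, ← map_inv]; rfl⟩
  · refine ⟨A, ?_⟩
    rw [conjM_apply, slotGL_val, (slot_comm (Ne.symm h) _ _).eq, mul_assoc, ← slotGL_val j b, Units.mul_inv, mul_one]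

theorem comm_of_normal {g k : GL (τ → γ) F} {i j : τ} (hk : Eqj k i i) (h : Comm g i j) : Comm (g * k) i j :=
  fun A B => by
    obtain ⟨A', hA⟩ := hk A
    rw [← conjM_conjM, hA]
    exact h A' B

theorem comm_left [Nonempty γ] {g x : GL (τ → γ) F} {i j : τ} (hx : Eqj x j j) (h : Comm g i j) :
    Comm (x * g) i j := fun A B => by
  obtain ⟨B', hB⟩ := hx.inv B
  have := commute_conjM x (h A B')
  rwa [conjM_conjM, ← hB, conjM_conjM_inv] at this

variable (F) in
/-- A commutative root group of a slot. -/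
def rootHom {V : Type*} [AddCommGroup V] (e : γ → F) (φ : V →+ (γ → F)) (hφ : ∀ v, φ v ⬝ᵥ e = 0) :
    Multiplicative V →* SpecialLinearGroup γ F where
  toFun v := ⟨1 + vecMulVec e (φ v.toAdd), by rw [LinOne.det_one', hφ, add_zero]⟩
  map_one' := Subtype.ext (by
    show 1 + vecMulVec e (φ (0 : V)) = 1
    rw [map_zero, vecMulVec_zero, add_zero])
  map_mul' v w := Subtype.ext (by
    show 1 + vecMulVec e (φ (v.toAdd + w.toAdd)) = (1 + vecMulVec e (φ v.toAdd)) * (1 + vecMulVec e (φ w.toAdd))
    rw [map_add, vecMulVec_add, add_mul, one_mul, mul_add, mul_one, vecMulVec_mul_vecMulVec, hφ, zero_smul,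
      vecMulVec_zero]
    abel)

theorem rootHom_val {V : Type*} [AddCommGroup V] (e : γ → F) (φ : V →+ (γ → F)) (hφ : ∀ v, φ v ⬝ᵥ e = 0) (v : V) :
    ((rootHom F e φ hφ (Multiplicative.ofAdd v) : SpecialLinearGroup γ F) : Matrix γ γ F) = 1 + vecMulVec e (φ v) :=
  rfl

theorem exists_pair_avoiding (h3 : 3 ≤ Fintype.card γ) (x u y v : γ) :
    (∃ p q : γ, p ≠ q ∧ p ≠ y ∧ p ≠ v ∧ q ≠ x ∧ q ≠ u) ∨
      (x ≠ u ∧ Fintype.card γ = 3 ∧ ∃ k, k ≠ x ∧ k ≠ u ∧ k ≠ y ∧ k ≠ v) := by
  by_cases h : ∃ p q : γ, p ≠ q ∧ p ≠ y ∧ p ≠ v ∧ q ≠ x ∧ q ≠ u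
  · exact Or.inl h
  push Not at h
  obtain ⟨p, hpy, hpv⟩ := exists_third h3 y v
  obtain ⟨k, hkx, hku⟩ := exists_third h3 x u
  have hpk : p = k := by
    by_contra hne
    exact hku (h p k hne hpy hpv hkx)
  subst hpk
  have hall : ∀ q, q = p ∨ q = x ∨ q = u := fun q => by
    by_contra hh
    push Not at hh
    exact hh.2.2 (h p q (Ne.symm hh.1) hpy hpv hh.2.1)
  have hsub : (Finset.univ : Finset γ) ⊆ {p, x, u} := fun q _ => by simpa using hall q
  have hle := Finset.card_le_card hsub
  rw [Finset.card_univ] at hle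
  refine Or.inr ⟨fun e => ?_, le_antisymm (hle.trans Finset.card_le_three) h3, p, hkx, hku, hpy, hpv⟩
  subst e
  have : ({p, x, x} : Finset γ).card ≤ 2 := by
    rw [show ({p, x, x} : Finset γ) = {p, x} by simp]
    exact Finset.card_le_two
  omega

theorem sum_field_eq_zero [Fintype F] (hF : 2 < Fintype.card F) : ∑ s : F, s = 0 := by
  have := FiniteField.sum_pow_lt_card_sub_one (K := F) 1 (by omega)
  simpa using this

variable [Fintype F] {X : Subgroup (GL (τ → γ) F)}

/-- The cosets of the stabiliser of slot `i`. -/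
abbrev Orbit [Nonempty γ] (X : Subgroup (GL (τ → γ) F)) (i : τ) : Type u :=
  X ⧸ (normalizerSlot (F := F) (γ := γ) i).subgroupOf X

/-- A representative. -/
noncomputable def rep [Nonempty γ] (i : τ) (ω : Orbit X i) : GL (τ → γ) F := ((ω.out : X) : GL (τ → γ) F)

theorem rep_mk [Nonempty γ] (i : τ) (g : X) :
    ∃ k : GL (τ → γ) F, Eqj k i i ∧ rep i (QuotientGroup.mk g : Orbit X i) = (g : GL (τ → γ) F) * k := by
  obtain ⟨h, hh⟩ := QuotientGroup.mk_out_eq_mul ((normalizerSlot (F := F) (γ := γ) i).subgroupOf X) g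
  exact ⟨((h : X) : GL (τ → γ) F), h.2, by rw [rep, hh]; rfl⟩

theorem rep_smul [Nonempty γ] (i : τ) (x : X) (ω : Orbit X i) :
    ∃ k : GL (τ → γ) F, Eqj k i i ∧ rep i (x • ω) = (x : GL (τ → γ) F) * rep i ω * k := by
  obtain ⟨k, hk, e⟩ := rep_mk i (x * ω.out)
  refine ⟨k, hk, ?_⟩
  rw [show (x • ω : Orbit X i) = QuotientGroup.mk (x * ω.out) by
    conv_lhs => rw [← QuotientGroup.out_eq' ω]
    rfl, e]
  rfl

/-- The conjugate is no slot, does not commute with slot `j`, and commutes with the slots in `s`. -/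
def Cls (i : τ) (s : Finset τ) (j : τ) (g : GL (τ → γ) F) : Prop :=
  (∀ l, ¬ Eqj g i l) ∧ ¬ Comm g i j ∧ ∀ l ∈ s, Comm g i l

/-- A free root group kills its classes. -/
theorem class_sum_zero [Nontrivial γ] (hX : Good X) (i j : τ) (s : Finset τ) {V : Type u} [AddCommGroup V]
    [Fintype V] {e : γ → F} (he : e ≠ 0) (φ : V →+ (γ → F)) (hφ : ∀ v, φ v ⬝ᵥ e = 0) (hinj : ∀ v, v ≠ 0 → φ v ≠ 0)
    (M : Matrix (τ → γ) (τ → γ) F) (v u : τ → γ)
    (horb : ∀ L : Matrix (τ → γ) (τ → γ) F →ₗ[F] Matrix (τ → γ) (τ → γ) F,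
      ∑ c : V, conjM (slotGL j (rootHom F e φ hφ (Multiplicative.ofAdd c)))
        (L (conjM (slotGL j (rootHom F e φ hφ (Multiplicative.ofAdd c)))⁻¹ M)) v u = 0)
    [Fintype (Orbit X i)] [DecidablePred fun ω : Orbit X i => Cls i s j (rep i ω)] :
    ∑ ω ∈ Finset.univ.filter (fun ω : Orbit X i => Cls i s j (rep i ω)), qop i (rep i ω) M v u = 0 := by
  classical
  let ρ : Multiplicative V →* X :=
    ((slotGL j).comp (rootHom F e φ hφ)).codRestrict X fun c => hX.slotGL_mem j _
  letI : MulAction (Multiplicative V) (Orbit X i) := MulAction.compHom _ ρ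
  have hρ : ∀ c : Multiplicative V, ((ρ c : X) : GL (τ → γ) F) = slotGL j (rootHom F e φ hφ c) := fun c => rfl
  have hrep : ∀ (c : Multiplicative V) (ω : Orbit X i), ∃ k : GL (τ → γ) F, Eqj k i i ∧
      rep i (c • ω) = slotGL j (rootHom F e φ hφ c) * rep i ω * k := fun c ω => rep_smul i (ρ c) ω
  refine TensorOrth.sum_zero_of_free (R := Multiplicative V) (fun ω => qop i (rep i ω) M v u) _ ?_ ?_ ?_
  · intro c ω hω
    rw [Finset.mem_filter] at hω ⊢
    obtain ⟨k, hk, ek⟩ := hrep c ω
    obtain ⟨h1, h2, h3⟩ := hω.2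
    refine ⟨Finset.mem_univ _, fun l hl => h1 l ?_, fun hc => h2 ?_, fun l hl => ?_⟩
    · have := (hk.inv.trans hl).trans (slotGL_normal j l (rootHom F e φ hφ c)).inv
      rwa [ek, mul_assoc _ k k⁻¹ |>.trans (by rw [mul_inv_cancel, mul_one]), inv_mul_cancel_left] at this
    · have := comm_left (slotGL_normal j j (rootHom F e φ hφ c)).inv (comm_of_normal hk.inv hc)
      rwa [ek, mul_inv_cancel_right, inv_mul_cancel_left] at this
    · rw [ek]
      exact comm_of_normal hk (comm_left (slotGL_normal j l _) (h3 l hl))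
  · intro c ω hω hfix
    by_contra hc
    obtain ⟨h1, h2, -⟩ := (Finset.mem_filter.mp hω).2
    set g := rep i ω with hg
    obtain ⟨k, hk, ek⟩ := hrep c ω
    rw [hfix] at ek
    have hn : Eqj (g⁻¹ * slotGL j (rootHom F e φ hφ c) * g) i i := by
      have e2 : g⁻¹ * slotGL j (rootHom F e φ hφ c) * g = k⁻¹ := by
        calc g⁻¹ * slotGL j (rootHom F e φ hφ c) * g
            = g⁻¹ * (slotGL j (rootHom F e φ hφ c) * g * k) * k⁻¹ := by group
          _ = k⁻¹ := by rw [← ek, inv_mul_cancel, one_mul]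
      rw [e2]
      exact hk.inv
    have hne : φ c.toAdd ≠ 0 := hinj _ fun h0 => hc (Multiplicative.toAdd.injective h0)
    rcases hX.root_cases (ω.out : X).2 he hne (hφ _) (k := slotGL j (rootHom F e φ hφ c))
      (slotGL_val j _) (kron_of_normal hn) with h | h
    · exact h1 j h
    · exact h2 h
  · intro ω hω
    rw [← Multiplicative.ofAdd.sum_comp]
    refine (Finset.sum_congr rfl fun c _ => ?_).trans (horb (qop i (rep i ω)))
    obtain ⟨k, hk, ek⟩ := hrep (Multiplicative.ofAdd c) ω
    rw [ek, qop_normal hk, qop_left]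

theorem single_mul_sl (x y : τ → γ) (j : τ) {p q : γ} (hy : y j ≠ p) :
    (Matrix.single x y (1 : F) * sl j p q : Matrix (τ → γ) (τ → γ) F) = 0 := by
  ext a b
  rw [mul_slot_single, Matrix.zero_apply]
  split_ifs with h
  · rw [Matrix.single_apply_of_ne _ _ _ _ _ (fun e => hy (by rw [e.2, Function.update_self])), zero_mul]
  · rfl

theorem sl_mul_single (x y : τ → γ) (j : τ) {p q : γ} (hx : x j ≠ q) :
    (sl j p q * Matrix.single x y (1 : F) : Matrix (τ → γ) (τ → γ) F) = 0 := by
  ext a b
  rw [slot_single_mul, Matrix.zero_apply]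
  split_ifs with h
  · rw [Matrix.single_apply_of_ne _ _ _ _ _ (fun e => hx (by rw [e.1, Function.update_self])), mul_zero]
  · rfl

theorem sl_mul_single_eq (x y : τ → γ) (j : τ) {p q : γ} (hx : x j = q) :
    (sl j p q * Matrix.single x y (1 : F) : Matrix (τ → γ) (τ → γ) F) =
      Matrix.single (Function.update x j p) y 1 := by
  ext a b
  rw [slot_single_mul, one_mul]
  by_cases h : Function.update x j p = a ∧ y = b
  · obtain ⟨rfl, rfl⟩ := h
    rw [if_pos (Function.update_self _ _ _), Function.update_idem, ← hx, Function.update_eq_self,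
      Matrix.single_apply_same, Matrix.single_apply_same]
  · rw [Matrix.single_apply_of_ne _ _ _ _ _ h]
    split_ifs with ha
    · rw [Matrix.single_apply_of_ne _ _ _ _ _ fun e => h ⟨?_, e.2⟩]
      rw [e.1, Function.update_idem, ← ha, Function.update_eq_self]
    · rfl

theorem slotGL_inv_val {V : Type*} [AddCommGroup V] (j : τ) (e : γ → F) (φ : V →+ (γ → F))
    (hφ : ∀ v, φ v ⬝ᵥ e = 0) (c : V) :
    (((slotGL j (rootHom F e φ hφ (Multiplicative.ofAdd c)))⁻¹ : GL (τ → γ) F) : Matrix (τ → γ) (τ → γ) F) =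
      1 - slot j (vecMulVec e (φ c)) := by
  rw [← map_inv, ← map_inv, slotGL_val, show (Multiplicative.ofAdd c)⁻¹ = Multiplicative.ofAdd (-c) from rfl,
    rootHom_val, map_neg, vecMulVec_neg, slot_add, slot_one, slot_neg, sub_eq_add_neg]

/-- The classes of non-slots are killed. -/
theorem class_zero [Nontrivial γ] (hX : Good X) (hq : 3 < Fintype.card γ ∨ 2 < Fintype.card F) (i j : τ)
    (s : Finset τ) (x y v u : τ → γ)
    [Fintype (Orbit X i)] [DecidablePred fun ω : Orbit X i => Cls i s j (rep i ω)] :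
    ∑ ω ∈ Finset.univ.filter (fun ω : Orbit X i => Cls i s j (rep i ω)),
      qop i (rep i ω) (Matrix.single x y (1 : F)) v u = 0 := by
  classical
  rcases exists_pair_avoiding hX.hyp.card₂ (x j) (u j) (y j) (v j) with
    ⟨p, q, hpq, hpy, hpv, hqx, hqu⟩ | ⟨hxu, h3, k, hkx, hku, hky, hkv⟩
  · let φ : F →+ (γ → F) := AddMonoidHom.mk' (fun c => Pi.single q c) fun a b => by rw [Pi.single_add]
    have hφ : ∀ c, φ c ⬝ᵥ Pi.single p 1 = 0 := fun c => by simp [φ, dotProduct_single, Pi.single_eq_of_ne hpq]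
    refine class_sum_zero hX i j s (e := Pi.single p (1 : F)) (by simp) φ hφ
      (fun c hc => by simpa [φ] using hc) _ v u fun L => ?_
    have hN : ∀ c, (slot j (vecMulVec (Pi.single p (1 : F)) (φ c)) : Matrix (τ → γ) (τ → γ) F) = c • sl j p q :=
      fun c => by
        rw [sl, ← slot_smul]
        congr 1
        rw [show φ c = Pi.single q c from rfl, Matrix.smul_single, smul_eq_mul, mul_one]
        ext a b
        simp only [vecMulVec_apply, Matrix.single_apply, Pi.single_apply]
        by_cases ha : a = p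
        · subst ha
          simp [eq_comm]
        · simp [ha, Ne.symm ha]
    have hterm : ∀ c : F, conjM (slotGL j (rootHom F (Pi.single p (1 : F)) φ hφ (Multiplicative.ofAdd c)))
        (L (conjM (slotGL j (rootHom F (Pi.single p (1 : F)) φ hφ (Multiplicative.ofAdd c)))⁻¹
          (Matrix.single x y 1))) v u = L (Matrix.single x y 1) v u := fun c => by
      rw [conjM_apply, conjM_apply, inv_inv, slotGL_inv_val, slotGL_val, rootHom_val, slot_add, slot_one, hN]
      have e1 : (1 - c • sl j p q) * Matrix.single x y (1 : F) * (1 + c • sl j p q) = Matrix.single x y 1 := by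
        rw [sub_mul, one_mul, smul_mul_assoc, sl_mul_single x y j hqx.symm, smul_zero, sub_zero, mul_add, mul_one,
          mul_smul_comm, single_mul_sl x y j hpy.symm, smul_zero, add_zero]
      rw [e1]
      simp only [add_mul, one_mul, mul_sub, mul_one, smul_mul_assoc, mul_smul_comm, Matrix.sub_apply, Matrix.add_apply,
        Matrix.smul_apply, slot_single_mul, mul_slot_single, if_neg hpv.symm, if_neg hqu.symm, smul_zero, add_zero,
        sub_zero]
    rw [Finset.sum_congr rfl fun c _ => hterm c, Finset.sum_const, Finset.card_univ, nsmul_eq_mul,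
      FiniteField.cast_card_eq_zero, zero_mul]
  · let φ : F × F →+ (γ → F) := AddMonoidHom.mk' (fun c => Pi.single (x j) c.1 + Pi.single (u j) c.2) fun a b => by
      rw [Prod.fst_add, Prod.snd_add, Pi.single_add, Pi.single_add]; abel
    have hφ : ∀ c, φ c ⬝ᵥ Pi.single k 1 = 0 := fun c => by
      simp [φ, dotProduct_single, Pi.single_eq_of_ne hkx, Pi.single_eq_of_ne hku]
    refine class_sum_zero hX i j s (e := Pi.single k (1 : F)) (by simp) φ hφ
      (fun c hc h0 => hc ?_) _ v u fun L => ?_
    · have h1 := congrFun h0 (x j)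
      have h2 := congrFun h0 (u j)
      simp [φ, Pi.single_eq_of_ne hxu, Pi.single_eq_of_ne hxu.symm] at h1 h2
      exact Prod.ext h1 h2
    have hN : ∀ c, (slot j (vecMulVec (Pi.single k (1 : F)) (φ c)) : Matrix (τ → γ) (τ → γ) F) =
        c.1 • sl j k (x j) + c.2 • sl j k (u j) := fun c => by
      rw [sl, sl, ← slot_smul, ← slot_smul, ← slot_add]
      congr 1
      rw [show φ c = Pi.single (x j) c.1 + Pi.single (u j) c.2 from rfl, Matrix.smul_single, Matrix.smul_single,
        smul_eq_mul, smul_eq_mul, mul_one, mul_one]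
      ext a b
      simp only [vecMulVec_apply, Matrix.add_apply, Pi.add_apply, Matrix.single_apply, Pi.single_apply]
      by_cases ha : a = k
      · subst ha
        simp [eq_comm]
      · simp [ha, Ne.symm ha]
    set K := L (Matrix.single x y 1)
    set K' := L (Matrix.single (Function.update x j k) y 1)
    have hterm : ∀ c : F × F, conjM (slotGL j (rootHom F (Pi.single k (1 : F)) φ hφ (Multiplicative.ofAdd c)))
        (L (conjM (slotGL j (rootHom F (Pi.single k (1 : F)) φ hφ (Multiplicative.ofAdd c)))⁻¹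
          (Matrix.single x y 1))) v u =
          K v u - c.1 * K' v u - (c.2 * K v (Function.update u j k) - c.1 * c.2 * K' v (Function.update u j k)) :=
      fun c => by
      rw [conjM_apply, conjM_apply, inv_inv, slotGL_inv_val, slotGL_val, rootHom_val, slot_add, slot_one, hN]
      have e1 : (1 - (c.1 • sl j k (x j) + c.2 • sl j k (u j))) * Matrix.single x y (1 : F) *
          (1 + (c.1 • sl j k (x j) + c.2 • sl j k (u j))) =
          Matrix.single x y 1 - c.1 • Matrix.single (Function.update x j k) y 1 := by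
        have hy' : Matrix.single (Function.update x j k) y (1 : F) * (c.1 • sl j k (x j) + c.2 • sl j k (u j)) = 0 := by
          rw [mul_add, mul_smul_comm, mul_smul_comm, single_mul_sl _ y j hky.symm, single_mul_sl _ y j hky.symm,
            smul_zero, smul_zero, add_zero]
        rw [sub_mul, one_mul, add_mul, smul_mul_assoc, smul_mul_assoc, sl_mul_single_eq x y j rfl,
          sl_mul_single x y j hxu, smul_zero, add_zero, sub_mul, smul_mul_assoc]
        simp only [mul_add, mul_one, mul_smul_comm, single_mul_sl _ y j hky.symm, smul_zero, add_zero]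
      rw [e1, map_sub, map_smul]
      simp only [K, K', add_mul, one_mul, mul_sub, mul_add, mul_one, smul_mul_assoc, mul_smul_comm, sub_mul,
        Matrix.sub_apply, Matrix.add_apply, Matrix.smul_apply, slot_single_mul, mul_slot_single, if_neg hkv.symm,
        if_neg hxu.symm, if_true, smul_zero, add_zero, zero_add, sub_zero, smul_eq_mul, mul_zero]
      ring
    have hF : 2 < Fintype.card F := hq.resolve_left (by omega)
    have hs := sum_field_eq_zero hF
    rw [Finset.sum_congr rfl fun c _ => hterm c]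
    simp only [Fintype.sum_prod_type, Finset.sum_sub_distrib, Finset.sum_const, Finset.card_univ, nsmul_eq_mul,
      FiniteField.cast_card_eq_zero, zero_mul, Finset.sum_const_zero, sub_zero, ← Finset.sum_mul, ← Finset.mul_sum,
      hs, mul_zero]
    rw [Fintype.card_prod, Nat.cast_mul, FiniteField.cast_card_eq_zero]
    rw [show ∑ a : F, ∑ b : F, a * b = 0 by rw [← Finset.sum_mul_sum, hs, zero_mul]]
    simp

/-- The off-diagonal units of a slot are moved into the span of the slots. -/
theorem conj_mem_span [Nontrivial γ] (hX : Good X) (hq : 3 < Fintype.card γ ∨ 2 < Fintype.card F)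
    {g : GL (τ → γ) F} (hg : g ∈ X) (i : τ) {a b : γ} (hab : a ≠ b) :
    InL (conjM g (slot i (Matrix.single a b (1 : F)))) := by
  classical
  letI : Fintype (Orbit X i) := Fintype.ofFinite _
  set T : Matrix (τ → γ) (τ → γ) F →ₗ[F] Matrix (τ → γ) (τ → γ) F := ∑ ω : Orbit X i, qop i (rep i ω) with hT
  have hTa : ∀ M, T M = ∑ ω : Orbit X i, qop i (rep i ω) M := fun M => by rw [hT, LinearMap.sum_apply]
  have hTeq : ∀ x ∈ X, ∀ M, T (conjM x M) = conjM x (T M) := by
    intro x hx M
    rw [hTa, hTa, map_sum]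
    refine (Equiv.sum_comp (MulAction.toPerm (⟨x, hx⟩ : X) : Equiv.Perm (Orbit X i)) _).symm.trans ?_
    refine Finset.sum_congr rfl fun ω _ => ?_
    obtain ⟨k, hk, ek⟩ := rep_smul i (⟨x, hx⟩ : X) ω
    rw [MulAction.toPerm_apply, ek, qop_normal hk, qop_left, conjM_inv_conjM]
  set S : Finset (Orbit X i) := Finset.univ.filter fun ω => ∃ l, Eqj (rep i ω) i l with hS
  have hzero : ∀ M, ∑ ω ∈ Sᶜ, qop i (rep i ω) M = 0 := by
    have key : ∀ s : Finset τ, ∀ x y v u : τ → γ,
        ∑ ω ∈ Finset.univ.filter (fun ω : Orbit X i =>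
          (∀ l, ¬ Eqj (rep i ω) i l) ∧ ∃ l ∈ s, ¬ Comm (rep i ω) i l),
          qop i (rep i ω) (Matrix.single x y (1 : F)) v u = 0 := by
      intro s x y v u
      induction s using Finset.induction_on with
      | empty => simp
      | insert a s ha ih =>
        have hsplit : Finset.univ.filter (fun ω : Orbit X i =>
            (∀ l, ¬ Eqj (rep i ω) i l) ∧ ∃ l ∈ insert a s, ¬ Comm (rep i ω) i l) =
            Finset.univ.filter (fun ω : Orbit X i => (∀ l, ¬ Eqj (rep i ω) i l) ∧ ∃ l ∈ s, ¬ Comm (rep i ω) i l) ∪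
              Finset.univ.filter (fun ω : Orbit X i => Cls i s a (rep i ω)) := by
          ext ω
          simp only [Finset.mem_filter, Finset.mem_univ, true_and, Finset.mem_union, Finset.mem_insert]
          constructor
          · rintro ⟨h1, l, hl, hc⟩
            by_cases h2 : ∃ l ∈ s, ¬ Comm (rep i ω) i l
            · exact Or.inl ⟨h1, h2⟩
            · push Not at h2
              rcases hl with rfl | hl
              · exact Or.inr ⟨h1, hc, h2⟩
              · exact absurd (h2 l hl) hc
          · rintro (⟨h1, l, hl, hc⟩ | ⟨h1, hc, -⟩)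
            · exact ⟨h1, l, Or.inr hl, hc⟩
            · exact ⟨h1, a, Or.inl rfl, hc⟩
        rw [hsplit, Finset.sum_union, ih, class_zero hX hq i a s x y v u, add_zero]
        rw [Finset.disjoint_filter]
        rintro ω - ⟨-, l, hl, hc⟩ ⟨-, -, h3⟩
        exact hc (h3 l hl)
    intro M
    have hset : Sᶜ = Finset.univ.filter (fun ω : Orbit X i =>
        (∀ l, ¬ Eqj (rep i ω) i l) ∧ ∃ l ∈ (Finset.univ : Finset τ), ¬ Comm (rep i ω) i l) := by
      ext ω
      simp only [hS, Finset.mem_compl, Finset.mem_filter, Finset.mem_univ, true_and, not_exists]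
      exact ⟨fun h => ⟨h, exists_not_comm _ i⟩, fun h => h.1⟩
    rw [matrix_eq_sum_single M]
    simp only [map_sum]
    rw [Finset.sum_comm]
    refine Finset.sum_eq_zero fun x _ => ?_
    rw [Finset.sum_comm]
    refine Finset.sum_eq_zero fun y _ => ?_
    rw [show Matrix.single x y (M x y) = M x y • Matrix.single x y (1 : F) by
      rw [Matrix.smul_single, smul_eq_mul, mul_one]]
    simp only [map_smul]
    rw [← Finset.smul_sum, hset]
    refine smul_eq_zero_of_right _ (Matrix.ext fun v u => ?_)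
    rw [Matrix.sum_apply, Matrix.zero_apply]
    exact key Finset.univ x y v u
  have hTS : ∀ M, T M = ∑ ω ∈ S, qop i (rep i ω) M := fun M => by
    rw [hTa, ← Finset.sum_add_sum_compl S, hzero, add_zero]
  have hTL : ∀ M, InL (T M) := fun M => by
    rw [hTS]
    refine InL.sum _ fun ω hω => ?_
    obtain ⟨l, hl⟩ := (Finset.mem_filter.mp hω).2
    obtain ⟨A, hA⟩ := hl (ptr i (conjM (rep i ω)⁻¹ M))
    rw [qop_apply, hA]
    exact InL.slot l A
  obtain ⟨o⟩ : Nonempty γ := inferInstance
  set x : τ → γ := Function.update (fun _ => o) i a with hx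
  set y : τ → γ := Function.update (fun _ => o) i b with hy
  have hN : T (Matrix.single x y 1) = slot i (Matrix.single a b (1 : F)) := by
    rw [hTS]
    have hbase : ∃ k, Eqj k i i ∧ rep i (QuotientGroup.mk (1 : X) : Orbit X i) = k := by
      obtain ⟨k, hk, e⟩ := rep_mk i (1 : X)
      exact ⟨k, hk, by rw [e, Subgroup.coe_one, one_mul]⟩
    obtain ⟨k, hk, ek⟩ := hbase
    have h0 : qop i (rep i (QuotientGroup.mk (1 : X) : Orbit X i)) (Matrix.single x y 1) =
        slot i (Matrix.single a b (1 : F)) := by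
      rw [ek, ← one_mul k, qop_normal hk, qop_apply, inv_one, conjM_id, conjM_id, ptr_single, if_pos]
      · simp [hx, hy]
      · intro l hl; simp [hx, hy, hl]
    rw [← h0]
    refine Finset.sum_eq_single _ (fun ω hω hne => ?_) (fun h => absurd ?_ h)
    · obtain ⟨l, hl⟩ := (Finset.mem_filter.mp hω).2
      have hli : l ≠ i := by
        intro e
        rw [e] at hl
        refine hne ?_
        rw [← QuotientGroup.out_eq' ω]
        refine (QuotientGroup.eq.mpr ?_)
        show Eqj (((ω.out)⁻¹ * 1 : X) : GL (τ → γ) F) i i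
        rw [mul_one]
        exact Eqj.inv hl
      rw [qop_apply, ptr_eq_zero, slot_zero, map_zero]
      intro A
      obtain ⟨A', hA⟩ := hl A
      rw [trace_slot_conjM, hA, trace_slot_mul, ptr_single, if_neg, mul_zero, Matrix.trace_zero]
      exact fun h => hab (by simpa [hx, hy] using h i hli.symm)
    · rw [hS, Finset.mem_filter]
      exact ⟨Finset.mem_univ _, i, ek ▸ hk⟩
  rw [← hN, ← hTeq g hg]
  exact hTL _

end Cfsg.Lib.Classical.TensorPowLin
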