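import Cfsg.Agent.Classical.TensorPowLin.Avg

/-!
# Elements permuting the slots
-/

set_option autoImplicit false
set_option linter.unusedSectionVars false
set_option linter.unusedSimpArgs false
set_option linter.unusedVariables false
set_option linter.style.haveILetI false

namespace Cfsg.Lib.Classical.TensorPowLin

open Matrix Finset
open scoped Kronecker MatrixGroups

universe u

variable {τ γ : Type} [Fintype τ] [DecidableEq τ] [Fintype γ] [DecidableEq γ] {F : Type u} [Field F]

/-- The tensor product of units. -/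
def tensGL : (τ → GL γ F) →* GL (τ → γ) F where
  toFun b := ⟨tens fun l => (b l : Matrix γ γ F), tens fun l => ((b l)⁻¹ : GL γ F).1,
    by
      rw [tens_mul, ← tens_one]
      exact congrArg tens (funext fun l => Units.mul_inv (b l)),
    by
      rw [tens_mul, ← tens_one]
      exact congrArg tens (funext fun l => Units.inv_mul (b l))⟩
  map_one' := Units.ext tens_one
  map_mul' b b' := Units.ext (tens_mul _ _).symm

theorem tensGL_val (b : τ → GL γ F) :
    ((tensGL b : GL (τ → γ) F) : Matrix (τ → γ) (τ → γ) F) = tens fun l => (b l : Matrix γ γ F) := rfl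

theorem tensGL_slot (b : τ → GL γ F) (i : τ) (A : Matrix γ γ F) :
    conjM (tensGL b) (slot i A) = slot i ((b i : Matrix γ γ F) * A * ((b i)⁻¹ : GL γ F).1) := by
  rw [conjM_apply, ← map_inv, tensGL_val, tensGL_val, slot, slot, tens_mul, tens_mul]
  congr 1
  funext l
  by_cases h : l = i
  · subst h; simp
  · simp [h]

theorem perm_conj (σ : Equiv.Perm τ) (i : τ) (A : Matrix γ γ F) :
    conjM (permGL σ) (slot i A) = slot (σ i) A := by
  rw [conjM_apply, permGL_val, perm_slot, mul_assoc, ← permGL_val, Units.mul_inv, mul_one]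

theorem eqj_unique [Nontrivial γ] {g : GL (τ → γ) F} {i j k : τ} (h : Eqj g i j) (h' : Eqj g i k) : j = k := by
  by_contra hne
  obtain ⟨a, b, hab⟩ := exists_pair_ne γ
  obtain ⟨φ, hφ, ⟨hinj, hs⟩, -⟩ := h.exists_map
  obtain ⟨A, hA⟩ := hs (Matrix.single a b 1)
  obtain ⟨B, hB⟩ := h' A
  rw [hφ, hA] at hB
  obtain ⟨c, hc⟩ := eq_scalar_of_comm (M := slot j (Matrix.single a b (1 : F))) fun l C => by
    by_cases hl : l = j
    · subst hl
      rw [hB]
      exact slot_comm hne _ _
    · exact slot_comm hl _ _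
  exact not_scalar_slot j hab c hc

theorem eqj_one [Nontrivial γ] {i j : τ} (h : Eqj (1 : GL (τ → γ) F) i j) : i = j :=
  eqj_unique (fun A => ⟨A, conjM_id _⟩) h

theorem eqj_source [Nontrivial γ] {g : GL (τ → γ) F} {i i' j : τ} (h : Eqj g i j) (h' : Eqj g i' j) : i = i' :=
  eqj_one (by simpa using h.trans h'.inv)

variable (τ γ F) in
/-- The elements permuting the slots. -/
def permuting [Nontrivial γ] : Subgroup (GL (τ → γ) F) where
  carrier := {g | ∀ i, ∃ j, Eqj g i j}
  one_mem' i := ⟨i, fun A => ⟨A, conjM_id _⟩⟩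
  mul_mem' {a b} ha hb i := by
    obtain ⟨j, hj⟩ := hb i
    obtain ⟨k, hk⟩ := ha j
    exact ⟨k, hj.trans hk⟩
  inv_mem' {a} ha := by
    choose f hf using ha
    have hinj : Function.Injective f := fun i i' e => eqj_source (hf i) (e ▸ hf i')
    intro j
    obtain ⟨i, rfl⟩ := Finite.injective_iff_surjective.mp hinj j
    exact ⟨i, (hf i).inv⟩

theorem permGL_mem [Nontrivial γ] (σ : Equiv.Perm τ) : permGL σ ∈ permuting τ γ F :=
  fun i => ⟨σ i, fun A => ⟨A, perm_conj σ i A⟩⟩

theorem tensGL_mem [Nontrivial γ] (b : τ → GL γ F) : tensGL b ∈ permuting τ γ F :=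
  fun i => ⟨i, fun A => ⟨_, tensGL_slot b i A⟩⟩

/-- An element permuting the slots is a permutation of the slots times a pure tensor. -/
theorem decomp [Nontrivial γ] [Nonempty τ] {g : GL (τ → γ) F} (hg : g ∈ permuting τ γ F) :
    ∃ (σ : Equiv.Perm τ) (b : τ → GL γ F), g = permGL σ * tensGL b := by
  classical
  choose f hf using (hg : ∀ i, ∃ j, Eqj g i j)
  have hinj : Function.Injective f := fun i i' e => eqj_source (hf i) (e ▸ hf i')
  set σ : Equiv.Perm τ := Equiv.ofBijective f ⟨hinj, Finite.injective_iff_surjective.mp hinj⟩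
  set h := (permGL σ)⁻¹ * g with hh
  have hfix : ∀ i, Eqj h i i := fun i A => by
    obtain ⟨A', hA⟩ := hf i A
    refine ⟨A', ?_⟩
    rw [hh, ← conjM_conjM, hA, show slot (f i) A' = conjM (permGL σ) (slot i A') from (perm_conj σ i A').symm,
      conjM_inv_conjM]
  choose b hb using fun i => (hfix i).inner
  set k := (tensGL b)⁻¹ * h with hk
  obtain ⟨c, hc⟩ := eq_scalar_of_comm (M := (k : Matrix (τ → γ) (τ → γ) F)) fun l A => by
    have e : conjM k (slot l A) = slot l A := by
      rw [hk, ← conjM_conjM, hb l A, ← tensGL_slot b l A, conjM_inv_conjM]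
    rw [conjM_apply] at e
    show slot l A * _ = _ * slot l A
    conv_lhs => rw [← e]
    rw [mul_assoc, Units.inv_mul, mul_one]
  have hc0 : c ≠ 0 := by
    rintro rfl
    have h0 := Units.mul_inv k
    rw [hc, zero_smul, zero_mul] at h0
    have h1 := congrFun (congrFun h0 fun _ => Classical.arbitrary γ) fun _ => Classical.arbitrary γ
    rw [Matrix.one_apply_eq, Matrix.zero_apply] at h1
    exact zero_ne_one h1
  obtain ⟨i₀⟩ := ‹Nonempty τ›
  set z : τ → GL γ F := Pi.mulSingle i₀ (GeneralLinearGroup.scalar γ (Units.mk0 c hc0)) with hz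
  have hkz : k = tensGL z := by
    refine Units.ext ?_
    rw [hc, tensGL_val, ← slot_scalar i₀ c, slot]
    congr 1
    funext l
    by_cases hl : l = i₀
    · subst hl
      simp [hz, GeneralLinearGroup.scalar, ← Matrix.smul_one_eq_diagonal]
    · simp [hz, hl]
  refine ⟨σ, b * z, ?_⟩
  rw [map_mul, ← hkz, hk, mul_inv_cancel_left, hh, mul_inv_cancel_left]

end Cfsg.Lib.Classical.TensorPowLin
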