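import Cfsg.Agent.Classical.TensorPowLin.Two
import Cfsg.Agent.Classical.TensorMax.Main

/-!
# The stabiliser of a tensor power decomposition is maximal in the special linear group
-/

set_option autoImplicit false
set_option linter.unusedSectionVars false
set_option linter.unusedSimpArgs false
set_option linter.unusedVariables false
set_option linter.style.haveILetI false

namespace Cfsg.Lib.Classical.TensorPowLin

open Matrix Finset
open scoped MatrixGroups
open Cfsg.Lib.Classical.TensorMax (mem_specialLinear isMaximalIn_map)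

universe u

variable {F : Type u} [Field F] {m t : ℕ}

theorem mem_wreath_of_tens {g : GL (Fin t → Fin m) F} {σ : Equiv.Perm (Fin t)} {b : Fin t → GL (Fin m) F}
    (h : g = permGL σ * tensGL b) : g ∈ Cfsg.Geo.tensorWreathStandard m t F := by
  rw [h]
  exact mul_mem (Subgroup.subset_closure (Or.inr ⟨σ, fun x y => rfl⟩))
    (Subgroup.subset_closure (Or.inl ⟨b, fun x y => rfl⟩))

theorem wreath_le_permuting [Nontrivial (Fin m)] :
    Cfsg.Geo.tensorWreathStandard m t F ≤ permuting (Fin t) (Fin m) F := by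
  rw [Cfsg.Geo.tensorWreathStandard, Subgroup.closure_le]
  rintro g (⟨gs, hgs⟩ | ⟨σ, hσ⟩)
  · rw [show g = tensGL gs from Units.ext (Matrix.ext fun x y => hgs x y)]
    exact tensGL_mem gs
  · rw [show g = permGL σ from Units.ext (Matrix.ext fun x y => hσ x y)]
    exact permGL_mem σ

theorem det_perm_cyc {a b c : Fin t} (hab : a ≠ b) (hbc : b ≠ c) (hac : a ≠ c) :
    (perm (Equiv.swap a b * Equiv.swap b c) : Matrix (Fin t → Fin m) (Fin t → Fin m) F).det = 1 := by
  set d : Equiv.Perm (Fin t) → F := fun σ => (perm σ : Matrix (Fin t → Fin m) (Fin t → Fin m) F).det with hd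
  have hmul : ∀ σ π, d (σ * π) = d σ * d π := fun σ π => by simp only [hd]; rw [← perm_mul, det_mul]
  have h1 : d 1 = 1 := by simp only [hd]; rw [perm_one, det_one]
  have hsw : ∀ p q, d (Equiv.swap p q) * d (Equiv.swap p q) = 1 := fun p q => by
    rw [← hmul, Equiv.swap_mul_self, h1]
  have h3 : (Equiv.swap a b * Equiv.swap b c) * (Equiv.swap a b * Equiv.swap b c) *
      (Equiv.swap a b * Equiv.swap b c) = 1 := by
    ext x
    simp only [Equiv.Perm.mul_apply, Equiv.Perm.one_apply]
    by_cases hxa : x = a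
    · subst hxa; simp [Equiv.swap_apply_def, hab, hab.symm, hbc, hbc.symm, hac, hac.symm]
    · by_cases hxb : x = b
      · subst hxb; simp [Equiv.swap_apply_def, hab, hab.symm, hbc, hbc.symm, hac, hac.symm]
      · by_cases hxc : x = c
        · subst hxc; simp [Equiv.swap_apply_def, hab, hab.symm, hbc, hbc.symm, hac, hac.symm]
        · simp [Equiv.swap_apply_def, hxa, hxb, hxc]
  have h2 : d (Equiv.swap a b * Equiv.swap b c) * d (Equiv.swap a b * Equiv.swap b c) = 1 := by
    rw [hmul, mul_mul_mul_comm, hsw, hsw, one_mul]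
  have h := congrArg d h3
  rw [hmul, hmul, h1, ← hmul, hmul (Equiv.swap a b * Equiv.swap b c) (Equiv.swap a b * Equiv.swap b c), h2, one_mul] at h
  exact h

theorem hyp_of_le (hm : 3 ≤ m) {Y : Subgroup (GL (Fin t → Fin m) F)}
    (hY : Cfsg.Geo.tensorWreathStandard m t F ⊓ Cfsg.Geo.specialLinear (Fin t → Fin m) F ≤ Y) : Hyp Y where
  card₂ := by rw [Fintype.card_fin]; exact hm
  slot i A hA := by
    obtain ⟨b, rfl⟩ : ∃ b : SpecialLinearGroup (Fin m) F, (b : Matrix (Fin m) (Fin m) F) = A := ⟨⟨A, hA⟩, rfl⟩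
    refine ⟨slotGL i b, hY ⟨?_, (mem_specialLinear _).mpr ?_⟩, rfl⟩
    · rw [slotGL_eq_tensGL]
      exact Subgroup.subset_closure (Or.inl ⟨_, fun x y => rfl⟩)
    · exact det_slot i hA
  cyc a b c hab hbc hac := by
    refine ⟨permGL (Equiv.swap a b * Equiv.swap b c), hY ⟨?_, (mem_specialLinear _).mpr ?_⟩, rfl⟩
    · exact Subgroup.subset_closure (Or.inr ⟨_, fun x y => rfl⟩)
    · exact det_perm_cyc hab hbc hac

/-- A group between the stabiliser and the special linear group permutes the slots, unless it is everything. -/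
theorem le_wreath [Fintype F] (hm : 3 ≤ m) (ht : 1 ≤ t) {Y : Subgroup (GL (Fin t → Fin m) F)} (hH : Hyp Y)
    (hnot : ¬ Cfsg.Geo.specialLinear (Fin t → Fin m) F ≤ Y) : Y ≤ Cfsg.Geo.tensorWreathStandard m t F := by
  haveI : Nontrivial (Fin m) := Fin.nontrivial_iff_two_le.mpr (by omega)
  haveI : Nonempty (Fin t) := Fin.pos_iff_nonempty.mp (by omega)
  intro g hg
  have hperm : g ∈ permuting (Fin t) (Fin m) F := fun i => permutes (by rw [Fintype.card_fin]; exact hm) g i fun a b hab => by
    by_cases hq : 3 < Fintype.card (Fin m) ∨ 2 < Fintype.card F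
    · exact conj_mem_span (hH.good hnot) hq hg i hab
    · push Not at hq
      have hF : Fintype.card F = 2 := le_antisymm hq.2 Fintype.one_lt_card
      exact conj_mem_span_two hH hnot (le_antisymm hq.1 (by rw [Fintype.card_fin]; exact hm)) hF hg i _
  obtain ⟨σ, b, h⟩ := decomp hperm
  exact mem_wreath_of_tens h

theorem standard_lt [Fintype F] (hm : 3 ≤ m) (ht : 2 ≤ t) :
    Cfsg.Geo.tensorWreathStandard m t F ⊓ Cfsg.Geo.specialLinear (Fin t → Fin m) F <
      Cfsg.Geo.specialLinear (Fin t → Fin m) F := by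
  haveI : Nontrivial (Fin m) := Fin.nontrivial_iff_two_le.mpr (by omega)
  refine lt_of_le_of_ne inf_le_right fun h => ?_
  obtain ⟨p, q, hpq⟩ := exists_pair_ne (Fin m)
  set i : Fin t := ⟨0, by omega⟩
  set o : Fin t := ⟨1, by omega⟩
  have hio : i ≠ o := by simp [i, o]
  set x : Fin t → Fin m := fun _ => p
  set y : Fin t → Fin m := fun _ => q
  have hxy : x ≠ y := fun e => hpq (congrFun e i)
  have hdet : (Matrix.transvection x y (1 : F)).det = 1 := Matrix.det_transvection_of_ne _ _ hxy _
  set g : GL (Fin t → Fin m) F := Matrix.GeneralLinearGroup.mkOfDetNeZero (Matrix.transvection x y (1 : F))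
    (by rw [hdet]; exact one_ne_zero)
  have hg : g ∈ Cfsg.Geo.tensorWreathStandard m t F ⊓ Cfsg.Geo.specialLinear (Fin t → Fin m) F := by
    rw [h]
    exact (mem_specialLinear g).mpr hdet
  obtain ⟨j, hj⟩ := wreath_le_permuting hg.1 i
  obtain ⟨A, hA⟩ := hj (Matrix.single p p (1 : F))
  have hgv : (g : Matrix (Fin t → Fin m) (Fin t → Fin m) F) = 1 + Matrix.single x y 1 := rfl
  have hgi : ((g⁻¹ : GL (Fin t → Fin m) F) : Matrix (Fin t → Fin m) (Fin t → Fin m) F) =
      1 - Matrix.single x y 1 := by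
    rw [Matrix.coe_units_inv, hgv]
    exact Matrix.inv_eq_right_inv (by
      rw [add_mul, one_mul, mul_sub, mul_one, Matrix.single_mul_single_of_ne _ _ _ _ hxy.symm, sub_zero,
        sub_add_cancel])
  have e1 : Matrix.single x y (1 : F) * slot i (Matrix.single p p (1 : F)) = 0 := single_mul_sl x y i (Ne.symm hpq)
  have e2 : slot i (Matrix.single p p (1 : F)) * Matrix.single x y (1 : F) = Matrix.single x y 1 := by
    have h' := sl_mul_single_eq (F := F) x y i (p := p) (q := p) rfl
    rwa [show Function.update x i p = x from Function.update_eq_self i x] at h'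
  have hA' : slot j A = slot i (Matrix.single p p (1 : F)) - Matrix.single x y 1 := by
    rw [← hA, conjM_apply, hgv, hgi, add_mul, one_mul, e1, add_zero, mul_sub, mul_one, e2]
  obtain ⟨l, hlj⟩ := exists_ne_of_two (j := j) hio
  have h0 := slot_apply_ne j A (x := x) (y := y) hlj hpq
  rw [hA', Matrix.sub_apply, Matrix.single_apply_same, slot_single_apply, if_neg, zero_sub, neg_eq_zero] at h0
  · exact one_ne_zero h0
  · rintro ⟨-, e⟩
    exact hpq (by simpa [x, y, Function.update_of_ne hio.symm] using (congrFun e o).symm)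
where
  exists_ne_of_two {j i o : Fin t} (hio : i ≠ o) : ∃ l, l ≠ j := by
    by_cases h : i = j
    · exact ⟨o, fun e => hio (h.trans e.symm)⟩
    · exact ⟨i, h⟩

/-- The standard stabiliser is maximal in the special linear group. -/
theorem isMaximalIn_standard [Fintype F] (hm : 3 ≤ m) (ht : 2 ≤ t) :
    Cfsg.Geo.IsMaximalIn (Cfsg.Geo.specialLinear (Fin t → Fin m) F)
      (Cfsg.Geo.tensorWreathStandard m t F ⊓ Cfsg.Geo.specialLinear (Fin t → Fin m) F) := by
  refine ⟨standard_lt hm ht, fun M h₁ h₂ => ?_⟩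
  by_cases hfull : Cfsg.Geo.specialLinear (Fin t → Fin m) F ≤ M
  · exact Or.inr (le_antisymm h₂ hfull)
  · exact Or.inl (le_antisymm (le_inf (le_wreath hm (by omega) (hyp_of_le hm h₁) hfull) h₂) h₁)

/-- The stabiliser of a tensor power decomposition is maximal in the special linear group. -/
theorem isMaximalIn_tensorWreath [Fintype F] {ι : Type} [Fintype ι] [DecidableEq ι] (m t : ℕ) (hm : 3 ≤ m)
    (ht : 2 ≤ t) (e : ι ≃ (Fin t → Fin m)) (P : GL ι F) :
    Cfsg.Geo.IsMaximalIn (Cfsg.Geo.specialLinear ι F)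
      (Cfsg.Geo.tensorWreathSubgroup m t e P ⊓ Cfsg.Geo.specialLinear ι F) := by
  let φ : GL (Fin t → Fin m) F ≃* GL ι F := (Cfsg.Geo.glReindex e.symm).trans (MulAut.conj P)
  have hdet : ∀ g, ((φ g : GL ι F) : Matrix ι ι F).det = (g : Matrix (Fin t → Fin m) (Fin t → Fin m) F).det := by
    intro g
    show ((P * Cfsg.Geo.glReindex e.symm g * P⁻¹ : GL ι F) : Matrix ι ι F).det = _
    rw [Units.val_mul, Units.val_mul, det_mul, det_mul, mul_comm _ (Matrix.det _), ← mul_assoc, ← det_mul,
      ← Units.val_mul, inv_mul_cancel, Units.val_one, det_one, one_mul]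
    exact Matrix.det_reindex_self e.symm _
  have hSL : (Cfsg.Geo.specialLinear (Fin t → Fin m) F).map φ.toMonoidHom = Cfsg.Geo.specialLinear ι F := by
    ext g
    rw [Subgroup.mem_map_equiv, mem_specialLinear, mem_specialLinear, ← hdet, MulEquiv.apply_symm_apply]
  have hK : (Cfsg.Geo.tensorWreathStandard m t F ⊓ Cfsg.Geo.specialLinear (Fin t → Fin m) F).map φ.toMonoidHom =
      Cfsg.Geo.tensorWreathSubgroup m t e P ⊓ Cfsg.Geo.specialLinear ι F := by
    rw [Subgroup.map_inf _ _ _ φ.injective, hSL, Cfsg.Geo.tensorWreathSubgroup, Subgroup.map_map]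
    rfl
  have := isMaximalIn_map φ (isMaximalIn_standard (F := F) hm ht)
  rwa [hSL, hK] at this

end Cfsg.Lib.Classical.TensorPowLin
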