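import Mathlib

/-!
# Slots of a tensor power of matrix algebras
-/

set_option autoImplicit false
set_option linter.unusedSectionVars false
set_option linter.unusedSimpArgs false

namespace Cfsg.Lib.Classical.TensorPowLin

open Matrix Finset
open scoped Kronecker MatrixGroups

universe u

variable {τ γ : Type} [Fintype τ] [DecidableEq τ] [Fintype γ] [DecidableEq γ] {F : Type u} [Field F]

/-- The other slots. -/
abbrev Rest (i : τ) := {l : τ // l ≠ i}

/-- Separation of one slot. -/
def slotE (i : τ) : (τ → γ) ≃ (Rest i → γ) × γ := (Equiv.funSplitAt i γ).trans (Equiv.prodComm _ _)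

theorem slotE_apply (i : τ) (x : τ → γ) : slotE i x = (fun l : Rest i => x l, x i) := rfl

theorem rest_ext {i : τ} {x y : τ → γ} (h : (fun l : Rest i => x l) = fun l : Rest i => y l) {l : τ} (hl : l ≠ i) :
    x l = y l := congrFun h ⟨l, hl⟩

/-- Coordinates adapted to one slot. -/
def toBig (i : τ) :
    Matrix ((Rest i → γ) × γ) ((Rest i → γ) × γ) F ≃ₐ[F] Matrix (τ → γ) (τ → γ) F :=
  Matrix.reindexAlgEquiv F F (slotE i).symm

theorem toBig_apply (i : τ) (N : Matrix ((Rest i → γ) × γ) ((Rest i → γ) × γ) F) (x y : τ → γ) :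
    toBig i N x y = N (fun l : Rest i => x l, x i) (fun l : Rest i => y l, y i) := rfl

/-- The tensor product of a family of matrices. -/
def tens (f : τ → Matrix γ γ F) : Matrix (τ → γ) (τ → γ) F := Matrix.of fun x y => ∏ l, f l (x l) (y l)

theorem tens_apply (f : τ → Matrix γ γ F) (x y : τ → γ) : tens f x y = ∏ l, f l (x l) (y l) := rfl

theorem tens_mul (f g : τ → Matrix γ γ F) : tens f * tens g = tens (f * g) := by
  ext x y
  simp only [Matrix.mul_apply, tens_apply, Pi.mul_apply]
  rw [Fintype.prod_sum]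
  exact Finset.sum_congr rfl fun z _ => Finset.prod_mul_distrib.symm

theorem tens_one : tens (1 : τ → Matrix γ γ F) = 1 := by
  ext x y
  rw [tens_apply]
  by_cases h : x = y
  · subst h; simp
  · obtain ⟨l, hl⟩ := Function.ne_iff.mp h
    rw [Matrix.one_apply_ne h, Finset.prod_eq_zero (Finset.mem_univ l)]
    simp [hl]

theorem single_eq_tens (x y : τ → γ) :
    Matrix.single x y (1 : F) = tens fun l => Matrix.single (x l) (y l) (1 : F) := by
  ext a b
  rw [tens_apply]
  by_cases h : x = a ∧ y = b
  · obtain ⟨rfl, rfl⟩ := h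
    simp
  · rw [Matrix.single_apply_of_ne _ _ _ _ _ h]
    rcases not_and_or.mp h with h | h <;> obtain ⟨l, hl⟩ := Function.ne_iff.mp h
    · refine (Finset.prod_eq_zero (Finset.mem_univ l) ?_).symm
      exact Matrix.single_apply_of_ne (x l) (y l) (1 : F) (a l) (b l) fun e => hl e.1
    · refine (Finset.prod_eq_zero (Finset.mem_univ l) ?_).symm
      exact Matrix.single_apply_of_ne (x l) (y l) (1 : F) (a l) (b l) fun e => hl e.2

/-- A matrix in one slot. -/
def slot (i : τ) (A : Matrix γ γ F) : Matrix (τ → γ) (τ → γ) F := tens (Pi.mulSingle i A)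

theorem slot_eq (i : τ) (A : Matrix γ γ F) : slot i A = toBig i ((1 : Matrix _ _ F) ⊗ₖ A) := by
  ext x y
  rw [toBig_apply, slot, tens_apply, kroneckerMap_apply, ← Finset.prod_erase_mul _ _ (Finset.mem_univ i),
    Pi.mulSingle_eq_same]
  congr 1
  by_cases h : (fun l : Rest i => x l) = fun l : Rest i => y l
  · rw [h, Matrix.one_apply_eq]
    refine Finset.prod_eq_one fun l hl => ?_
    rw [Pi.mulSingle_eq_of_ne (Finset.ne_of_mem_erase hl), rest_ext h (Finset.ne_of_mem_erase hl), Matrix.one_apply_eq]
  · rw [Matrix.one_apply_ne h]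
    obtain ⟨⟨l, hl⟩, hne⟩ := Function.ne_iff.mp h
    refine Finset.prod_eq_zero (Finset.mem_erase.mpr ⟨hl, Finset.mem_univ l⟩) ?_
    rw [Pi.mulSingle_eq_of_ne hl, Matrix.one_apply_ne hne]

theorem slot_add (i : τ) (A B : Matrix γ γ F) : slot i (A + B) = slot i A + slot i B := by
  rw [slot_eq, slot_eq, slot_eq, kronecker_add, map_add]

theorem slot_smul (i : τ) (c : F) (A : Matrix γ γ F) : slot i (c • A) = c • slot i A := by
  rw [slot_eq, slot_eq, kronecker_smul, map_smul]

theorem slot_zero (i : τ) : slot i (0 : Matrix γ γ F) = 0 := by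
  rw [slot_eq, kroneckerMap_zero_right _ (fun a => mul_zero a), map_zero]

theorem slot_neg (i : τ) (A : Matrix γ γ F) : slot i (-A) = -slot i A := by
  rw [← neg_one_smul F A, slot_smul, neg_one_smul]

theorem slot_sub (i : τ) (A B : Matrix γ γ F) : slot i (A - B) = slot i A - slot i B := by
  rw [sub_eq_add_neg, slot_add, slot_neg, sub_eq_add_neg]

theorem slot_sum {ρ : Type*} (i : τ) (s : Finset ρ) (A : ρ → Matrix γ γ F) :
    slot i (∑ r ∈ s, A r) = ∑ r ∈ s, slot i (A r) :=
  map_sum (G := Matrix γ γ F →+ Matrix (τ → γ) (τ → γ) F)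
    (AddMonoidHom.mk' (slot i) (slot_add i)) A s

theorem slot_mul (i : τ) (A B : Matrix γ γ F) : slot i (A * B) = slot i A * slot i B := by
  rw [slot, slot, slot, tens_mul, Pi.mulSingle_mul]

theorem slot_one (i : τ) : slot i (1 : Matrix γ γ F) = 1 := by rw [slot, Pi.mulSingle_one, tens_one]

theorem slot_scalar (i : τ) (c : F) : slot i (c • (1 : Matrix γ γ F)) = c • 1 := by rw [slot_smul, slot_one]

theorem slot_comm {i l : τ} (h : i ≠ l) (A B : Matrix γ γ F) : Commute (slot i A) (slot l B) := by
  show slot i A * slot l B = slot l B * slot i A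
  rw [slot, slot, tens_mul, tens_mul]
  exact congrArg tens (Pi.mulSingle_commute (f := fun _ : τ => Matrix γ γ F) h A B).eq

theorem slot_pair {i l : τ} (h : i ≠ l) (A B : Matrix γ γ F) (x y : τ → γ) :
    (slot i A * slot l B) x y =
      (if ∀ o, o ≠ i → o ≠ l → x o = y o then A (x i) (y i) * B (x l) (y l) else 0) := by
  rw [slot, slot, tens_mul, tens_apply]
  split_ifs with hr
  · rw [← Finset.prod_subset (Finset.subset_univ {i, l}), Finset.prod_pair h]
    · simp [h, h.symm]
    · intro o _ ho
      simp only [Finset.mem_insert, Finset.mem_singleton, not_or] at ho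
      simp [ho.1, ho.2, hr o ho.1 ho.2]
  · push Not at hr
    obtain ⟨o, ho1, ho2, ho⟩ := hr
    refine Finset.prod_eq_zero (Finset.mem_univ o) ?_
    simp [ho1, ho2, Matrix.one_apply_ne ho]

theorem slot_apply_update (i : τ) (A : Matrix γ γ F) (c : τ → γ) (a b : γ) :
    slot i A (Function.update c i a) (Function.update c i b) = A a b := by
  rw [slot_eq, toBig_apply, kroneckerMap_apply, Function.update_self, Function.update_self, Matrix.one_apply,
    if_pos (funext fun l => by simp [l.2]), one_mul]

theorem slot_injective [Nonempty γ] (i : τ) : Function.Injective (slot (F := F) (γ := γ) i) := fun A B h => by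
  ext a b
  rw [← slot_apply_update i A (fun _ => Classical.arbitrary γ), h, slot_apply_update]

theorem slot_apply_ne (i : τ) (A : Matrix γ γ F) {x y : τ → γ} {l : τ} (hl : l ≠ i) (h : x l ≠ y l) :
    slot i A x y = 0 := by
  rw [slot_eq, toBig_apply, kroneckerMap_apply, Matrix.one_apply_ne (fun e => h (rest_ext e hl)), zero_mul]

theorem det_slot (i : τ) {A : Matrix γ γ F} (hA : A.det = 1) : (slot i A).det = 1 := by
  rw [slot_eq, show toBig i ((1 : Matrix (Rest i → γ) (Rest i → γ) F) ⊗ₖ A) =
    Matrix.reindex (slotE i).symm (slotE i).symm ((1 : Matrix _ _ F) ⊗ₖ A) from rfl, Matrix.det_reindex_self,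
    det_kronecker, det_one, hA, one_pow, one_pow, one_mul]

theorem slot_single_apply (i : τ) (p q : γ) (c : F) (x z : τ → γ) :
    slot i (Matrix.single p q c) x z = if x i = p ∧ z = Function.update x i q then c else 0 := by
  rw [slot_eq, toBig_apply, kroneckerMap_apply]
  by_cases h : x i = p ∧ z = Function.update x i q
  · obtain ⟨h1, rfl⟩ := h
    rw [if_pos ⟨h1, rfl⟩, Matrix.one_apply, if_pos (funext fun l => by simp [l.2]), one_mul, h1, Function.update_self,
      Matrix.single_apply_same]
  · rw [if_neg h]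
    by_cases hr : (fun l : Rest i => x l) = fun l : Rest i => z l
    · rw [Matrix.single_apply_of_ne _ _ _ _ _ (fun e => h ⟨e.1.symm, funext fun l => ?_⟩), mul_zero]
      by_cases hl : l = i
      · subst hl; rw [Function.update_self]; exact e.2.symm
      · rw [Function.update_of_ne hl, rest_ext hr hl]
    · rw [Matrix.one_apply_ne hr, zero_mul]

theorem slot_single_mul (i : τ) (p q : γ) (c : F) (M : Matrix (τ → γ) (τ → γ) F) (x y : τ → γ) :
    (slot i (Matrix.single p q c) * M) x y = if x i = p then c * M (Function.update x i q) y else 0 := by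
  rw [Matrix.mul_apply]
  simp only [slot_single_apply]
  by_cases h : x i = p <;> simp [h, ite_mul]

theorem mul_slot_single (i : τ) (p q : γ) (c : F) (M : Matrix (τ → γ) (τ → γ) F) (x y : τ → γ) :
    (M * slot i (Matrix.single p q c)) x y = if y i = q then M x (Function.update y i p) * c else 0 := by
  rw [Matrix.mul_apply]
  simp only [slot_single_apply]
  have : ∀ z : τ → γ, (z i = p ∧ y = Function.update z i q) ↔ (y i = q ∧ z = Function.update y i p) := fun z => by
    constructor
    · rintro ⟨h1, rfl⟩; exact ⟨Function.update_self _ _ _, by rw [Function.update_idem, ← h1, Function.update_eq_self]⟩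
    · rintro ⟨h1, rfl⟩; exact ⟨Function.update_self _ _ _, by rw [Function.update_idem, ← h1, Function.update_eq_self]⟩
  simp only [this]
  by_cases h : y i = q <;> simp [h, mul_ite]

/-- An operator on the other slots. -/
def outer (i : τ) (Z : Matrix (Rest i → γ) (Rest i → γ) F) : Matrix (τ → γ) (τ → γ) F :=
  toBig i (Z ⊗ₖ (1 : Matrix γ γ F))

theorem outer_comm (i : τ) (Z : Matrix (Rest i → γ) (Rest i → γ) F) (A : Matrix γ γ F) :
    Commute (outer i Z) (slot i A) := by
  show outer i Z * slot i A = slot i A * outer i Z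
  rw [outer, slot_eq, ← map_mul, ← map_mul, ← mul_kronecker_mul, ← mul_kronecker_mul, one_mul, mul_one, one_mul,
    mul_one]

theorem outer_mul_slot (i : τ) (Z : Matrix (Rest i → γ) (Rest i → γ) F) (A : Matrix γ γ F) :
    outer i Z * slot i A = toBig i (Z ⊗ₖ A) := by
  rw [outer, slot_eq, ← map_mul, ← mul_kronecker_mul, mul_one, one_mul]

/-- The entries of a matrix commuting with a slot. -/
theorem comm_entries {i : τ} {M : Matrix (τ → γ) (τ → γ) F}
    (h : ∀ p q, Commute (slot i (Matrix.single p q (1 : F))) M) :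
    (∀ x y, x i ≠ y i → M x y = 0) ∧
      ∀ x y a, x i = y i → M x y = M (Function.update x i a) (Function.update y i a) := by
  constructor
  · intro x y hxy
    have := congrFun (congrFun (h (x i) (x i)).eq x) y
    rwa [slot_single_mul, if_pos rfl, mul_slot_single, if_neg (Ne.symm hxy), one_mul, Function.update_eq_self] at this
  · intro x y a hxy
    have := congrFun (congrFun (h (x i) a).eq x) (Function.update y i a)
    rw [slot_single_mul, if_pos rfl, mul_slot_single, if_pos (Function.update_self _ _ _), one_mul, mul_one,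
      Function.update_idem, hxy, Function.update_eq_self] at this
    exact this.symm

theorem comm_slot_of_single {i : τ} {M : Matrix (τ → γ) (τ → γ) F}
    (h : ∀ p q, Commute (slot i (Matrix.single p q (1 : F))) M) (A : Matrix γ γ F) : Commute (slot i A) M := by
  rw [matrix_eq_sum_single A, slot_sum]
  refine Commute.sum_left _ _ _ fun a _ => ?_
  rw [slot_sum]
  refine Commute.sum_left _ _ _ fun b _ => ?_
  rw [show Matrix.single a b (A a b) = A a b • Matrix.single a b (1 : F) by
    rw [Matrix.smul_single, smul_eq_mul, mul_one], slot_smul]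
  exact (h a b).smul_left _

/-- Commuting with the off-diagonal units of a slot suffices. -/
theorem comm_slot_of_offdiag [Nontrivial γ] {i : τ} {M : Matrix (τ → γ) (τ → γ) F}
    (h : ∀ p q, p ≠ q → Commute (slot i (Matrix.single p q (1 : F))) M) (A : Matrix γ γ F) :
    Commute (slot i A) M := by
  refine comm_slot_of_single (fun p q => ?_) A
  by_cases hpq : p = q
  · subst hpq
    obtain ⟨o, ho⟩ := exists_ne p
    have e : Matrix.single p p (1 : F) = Matrix.single p o 1 * Matrix.single o p 1 := by simp
    rw [e, slot_mul]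
    exact (h p o ho.symm).mul_left (h o p ho)
  · exact h p q hpq

/-- A matrix commuting with the slots in `s` does not depend on these coordinates. -/
theorem indep (s : Finset τ) {M : Matrix (τ → γ) (τ → γ) F}
    (h : ∀ l ∈ s, ∀ p q, Commute (slot l (Matrix.single p q (1 : F))) M) :
    (∀ x y, (∃ l ∈ s, x l ≠ y l) → M x y = 0) ∧
      ∀ x y x' y', (∀ l ∈ s, x l = y l) → (∀ l ∈ s, x' l = y' l) → (∀ l ∉ s, x l = x' l) →
        (∀ l ∉ s, y l = y' l) → M x y = M x' y' := by
  refine ⟨fun x y ⟨l, hl, hxy⟩ => (comm_entries (h l hl)).1 x y hxy, ?_⟩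
  induction s using Finset.induction_on with
  | empty =>
    intro x y x' y' _ _ hx hy
    rw [funext fun l => hx l (Finset.notMem_empty l), funext fun l => hy l (Finset.notMem_empty l)]
  | insert a s ha ih =>
    intro x y x' y' h1 h2 hx hy
    rw [(comm_entries (h a (Finset.mem_insert_self a s))).2 x y (x' a) (h1 a (Finset.mem_insert_self a s))]
    refine ih (fun l hl => h l (Finset.mem_insert_of_mem hl)) _ _ x' y' (fun l hl => ?_)
      (fun l hl => h2 l (Finset.mem_insert_of_mem hl)) (fun l hl => ?_) (fun l hl => ?_)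
    · have hla : l ≠ a := fun e => ha (e ▸ hl)
      rw [Function.update_of_ne hla, Function.update_of_ne hla, h1 l (Finset.mem_insert_of_mem hl)]
    · by_cases hla : l = a
      · subst hla; rw [Function.update_self]
      · rw [Function.update_of_ne hla]; exact hx l (by simp [hla, hl])
    · by_cases hla : l = a
      · subst hla; rw [Function.update_self, h2 l (Finset.mem_insert_self l s)]
      · rw [Function.update_of_ne hla]; exact hy l (by simp [hla, hl])

/-- The centraliser of all slots but one is that slot. -/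
theorem eq_slot_of_comm [Nonempty γ] {i : τ} {M : Matrix (τ → γ) (τ → γ) F}
    (h : ∀ l, l ≠ i → ∀ A, Commute (slot l A) M) : ∃ A, M = slot i A := by
  set c : τ → γ := fun _ => Classical.arbitrary γ
  obtain ⟨h0, h1⟩ := indep (Finset.univ.erase i) (M := M)
    fun l hl p q => h l (Finset.ne_of_mem_erase hl) _
  refine ⟨Matrix.of fun a b => M (Function.update c i a) (Function.update c i b), ?_⟩
  ext x y
  by_cases hr : ∀ l, l ≠ i → x l = y l
  · rw [slot_eq, toBig_apply, kroneckerMap_apply, Matrix.one_apply, if_pos (funext fun l : Rest i => hr l l.2), one_mul,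
      Matrix.of_apply]
    refine h1 _ _ _ _ (fun l hl => hr l (Finset.ne_of_mem_erase hl)) (fun l hl => ?_) (fun l hl => ?_) (fun l hl => ?_)
    · simp [Finset.ne_of_mem_erase hl]
    · obtain rfl : l = i := by simpa using hl
      simp
    · obtain rfl : l = i := by simpa using hl
      simp
  · push Not at hr
    obtain ⟨l, hl, hne⟩ := hr
    rw [slot_apply_ne i _ hl hne, h0 x y ⟨l, Finset.mem_erase.mpr ⟨hl, Finset.mem_univ l⟩, hne⟩]

/-- The centraliser of all slots consists of scalars. -/
theorem eq_scalar_of_comm [Nonempty γ] {M : Matrix (τ → γ) (τ → γ) F}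
    (h : ∀ l A, Commute (slot l A) M) : ∃ c : F, M = c • 1 := by
  set c : τ → γ := fun _ => Classical.arbitrary γ
  obtain ⟨h0, h1⟩ := indep Finset.univ (M := M) fun l _ p q => h l _
  refine ⟨M c c, ?_⟩
  ext x y
  by_cases hxy : x = y
  · subst hxy
    rw [Matrix.smul_apply, Matrix.one_apply_eq, smul_eq_mul, mul_one]
    exact h1 _ _ _ _ (fun _ _ => rfl) (fun _ _ => rfl) (fun l hl => absurd (Finset.mem_univ l) hl)
      (fun l hl => absurd (Finset.mem_univ l) hl)
  · obtain ⟨l, hl⟩ := Function.ne_iff.mp hxy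
    rw [Matrix.smul_apply, Matrix.one_apply_ne hxy, smul_zero, h0 x y ⟨l, Finset.mem_univ l, hl⟩]

/-- The partial trace onto a slot. -/
def ptr (i : τ) : Matrix (τ → γ) (τ → γ) F →ₗ[F] Matrix γ γ F where
  toFun M := Matrix.of fun c d => ∑ a : Rest i → γ, (toBig i).symm M (a, c) (a, d)
  map_add' M N := by ext c d; simp [Finset.sum_add_distrib]
  map_smul' r M := by ext c d; simp [Finset.mul_sum]

theorem trace_slot_mul (i : τ) (A : Matrix γ γ F) (M : Matrix (τ → γ) (τ → γ) F) :
    (slot i A * M).trace = (A * ptr i M).trace := by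
  obtain ⟨N, rfl⟩ : ∃ N, toBig i N = M := ⟨_, (toBig i).apply_symm_apply M⟩
  rw [slot_eq, ← map_mul]
  have e : ∀ K : Matrix ((Rest i → γ) × γ) ((Rest i → γ) × γ) F, (toBig i K).trace = K.trace := fun K => by
    rw [Matrix.trace, Matrix.trace]
    exact Fintype.sum_equiv (slotE i) _ _ fun x => rfl
  rw [e]
  simp only [ptr, LinearMap.coe_mk, AddHom.coe_mk, AlgEquiv.symm_apply_apply, Matrix.trace, Matrix.diag_apply,
    Matrix.mul_apply, Fintype.sum_prod_type, kroneckerMap_apply, Matrix.one_apply, Matrix.of_apply, Finset.mul_sum,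
    ite_mul, one_mul, zero_mul]
  rw [Finset.sum_comm]
  refine Finset.sum_congr rfl fun c _ => ?_
  simp only [Finset.sum_ite_irrel, Finset.sum_const_zero, Finset.sum_ite_eq, Finset.mem_univ, if_true]
  exact Finset.sum_comm

theorem ptr_eq_zero {i : τ} {M : Matrix (τ → γ) (τ → γ) F} (h : ∀ A, (slot i A * M).trace = 0) :
    ptr i M = 0 := by
  ext c d
  have := h (Matrix.single d c 1)
  rw [trace_slot_mul, Matrix.trace_single_mul, one_smul] at this
  exact this

theorem ptr_single (i : τ) (x y : τ → γ) :
    ptr i (Matrix.single x y (1 : F)) =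
      if ∀ l, l ≠ i → x l = y l then Matrix.single (x i) (y i) 1 else 0 := by
  have e : (toBig i).symm (Matrix.single x y (1 : F)) = Matrix.single (slotE i x) (slotE i y) 1 := by
    rw [AlgEquiv.symm_apply_eq]
    ext a b
    rw [toBig_apply]
    simp only [Matrix.single_apply, ← slotE_apply, Equiv.apply_eq_iff_eq]
  ext c d
  simp only [ptr, LinearMap.coe_mk, AddHom.coe_mk, Matrix.of_apply, e, slotE_apply, Matrix.single_apply,
    Prod.mk.injEq]
  by_cases hr : ∀ l, l ≠ i → x l = y l
  · have hxy : (fun l : Rest i => x l) = fun l : Rest i => y l := funext fun l => hr l l.2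
    rw [if_pos hr, Finset.sum_eq_single (fun l : Rest i => x l)]
    · simp [Matrix.single_apply, hxy]
    · intro b _ hb; rw [if_neg]; exact fun h => hb h.1.1.symm
    · simp
  · rw [if_neg hr, Matrix.zero_apply]
    refine Finset.sum_eq_zero fun b _ => if_neg fun h => hr fun l hl => rest_ext (h.1.1.trans h.2.1.symm) hl

/-- The permutation of the slots. -/
def perm (σ : Equiv.Perm τ) : Matrix (τ → γ) (τ → γ) F := Matrix.of fun x y => if y = x ∘ σ then 1 else 0

theorem perm_mul_apply (σ : Equiv.Perm τ) (M : Matrix (τ → γ) (τ → γ) F) (x y : τ → γ) :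
    ((perm σ : Matrix (τ → γ) (τ → γ) F) * M) x y = M (x ∘ σ) y := by
  simp [Matrix.mul_apply, perm]

theorem mul_perm_apply (σ : Equiv.Perm τ) (M : Matrix (τ → γ) (τ → γ) F) (x y : τ → γ) :
    (M * (perm σ : Matrix (τ → γ) (τ → γ) F)) x y = M x (y ∘ σ.symm) := by
  rw [Matrix.mul_apply, Finset.sum_eq_single (y ∘ σ.symm)]
  · simp [perm, Function.comp_assoc]
  · intro z _ hz
    simp only [perm, Matrix.of_apply]
    rw [if_neg, mul_zero]
    exact fun e => hz (by rw [e, Function.comp_assoc, Equiv.self_comp_symm, Function.comp_id])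
  · simp

theorem perm_mul (σ π : Equiv.Perm τ) : (perm σ * perm π : Matrix (τ → γ) (τ → γ) F) = perm (σ * π) := by
  ext x y
  rw [perm_mul_apply]
  rfl

theorem perm_one : (perm 1 : Matrix (τ → γ) (τ → γ) F) = 1 := by
  ext x y
  simp [perm, Matrix.one_apply, eq_comm]

theorem perm_tens (σ : Equiv.Perm τ) (f : τ → Matrix γ γ F) :
    perm σ * tens f = tens (fun l => f (σ.symm l)) * perm σ := by
  ext x y
  rw [perm_mul_apply, mul_perm_apply, tens_apply, tens_apply]
  exact Fintype.prod_equiv σ _ _ fun i => by simp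

theorem perm_slot (σ : Equiv.Perm τ) (i : τ) (A : Matrix γ γ F) :
    perm σ * slot i A = slot (σ i) A * perm σ := by
  rw [slot, perm_tens, slot]
  congr 2
  funext j
  by_cases h : j = σ i
  · subst h; simp
  · rw [Pi.mulSingle_eq_of_ne h, Pi.mulSingle_eq_of_ne]
    exact fun e => h (by rw [← e, Equiv.apply_symm_apply])

/-- The permutation of the slots as a unit. -/
def permGL (σ : Equiv.Perm τ) : GL (τ → γ) F :=
  ⟨perm σ, perm σ⁻¹, by rw [perm_mul, mul_inv_cancel, perm_one], by rw [perm_mul, inv_mul_cancel, perm_one]⟩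

theorem permGL_val (σ : Equiv.Perm τ) : ((permGL σ : GL (τ → γ) F) : Matrix (τ → γ) (τ → γ) F) = perm σ := rfl

theorem perm_transpose (σ : Equiv.Perm τ) : (perm σ : Matrix (τ → γ) (τ → γ) F)ᵀ = perm σ⁻¹ := by
  ext x y
  simp only [Matrix.transpose_apply, perm, Matrix.of_apply]
  refine if_congr ⟨fun h => ?_, fun h => ?_⟩ rfl rfl <;> rw [h] <;> ext <;> simp

theorem slot_transpose (i : τ) (A : Matrix γ γ F) : (slot i A)ᵀ = slot i Aᵀ := by
  ext x y
  rw [Matrix.transpose_apply, slot, slot, tens_apply, tens_apply]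
  refine Finset.prod_congr rfl fun l _ => ?_
  by_cases h : l = i
  · subst h; simp
  · simp [h, Matrix.one_apply, eq_comm]

/-- The span of the slots. -/
def InL (M : Matrix (τ → γ) (τ → γ) F) : Prop := ∃ A : τ → Matrix γ γ F, M = ∑ l, slot l (A l)

theorem InL.zero : InL (0 : Matrix (τ → γ) (τ → γ) F) := ⟨0, by simp [slot_zero]⟩

theorem InL.add {M N : Matrix (τ → γ) (τ → γ) F} : InL M → InL N → InL (M + N) := by
  rintro ⟨A, rfl⟩ ⟨B, rfl⟩
  exact ⟨A + B, by simp [slot_add, Finset.sum_add_distrib]⟩

theorem InL.slot (l : τ) (A : Matrix γ γ F) : InL (slot l A) :=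
  ⟨Pi.single l A, by
    rw [Finset.sum_eq_single l (fun o _ ho => by rw [Pi.single_eq_of_ne ho, slot_zero])
      (fun h => absurd (Finset.mem_univ l) h), Pi.single_eq_same]⟩

theorem InL.sum {ρ : Type*} (s : Finset ρ) {M : ρ → Matrix (τ → γ) (τ → γ) F} (h : ∀ r ∈ s, InL (M r)) :
    InL (∑ r ∈ s, M r) := by
  classical
  induction s using Finset.induction_on with
  | empty => exact InL.zero
  | insert a s ha ih =>
    rw [Finset.sum_insert ha]
    exact (h a (Finset.mem_insert_self a s)).add (ih fun r hr => h r (Finset.mem_insert_of_mem hr))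

end Cfsg.Lib.Classical.TensorPowLin
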