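import Cfsg.Agent.Classical.TensorPowLin.One
import Cfsg.Agent.Classical.TensorPowLin.Slot

/-!
# A non-scalar radical at one slot gives every transvection
-/

set_option autoImplicit false
set_option linter.unusedSectionVars false
set_option linter.unusedSimpArgs false
set_option linter.unusedVariables false
set_option linter.style.haveILetI false

namespace Cfsg.Lib.Classical.TensorPowLin

open Matrix Finset
open scoped Kronecker MatrixGroups
open Cfsg.Lib.Classical.TensorMax (RadScalar InK rad rad_apply)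

universe u

variable {τ γ : Type} [Fintype τ] [DecidableEq τ] [Fintype γ] [DecidableEq γ] {F : Type u} [Field F]

/-- The group contains the slot special linear groups and the three-cycles of the slots. -/
structure Hyp (X : Subgroup (GL (τ → γ) F)) : Prop where
  card₂ : 3 ≤ Fintype.card γ
  slot : ∀ (i : τ) (A : Matrix γ γ F), A.det = 1 → ∃ k ∈ X, (k : Matrix (τ → γ) (τ → γ) F) = slot i A
  cyc : ∀ a b c : τ, a ≠ b → b ≠ c → a ≠ c →
    ∃ k ∈ X, (k : Matrix (τ → γ) (τ → γ) F) = perm (Equiv.swap a b * Equiv.swap b c)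

/-- The coordinates of one slot on the general linear group. -/
def coord (i : τ) : GL (τ → γ) F ≃* GL ((Rest i → γ) × γ) F :=
  Units.mapEquiv (toBig (F := F) (γ := γ) i).symm.toMulEquiv

theorem coord_val (i : τ) (g : GL (τ → γ) F) :
    toBig i (coord i g : Matrix ((Rest i → γ) × γ) ((Rest i → γ) × γ) F) = (g : Matrix (τ → γ) (τ → γ) F) :=
  (toBig i).apply_symm_apply _

section ring

variable {R : Type*} [Ring R]

theorem comm_elem {u v : R} (huu : u * u = 0) (hvv : v * v = 0) (hvu : v * u = 0) :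
    (1 + u) * (1 + v) * (1 - u) * (1 - v) = 1 + u * v := by
  calc (1 + u) * (1 + v) * (1 - u) * (1 - v)
      = (1 + v + u * v - u * u - v * u - u * (v * u)) * (1 - v) := by noncomm_ring
    _ = 1 + u * v - v * v - u * (v * v) := by rw [huu, hvu, mul_zero, sub_zero, sub_zero, sub_zero]; noncomm_ring
    _ = 1 + u * v := by rw [hvv, mul_zero, sub_zero, sub_zero]

theorem ezf_identity {Z E A G : R} (hEE : E * E = 0) (hEA : E * A = 0) (hAE : A * E = 0) (hGE : G * E = 0)
    (hGA : G * A = 0) (hEG : E * G = 0) (hAG : A * G = E) :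
    let D : R → R → R := fun e z => e * z - z * e - e * z * e
    D G (D E (D A Z)) = E * Z * E := by
  intro D
  have hEE' : ∀ x, E * (E * x) = 0 := fun x => by rw [← mul_assoc, hEE, zero_mul]
  have hEA' : ∀ x, E * (A * x) = 0 := fun x => by rw [← mul_assoc, hEA, zero_mul]
  have hAE' : ∀ x, A * (E * x) = 0 := fun x => by rw [← mul_assoc, hAE, zero_mul]
  have hGE' : ∀ x, G * (E * x) = 0 := fun x => by rw [← mul_assoc, hGE, zero_mul]
  have hGA' : ∀ x, G * (A * x) = 0 := fun x => by rw [← mul_assoc, hGA, zero_mul]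
  have e1 : D E (D A Z) = -(E * (Z * A)) - A * (Z * E) := by
    simp only [D, mul_sub, sub_mul, mul_assoc, hEE, hEA, hAE, hEE', hEA', hAE', mul_zero, zero_mul, sub_zero, zero_sub,
      neg_zero]
  rw [e1]
  simp only [D, mul_sub, sub_mul, mul_neg, neg_mul, mul_assoc, hGE, hGA, hGE', hGA', hEG, hAG, mul_zero, zero_mul,
    neg_zero, sub_zero, zero_sub, neg_neg]

end ring

variable {X : Subgroup (GL (τ → γ) F)}

/-- `1 + M` is in `X`. -/
def In (X : Subgroup (GL (τ → γ) F)) (M : Matrix (τ → γ) (τ → γ) F) : Prop :=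
  ∃ g ∈ X, (g : Matrix (τ → γ) (τ → γ) F) = 1 + M

theorem In.add {u v : Matrix (τ → γ) (τ → γ) F} (hu : In X u) (hv : In X v) (huv : u * v = 0) : In X (u + v) := by
  obtain ⟨g, hg, e⟩ := hu
  obtain ⟨h, hh, e'⟩ := hv
  exact ⟨g * h, mul_mem hg hh, by rw [Units.val_mul, e, e', add_mul, one_mul, mul_add, mul_one, huv, add_zero]; abel⟩

theorem In.comm {u v : Matrix (τ → γ) (τ → γ) F} (hu : In X u) (hv : In X v) (huu : u * u = 0) (hvv : v * v = 0)
    (hvu : v * u = 0) : In X (u * v) := by
  obtain ⟨g, hg, e⟩ := hu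
  obtain ⟨h, hh, e'⟩ := hv
  have hi : ((g⁻¹ : GL (τ → γ) F) : Matrix (τ → γ) (τ → γ) F) = 1 - u := by
    rw [Matrix.coe_units_inv, e]
    exact Matrix.inv_eq_right_inv (by rw [add_mul, one_mul, mul_sub, mul_one, huu, sub_zero, sub_add_cancel])
  have hi' : ((h⁻¹ : GL (τ → γ) F) : Matrix (τ → γ) (τ → γ) F) = 1 - v := by
    rw [Matrix.coe_units_inv, e']
    exact Matrix.inv_eq_right_inv (by rw [add_mul, one_mul, mul_sub, mul_one, hvv, sub_zero, sub_add_cancel])
  refine ⟨g * h * g⁻¹ * h⁻¹, mul_mem (mul_mem (mul_mem hg hh) (inv_mem hg)) (inv_mem hh), ?_⟩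
  rw [Units.val_mul, Units.val_mul, Units.val_mul, hi, hi', e, e', comm_elem huu hvv hvu]

/-- The unit `(p, q)` in a slot. -/
abbrev sl (i : τ) (p q : γ) : Matrix (τ → γ) (τ → γ) F := slot i (Matrix.single p q (1 : F))

theorem sl_mul (i : τ) (p q r : γ) : (sl i p q * sl i q r : Matrix (τ → γ) (τ → γ) F) = sl i p r := by
  rw [sl, sl, ← slot_mul, Matrix.single_mul_single_same, mul_one]

theorem sl_mul_ne (i : τ) (p r : γ) {q q' : γ} (h : q ≠ q') :
    (sl i p q * sl i q' r : Matrix (τ → γ) (τ → γ) F) = 0 := by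
  rw [sl, sl, ← slot_mul, Matrix.single_mul_single_of_ne _ _ _ _ h, slot_zero]

theorem Hyp.transv (hX : Hyp X) {i : τ} {p q : γ} (h : p ≠ q) (c : F) : In X (c • sl i p q) := by
  obtain ⟨k, hk, e⟩ := hX.slot i (Matrix.transvection p q c) (Matrix.det_transvection_of_ne p q h c)
  exact ⟨k, hk, by rw [e, Matrix.transvection, slot_add, slot_one, ← slot_smul, Matrix.smul_single, smul_eq_mul,
    mul_one]⟩

/-- `1 + Z ⊗ (c e_{pq})` lies in `X`. -/
def El (X : Subgroup (GL (τ → γ) F)) (i : τ) (Z : Matrix (τ → γ) (τ → γ) F) (p q : γ) : Prop :=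
  ∀ c : F, In X (c • (Z * sl i p q))

theorem mul_e {i : τ} {Z' : Matrix (τ → γ) (τ → γ) F} (hZ' : ∀ A, Commute (slot i A) Z')
    (Z : Matrix (τ → γ) (τ → γ) F) (A B : Matrix γ γ F) :
    (Z * slot i A) * (Z' * slot i B) = (Z * Z') * slot i (A * B) := by
  rw [mul_assoc, ← mul_assoc (slot i A), (hZ' A).eq, mul_assoc Z', ← slot_mul, ← mul_assoc]

theorem El.right (hX : Hyp X) {i : τ} {Z : Matrix (τ → γ) (τ → γ) F} (hZ : ∀ A, Commute (slot i A) Z) {p q r : γ}
    (h : El X i Z p q) (hpq : p ≠ q) (hqr : q ≠ r) (hpr : p ≠ r) : El X i Z p r := by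
  intro c
  have := (h c).comm (hX.transv (i := i) hqr 1) ?_ ?_ ?_
  · convert this using 1
    rw [one_smul, smul_mul_assoc, mul_assoc, sl_mul]
  · rw [smul_mul_smul_comm, mul_e hZ, Matrix.single_mul_single_of_ne _ _ _ _ hpq.symm, slot_zero, mul_zero, smul_zero]
  · rw [one_smul, sl_mul_ne i q r hqr.symm]
  · rw [one_smul, mul_smul_comm, ← mul_assoc, (hZ _).eq, mul_assoc, sl_mul_ne i q q hpr.symm, mul_zero, smul_zero]

theorem El.left (hX : Hyp X) {i : τ} {Z : Matrix (τ → γ) (τ → γ) F} (hZ : ∀ A, Commute (slot i A) Z) {p q r : γ}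
    (h : El X i Z p q) (hpq : p ≠ q) (hrp : r ≠ p) (hrq : r ≠ q) : El X i Z r q := by
  intro c
  have := (hX.transv (i := i) hrp c).comm (h 1) ?_ ?_ ?_
  · convert this using 1
    rw [one_smul, smul_mul_assoc, ← mul_assoc, (hZ _).eq, mul_assoc, sl_mul]
  · rw [smul_mul_smul_comm, sl_mul_ne i r p hrp.symm, smul_zero]
  · rw [one_smul, mul_e hZ, Matrix.single_mul_single_of_ne _ _ _ _ hpq.symm, slot_zero, mul_zero]
  · rw [one_smul, mul_smul_comm, mul_assoc, sl_mul_ne i p p hrq.symm, mul_zero, smul_zero]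

theorem El.all (hX : Hyp X) {i : τ} {Z : Matrix (τ → γ) (τ → γ) F} (hZ : ∀ A, Commute (slot i A) Z) {p₀ q₀ : γ}
    (h : El X i Z p₀ q₀) (hpq : p₀ ≠ q₀) {p q : γ} (hne : p ≠ q) : El X i Z p q := by
  have h1 : ∀ p, p ≠ q₀ → El X i Z p q₀ := fun p hp => by
    by_cases e : p = p₀
    · subst e; exact h
    · exact h.left hX hZ hpq e hp
  have h2 : ∀ p q, p ≠ q₀ → p ≠ q → El X i Z p q := fun p q hp hne => by
    by_cases e : q = q₀
    · subst e; exact h1 p hp
    · exact (h1 p hp).right hX hZ hp (Ne.symm e) hne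
  by_cases e : p = q₀
  · obtain ⟨r, hrp, hrq⟩ := exists_third hX.card₂ p q
    exact (h2 r q (e ▸ hrp) hrq).left hX hZ hrq hrp.symm hne
  · exact h2 p q e hne

/-- The ring of operators `Z` on the other slots with all `1 + c Z ⊗ e_{pq}` in `X`. -/
def ringS (hX : Hyp X) (i : τ) : Subalgebra F (Matrix (τ → γ) (τ → γ) F) where
  carrier := {Z | (∀ A, Commute (slot i A) Z) ∧ ∀ p q, p ≠ q → El X i Z p q}
  mul_mem' := fun {Z Z'} hZ hZ' => ⟨fun A => (hZ.1 A).mul_right (hZ'.1 A), fun p q hpq c => by
    obtain ⟨r, hrp, hrq⟩ := exists_third hX.card₂ p q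
    have := (hZ.2 p r hrp.symm c).comm (hZ'.2 r q hrq 1) ?_ ?_ ?_
    · convert this using 1
      rw [one_smul, smul_mul_assoc, mul_e hZ'.1, Matrix.single_mul_single_same, mul_one]
    · rw [smul_mul_smul_comm, mul_e hZ.1, Matrix.single_mul_single_of_ne _ _ _ _ hrp, slot_zero, mul_zero, smul_zero]
    · rw [one_smul, mul_e hZ'.1, Matrix.single_mul_single_of_ne _ _ _ _ hrq.symm, slot_zero, mul_zero]
    · rw [one_smul, mul_smul_comm, mul_e hZ.1, Matrix.single_mul_single_of_ne _ _ _ _ hpq.symm, slot_zero, mul_zero,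
        smul_zero]⟩
  add_mem' := fun {Z Z'} hZ hZ' => ⟨fun A => (hZ.1 A).add_right (hZ'.1 A), fun p q hpq c => by
    rw [add_mul, smul_add]
    refine (hZ.2 p q hpq c).add (hZ'.2 p q hpq c) ?_
    rw [smul_mul_smul_comm, mul_e hZ'.1, Matrix.single_mul_single_of_ne _ _ _ _ hpq.symm, slot_zero, mul_zero,
      smul_zero]⟩
  algebraMap_mem' := fun r => by
    rw [Algebra.algebraMap_eq_smul_one]
    exact ⟨fun A => (Commute.one_right _).smul_right r, fun p q hpq c => by
      rw [smul_mul_assoc, one_mul, smul_smul]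
      exact hX.transv hpq _⟩

theorem mem_ringS (hX : Hyp X) (i : τ) (Z : Matrix (τ → γ) (τ → γ) F) :
    Z ∈ ringS hX i ↔ (∀ A, Commute (slot i A) Z) ∧ ∀ p q, p ≠ q → El X i Z p q := Iff.rfl

theorem conj_mem (hX : Hyp X) {i l : τ} (hl : l ≠ i) {a b : γ} (hab : a ≠ b) {Z : Matrix (τ → γ) (τ → γ) F}
    (hZ : Z ∈ ringS hX i) : sl l a b * Z - Z * sl l a b - sl l a b * Z * sl l a b ∈ ringS hX i := by
  have hM : (1 + sl l a b) * Z * (1 - sl l a b) ∈ ringS hX i := by
    refine (mem_ringS hX i _).mpr ⟨fun A => ?_, fun p q hpq c => ?_⟩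
    · have hc : Commute (slot i A) (sl l a b : Matrix (τ → γ) (τ → γ) F) := slot_comm hl.symm _ _
      exact (((Commute.one_right _).add_right hc).mul_right (hZ.1 A)).mul_right ((Commute.one_right _).sub_right hc)
    · obtain ⟨k, hk, e⟩ := hX.transv (i := l) hab 1
      obtain ⟨g, hg, e'⟩ := hZ.2 p q hpq c
      rw [one_smul] at e
      have hi : ((k⁻¹ : GL (τ → γ) F) : Matrix (τ → γ) (τ → γ) F) = 1 - sl l a b := by
        rw [Matrix.coe_units_inv, e]
        exact Matrix.inv_eq_right_inv (by
          rw [add_mul, one_mul, mul_sub, mul_one, sl_mul_ne l a b hab.symm, sub_zero, sub_add_cancel])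
      refine ⟨k * g * k⁻¹, mul_mem (mul_mem hk hg) (inv_mem hk), ?_⟩
      have hc : Commute (sl i p q : Matrix (τ → γ) (τ → γ) F) (1 - sl l a b) :=
        (Commute.one_right _).sub_right (slot_comm hl.symm _ _)
      rw [Units.val_mul, Units.val_mul, hi, e, e', mul_add, mul_one, add_mul, add_mul (1 : Matrix (τ → γ) (τ → γ) F),
        one_mul, mul_sub (sl l a b : Matrix (τ → γ) (τ → γ) F), mul_one, sl_mul_ne l a b hab.symm, sub_zero,
        sub_add_cancel]
      congr 1
      rw [mul_smul_comm, smul_mul_assoc]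
      congr 1
      simp only [mul_assoc]
      rw [hc.eq]
  have e : sl l a b * Z - Z * sl l a b - sl l a b * Z * sl l a b = (1 + sl l a b) * Z * (1 - sl l a b) - Z := by
    noncomm_ring
  rw [e]
  exact sub_mem hM hZ

theorem eze_mem (hX : Hyp X) {i l : τ} (hl : l ≠ i) {a b : γ} (hab : a ≠ b) {Z : Matrix (τ → γ) (τ → γ) F}
    (hZ : Z ∈ ringS hX i) : sl l a b * Z * sl l a b ∈ ringS hX i := by
  obtain ⟨o, hoa, hob⟩ := exists_third hX.card₂ a b
  rw [← ezf_identity (A := sl l a o) (G := sl l o b) (sl_mul_ne l a b hab.symm) (sl_mul_ne l a o hab.symm)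
    (sl_mul_ne l a b hoa) (sl_mul_ne l o b hab.symm.symm.symm) (sl_mul_ne l o o hab.symm) (sl_mul_ne l a b hob.symm)
    (sl_mul l a o b)]
  exact conj_mem hX hl hob (conj_mem hX hl hab (conj_mem hX hl hoa.symm hZ))

/-- The tensor product of matrix units on `I`. -/
def unitOn (I : Finset τ) (p q : τ → γ) : Matrix (τ → γ) (τ → γ) F :=
  tens fun l => if l ∈ I then Matrix.single (p l) (q l) 1 else 1

theorem unitOn_apply (I : Finset τ) (p q x y : τ → γ) :
    (unitOn I p q : Matrix (τ → γ) (τ → γ) F) x y =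
      if (∀ l ∈ I, x l = p l ∧ y l = q l) ∧ ∀ l ∉ I, x l = y l then 1 else 0 := by
  rw [unitOn, tens_apply]
  split_ifs with h
  · refine Finset.prod_eq_one fun l _ => ?_
    by_cases hl : l ∈ I
    · rw [if_pos hl, (h.1 l hl).1, (h.1 l hl).2, Matrix.single_apply_same]
    · rw [if_neg hl, h.2 l hl, Matrix.one_apply_eq]
  · rcases not_and_or.mp h with h | h <;> push Not at h <;> obtain ⟨l, hl, hne⟩ := h
    · refine Finset.prod_eq_zero (Finset.mem_univ l) ?_
      rw [if_pos hl, Matrix.single_apply_of_ne _ _ _ _ _ fun e => hne e.1.symm e.2.symm]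
    · refine Finset.prod_eq_zero (Finset.mem_univ l) ?_
      rw [if_neg hl, Matrix.one_apply_ne hne]

theorem unitOn_mul (I : Finset τ) (p q r : τ → γ) :
    (unitOn I p q * unitOn I q r : Matrix (τ → γ) (τ → γ) F) = unitOn I p r := by
  rw [unitOn, unitOn, tens_mul, unitOn]
  congr 1
  funext l
  by_cases hl : l ∈ I <;> simp [hl]

theorem slot_mul_tens (l : τ) (A : Matrix γ γ F) (f : τ → Matrix γ γ F) :
    slot l A * tens f = tens (Function.update f l (A * f l)) := by
  rw [slot, tens_mul]
  congr 1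
  funext o
  by_cases h : o = l
  · subst h; simp
  · simp [h]

theorem tens_mul_slot (l : τ) (A : Matrix γ γ F) (f : τ → Matrix γ γ F) :
    tens f * slot l A = tens (Function.update f l (f l * A)) := by
  rw [slot, tens_mul]
  congr 1
  funext o
  by_cases h : o = l
  · subst h; simp
  · simp [h]

theorem tens_update_zero (l : τ) (f : τ → Matrix γ γ F) : tens (Function.update f l 0) = 0 := by
  ext x y
  rw [tens_apply, Matrix.zero_apply]
  exact Finset.prod_eq_zero (Finset.mem_univ l) (by simp)

theorem unitOn_update_right (I : Finset τ) (p q : τ → γ) {l : τ} (hl : l ∈ I) (b : γ) :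
    (tens (Function.update (fun o => if o ∈ I then Matrix.single (p o) (q o) 1 else 1) l
      (Matrix.single (p l) b (1 : F))) : Matrix (τ → γ) (τ → γ) F) = unitOn I p (Function.update q l b) := by
  rw [unitOn]
  congr 1
  funext o
  by_cases h : o = l
  · subst h; simp [hl]
  · simp [h]

theorem unitOn_update_left (I : Finset τ) (p q : τ → γ) {l : τ} (hl : l ∈ I) (a : γ) :
    (tens (Function.update (fun o => if o ∈ I then Matrix.single (p o) (q o) 1 else 1) l
      (Matrix.single a (q l) (1 : F))) : Matrix (τ → γ) (τ → γ) F) = unitOn I (Function.update p l a) q := by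
  rw [unitOn]
  congr 1
  funext o
  by_cases h : o = l
  · subst h; simp [hl]
  · simp [h]

theorem step_right (hX : Hyp X) {i : τ} {I : Finset τ} (hi : i ∉ I) {p q : τ → γ} {l : τ} (hl : l ∈ I)
    (hpq : p l ≠ q l) (hU : (unitOn I p q : Matrix (τ → γ) (τ → γ) F) ∈ ringS hX i) {b : γ} (hb : p l ≠ b) :
    (unitOn I p (Function.update q l b) : Matrix (τ → γ) (τ → γ) F) ∈ ringS hX i := by
  by_cases hqb : q l = b
  · rwa [← hqb, Function.update_eq_self]
  have hli : l ≠ i := fun e => hi (e ▸ hl)
  have h := conj_mem hX hli hqb hU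
  have e1 : sl l (q l) b * (unitOn I p q : Matrix (τ → γ) (τ → γ) F) = 0 := by
    rw [sl, unitOn, slot_mul_tens, if_pos hl, Matrix.single_mul_single_of_ne _ _ _ _ hb.symm, tens_update_zero]
  have e2 : (unitOn I p q : Matrix (τ → γ) (τ → γ) F) * sl l (q l) b = unitOn I p (Function.update q l b) := by
    rw [sl, unitOn, tens_mul_slot, if_pos hl, Matrix.single_mul_single_same, mul_one, unitOn_update_right I p q hl b]
  rw [e1, e2, zero_mul, sub_zero, zero_sub] at h
  exact neg_mem_iff.mp h

theorem step_left (hX : Hyp X) {i : τ} {I : Finset τ} (hi : i ∉ I) {p q : τ → γ} {l : τ} (hl : l ∈ I)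
    (hpq : p l ≠ q l) (hU : (unitOn I p q : Matrix (τ → γ) (τ → γ) F) ∈ ringS hX i) {a : γ} (ha : a ≠ q l) :
    (unitOn I (Function.update p l a) q : Matrix (τ → γ) (τ → γ) F) ∈ ringS hX i := by
  by_cases hap : a = p l
  · rwa [hap, Function.update_eq_self]
  have hli : l ≠ i := fun e => hi (e ▸ hl)
  have h := conj_mem hX hli hap hU
  have e1 : sl l a (p l) * (unitOn I p q : Matrix (τ → γ) (τ → γ) F) = unitOn I (Function.update p l a) q := by
    rw [sl, unitOn, slot_mul_tens, if_pos hl, Matrix.single_mul_single_same, mul_one, unitOn_update_left I p q hl a]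
  have e2 : (unitOn I p q : Matrix (τ → γ) (τ → γ) F) * sl l a (p l) = 0 := by
    rw [sl, unitOn, tens_mul_slot, if_pos hl, Matrix.single_mul_single_of_ne _ _ _ _ ha.symm, tens_update_zero]
  rw [mul_assoc, e1, e2, mul_zero, sub_zero, sub_zero] at h
  exact h

theorem move (hX : Hyp X) {i : τ} {I : Finset τ} (hi : i ∉ I) {p q : τ → γ} {l : τ} (hl : l ∈ I) (hpq : p l ≠ q l)
    (hU : (unitOn I p q : Matrix (τ → γ) (τ → γ) F) ∈ ringS hX i) {a b : γ} (hab : a ≠ b) :
    (unitOn I (Function.update p l a) (Function.update q l b) : Matrix (τ → γ) (τ → γ) F) ∈ ringS hX i := by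
  by_cases ha : a = q l
  · obtain ⟨o, hop, hoq⟩ := exists_third hX.card₂ (p l) (q l)
    have h1 := step_right hX hi hl hpq hU hop.symm
    have h2 := step_left hX hi hl (by rw [Function.update_self]; exact hop.symm) h1 (a := a)
      (by rw [Function.update_self, ha]; exact hoq.symm)
    have h3 := step_right hX hi hl (by rw [Function.update_self, Function.update_self, ha]; exact hoq.symm) h2 (b := b)
      (by rw [Function.update_self]; exact hab)
    rwa [Function.update_idem] at h3
  · have h1 := step_left hX hi hl hpq hU ha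
    exact step_right hX hi hl (by rw [Function.update_self]; exact ha) h1 (by rw [Function.update_self]; exact hab)

theorem all_offdiag (hX : Hyp X) {i : τ} {I : Finset τ} (hi : i ∉ I) {p q : τ → γ} (hpq : ∀ l ∈ I, p l ≠ q l)
    (hU : (unitOn I p q : Matrix (τ → γ) (τ → γ) F) ∈ ringS hX i) {r s : τ → γ} (hrs : ∀ l ∈ I, r l ≠ s l) :
    (unitOn I r s : Matrix (τ → γ) (τ → γ) F) ∈ ringS hX i := by
  suffices h : ∀ J : Finset τ, J ⊆ I →
      (unitOn I (fun l => if l ∈ J then r l else p l) (fun l => if l ∈ J then s l else q l) :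
        Matrix (τ → γ) (τ → γ) F) ∈ ringS hX i by
    have h' := h I subset_rfl
    convert h' using 1
    rw [unitOn, unitOn]
    congr 1
    funext l
    by_cases hl : l ∈ I <;> simp [hl]
  intro J
  induction J using Finset.induction_on with
  | empty => intro _; simpa using hU
  | insert a J ha ih =>
    intro hsub
    have h := move hX hi (hsub (Finset.mem_insert_self a J)) (by simp [ha, hpq a (hsub (Finset.mem_insert_self a J))])
      (ih fun l hl => hsub (Finset.mem_insert_of_mem hl)) (hrs a (hsub (Finset.mem_insert_self a J)))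
    have e : ∀ (u w : τ → γ), Function.update (fun l => if l ∈ J then u l else w l) a (u a) =
        fun l => if l ∈ insert a J then u l else w l := fun u w => by
      funext l
      by_cases hla : l = a
      · subst hla; simp
      · simp [hla]
    rwa [e, e] at h

theorem all_units (hX : Hyp X) {i : τ} {I : Finset τ} (hi : i ∉ I) {p q : τ → γ} (hpq : ∀ l ∈ I, p l ≠ q l)
    (hU : (unitOn I p q : Matrix (τ → γ) (τ → γ) F) ∈ ringS hX i) (r r' : τ → γ) :
    (unitOn I r r' : Matrix (τ → γ) (τ → γ) F) ∈ ringS hX i := by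
  choose s hs hs' using fun l : τ => exists_third hX.card₂ (r l) (r' l)
  rw [← unitOn_mul I r s r']
  exact mul_mem (all_offdiag hX hi hpq hU fun l _ => (hs l).symm) (all_offdiag hX hi hpq hU fun l _ => hs' l)

theorem drop (hX : Hyp X) {i : τ} {I : Finset τ}
    (h : ∀ r r' : τ → γ, (unitOn I r r' : Matrix (τ → γ) (τ → γ) F) ∈ ringS hX i) {l₀ : τ} (hl₀ : l₀ ∈ I)
    (r r' : τ → γ) : (unitOn (I.erase l₀) r r' : Matrix (τ → γ) (τ → γ) F) ∈ ringS hX i := by
  have e : (unitOn (I.erase l₀) r r' : Matrix (τ → γ) (τ → γ) F) =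
      ∑ a, unitOn I (Function.update r l₀ a) (Function.update r' l₀ a) := by
    set f : τ → Matrix γ γ F := fun l => if l ∈ I.erase l₀ then Matrix.single (r l) (r' l) 1 else 1
    have hf : ∀ a, (unitOn I (Function.update r l₀ a) (Function.update r' l₀ a) : Matrix (τ → γ) (τ → γ) F) =
        slot l₀ (Matrix.single a a 1) * tens f := fun a => by
      rw [slot_mul_tens, unitOn]
      congr 1
      funext o
      by_cases h : o = l₀
      · subst h; simp [hl₀, f]
      · simp [h, f]
    simp only [hf]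
    have h1 : ∑ a : γ, Matrix.single a a (1 : F) = 1 := by
      rw [Matrix.sum_single_eq_diagonal, Matrix.diagonal_one]
    rw [← Finset.sum_mul, ← slot_sum, h1, slot_one, one_mul]
    rfl
  rw [e]
  exact sum_mem fun a _ => h _ _

theorem exists_full_slot [Nonempty γ] (hX : Hyp X) {i : τ} {Z : Matrix (τ → γ) (τ → γ) F} (hZ : Z ∈ ringS hX i)
    (hns : ∀ c : F, Z ≠ c • 1) : ∃ l, l ≠ i ∧ ∀ a b, (sl l a b : Matrix (τ → γ) (τ → γ) F) ∈ ringS hX i := by
  classical
  haveI : Nontrivial γ := Fintype.one_lt_card_iff_nontrivial.mp (by have := hX.card₂; omega)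
  suffices h : ∀ P : Finset τ, ∃ (I : Finset τ) (p q : τ → γ), ∃ W ∈ ringS hX i, I ⊆ P ∧ i ∉ I ∧
      (∀ l ∈ I, p l ≠ q l) ∧ (∀ x y, (∃ l ∈ I, ¬(x l = p l ∧ y l = q l)) → W x y = 0) ∧
      (∀ l ∈ P, l ∉ I → ∀ A, Commute (slot l A) W) ∧ W ≠ 0 ∧ (I = ∅ → W = Z) by
    obtain ⟨I, p, q, W, hW, -, hi, hpq, hsupp, hcomm, hW0, hemp⟩ := h Finset.univ
    have hIne : I.Nonempty := by
      by_contra hI
      rw [Finset.not_nonempty_iff_eq_empty] at hI
      obtain ⟨c, hc⟩ := eq_scalar_of_comm (M := W)
        fun l A => hcomm l (Finset.mem_univ l) (by simp [hI]) A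
      exact hns c (by rw [← hemp hI, hc])
    obtain ⟨h0, h1⟩ := indep (Finset.univ \ I) (M := W)
      fun l hl p q => hcomm l (Finset.mem_univ l) (Finset.mem_sdiff.mp hl).2 _
    set y₀ : τ → γ := fun l => if l ∈ I then q l else p l with hy₀
    have hWU : W = W p y₀ • unitOn I p q := by
      ext x y
      rw [Matrix.smul_apply, unitOn_apply]
      split_ifs with hh
      · rw [smul_eq_mul, mul_one]
        refine h1 x y p y₀ (fun l hl => hh.2 l (Finset.mem_sdiff.mp hl).2) (fun l hl => ?_) (fun l hl => ?_)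
          (fun l hl => ?_)
        · simp [hy₀, (Finset.mem_sdiff.mp hl).2]
        · have hlI : l ∈ I := by simpa using hl
          exact (hh.1 l hlI).1
        · have hlI : l ∈ I := by simpa using hl
          simp [hy₀, hlI, (hh.1 l hlI).2]
      · rw [smul_zero]
        rcases not_and_or.mp hh with hh | hh <;> push Not at hh <;> obtain ⟨l, hl, hne⟩ := hh
        · exact hsupp x y ⟨l, hl, fun e => hne e.1 e.2⟩
        · exact h0 x y ⟨l, Finset.mem_sdiff.mpr ⟨Finset.mem_univ l, hl⟩, hne⟩
    have hc : W p y₀ ≠ 0 := fun h => hW0 (by rw [hWU, h, zero_smul])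
    have hU : (unitOn I p q : Matrix (τ → γ) (τ → γ) F) ∈ ringS hX i := by
      have := (ringS hX i).smul_mem hW (W p y₀)⁻¹
      rwa [hWU, smul_smul, ← hWU, inv_mul_cancel₀ hc, one_smul] at this
    obtain ⟨l, hl⟩ := hIne
    have hall : ∀ r r' : τ → γ, (unitOn {l} r r' : Matrix (τ → γ) (τ → γ) F) ∈ ringS hX i := by
      suffices h : ∀ J : Finset τ, l ∈ J → J ⊆ I →
          (∀ r r' : τ → γ, (unitOn J r r' : Matrix (τ → γ) (τ → γ) F) ∈ ringS hX i) →
          ∀ r r' : τ → γ, (unitOn {l} r r' : Matrix (τ → γ) (τ → γ) F) ∈ ringS hX i from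
        h I hl subset_rfl (all_units hX hi hpq hU)
      intro J
      induction J using Finset.strongInduction with
      | _ J ih =>
        intro hlJ hJI hJ
        by_cases hJ1 : J = {l}
        · subst hJ1; exact hJ
        · obtain ⟨o, ho, hol⟩ : ∃ o ∈ J, o ≠ l := by
            by_contra hh
            push Not at hh
            exact hJ1 (Finset.eq_singleton_iff_unique_mem.mpr ⟨hlJ, hh⟩)
          exact ih (J.erase o) (Finset.erase_ssubset ho) (Finset.mem_erase.mpr ⟨hol.symm, hlJ⟩)
            ((Finset.erase_subset _ _).trans hJI) (drop hX hJ ho)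
    refine ⟨l, fun e => hi (e ▸ hl), fun a b => ?_⟩
    have := hall (fun _ => a) (fun _ => b)
    convert this using 1
    rw [sl, slot, unitOn]
    congr 1
    funext o
    by_cases ho : o = l
    · subst ho; simp
    · simp [ho]
  intro P
  induction P using Finset.induction_on with
  | empty =>
    exact ⟨∅, fun _ => Classical.arbitrary γ, fun _ => Classical.arbitrary γ, Z, hZ, subset_rfl,
      Finset.notMem_empty i, fun l hl => absurd hl (Finset.notMem_empty l), fun x y ⟨l, hl, _⟩ =>
        absurd hl (Finset.notMem_empty l), fun l hl => absurd hl (Finset.notMem_empty l),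
      fun h => hns 0 (by rw [h, zero_smul]), fun _ => rfl⟩
  | insert a P ha ih =>
    obtain ⟨I, p, q, W, hW, hIP, hi, hpq, hsupp, hcomm, hW0, hemp⟩ := ih
    by_cases hca : ∀ A, Commute (slot a A) W
    · exact ⟨I, p, q, W, hW, hIP.trans (Finset.subset_insert a P), hi, hpq, hsupp, fun l hl hlI => by
        rcases Finset.mem_insert.mp hl with rfl | hl
        · exact hca
        · exact hcomm l hl hlI, hW0, hemp⟩
    have hai : a ≠ i := fun e => hca (e ▸ hW.1)
    have haI : a ∉ I := fun h => ha (hIP h)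
    -- a sandwich by an off-diagonal unit which does not vanish
    obtain ⟨b, c, W', hbc, hW', hsupp', hcomm', hne⟩ : ∃ (b c : γ) (W' : Matrix (τ → γ) (τ → γ) F), b ≠ c ∧
        W' ∈ ringS hX i ∧ (∀ x y, (∃ l ∈ I, ¬(x l = p l ∧ y l = q l)) → W' x y = 0) ∧
        (∀ l ∈ P, l ∉ I → ∀ A, Commute (slot l A) W') ∧ sl a b c * W' * sl a b c ≠ 0 := by
      by_cases hs : ∃ b c : γ, b ≠ c ∧ sl a b c * W * sl a b c ≠ 0
      · obtain ⟨b, c, hbc, h⟩ := hs
        exact ⟨b, c, W, hbc, hW, hsupp, hcomm, h⟩
      push Not at hs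
      have hoff : ∀ x y : τ → γ, x a ≠ y a → W x y = 0 := by
        intro x y hxy
        have := congrFun (congrFun (hs (y a) (x a) hxy.symm) (Function.update x a (y a))) (Function.update y a (x a))
        rwa [mul_slot_single, if_pos (Function.update_self _ _ _), slot_single_mul,
          if_pos (Function.update_self _ _ _), Function.update_idem, Function.update_eq_self, Function.update_idem,
          Function.update_eq_self, one_mul, mul_one, Matrix.zero_apply] at this
      obtain ⟨b, c, hbc, hnc⟩ : ∃ b c : γ, b ≠ c ∧ ¬ Commute (sl a b c) W := by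
        by_contra hh
        push Not at hh
        exact hca (comm_slot_of_offdiag hh)
      have hmem : W + (sl a b c * W - W * sl a b c) ∈ ringS hX i := by
        have := add_mem hW (conj_mem hX hai hbc hW)
        rwa [hs b c hbc, sub_zero] at this
      refine ⟨c, b, _, hbc.symm, hmem, fun x y hxy => ?_, fun l hl hlI A => ?_, ?_⟩
      · obtain ⟨l, hl, hne⟩ := hxy
        have hla : l ≠ a := fun e => haI (e ▸ hl)
        rw [Matrix.add_apply, Matrix.sub_apply, slot_single_mul, mul_slot_single, hsupp x y ⟨l, hl, hne⟩,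
          hsupp (Function.update x a c) y ⟨l, hl, by rwa [Function.update_of_ne hla]⟩,
          hsupp x (Function.update y a b) ⟨l, hl, by rwa [Function.update_of_ne hla]⟩]
        simp
      · have hc : Commute (slot l A) (sl a b c : Matrix (τ → γ) (τ → γ) F) :=
          slot_comm (show l ≠ a from fun e => ha (e ▸ hl)) _ _
        exact (hcomm l hl hlI A).add_right ((hc.mul_right (hcomm l hl hlI A)).sub_right ((hcomm l hl hlI A).mul_right hc))
      · intro h0
        refine hnc (Matrix.ext fun x y => ?_)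
        rw [slot_single_mul, mul_slot_single, one_mul, mul_one]
        by_cases hx : x a = b
        · by_cases hy : y a = c
          · have := congrFun (congrFun h0 (Function.update x a c)) (Function.update y a b)
            rw [mul_slot_single, if_pos (Function.update_self _ _ _), slot_single_mul,
              if_pos (Function.update_self _ _ _), Function.update_idem, Function.update_idem, one_mul, mul_one,
              ← hx, Function.update_eq_self, ← hy, Function.update_eq_self, Matrix.zero_apply, Matrix.add_apply,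
              Matrix.sub_apply, slot_single_mul, mul_slot_single, if_pos rfl, if_pos rfl, one_mul, mul_one,
              hoff x y (by rw [hx, hy]; exact hbc), zero_add, sub_eq_zero] at this
            rw [if_pos hx, if_pos hy]
            rw [hx, hy] at this
            exact this
          · rw [if_pos hx, if_neg hy, hoff _ _ (by rw [Function.update_self]; exact Ne.symm hy)]
        · rw [if_neg hx]
          split_ifs with hy
          · rw [hoff _ _ (by rw [Function.update_self]; exact hx)]
          · rfl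
    refine ⟨insert a I, Function.update p a b, Function.update q a c, _, eze_mem hX hai hbc hW',
      Finset.insert_subset_insert a hIP, ?_, ?_, ?_, ?_, hne, fun h => absurd h (Finset.insert_ne_empty a I)⟩
    · simp [hai.symm, hi]
    · intro l hl
      by_cases hla : l = a
      · subst hla; simpa using hbc
      · simpa [hla] using hpq l ((Finset.mem_insert.mp hl).resolve_left hla)
    · rintro x y ⟨l, hl, hne⟩
      rw [mul_slot_single, slot_single_mul]
      split_ifs with hy hx
      · by_cases hla : l = a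
        · subst hla; exact absurd ⟨by simpa using hx, by simpa using hy⟩ hne
        · rw [hsupp' _ _ ⟨l, (Finset.mem_insert.mp hl).resolve_left hla, by simpa [hla] using hne⟩, mul_zero, zero_mul]
      · rw [zero_mul]
      · rfl
    · intro l hl hlI A
      rw [Finset.mem_insert, not_or] at hlI
      have hc : Commute (slot l A) (sl a b c : Matrix (τ → γ) (τ → γ) F) := slot_comm hlI.1 _ _
      exact (hc.mul_right (hcomm' l ((Finset.mem_insert.mp hl).resolve_left hlI.1) hlI.2 A)).mul_right hc

/-- A full slot in the ring of one slot spreads to every slot. -/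
theorem all_slots (hX : Hyp X) {i l₀ : τ} (hl₀ : l₀ ≠ i)
    (h : ∀ a b, (sl l₀ a b : Matrix (τ → γ) (τ → γ) F) ∈ ringS hX i) {l : τ} (hl : l ≠ i) (a b : γ) :
    (sl l a b : Matrix (τ → γ) (τ → γ) F) ∈ ringS hX i := by
  by_cases e : l = l₀
  · subst e; exact h a b
  have hoff : ∀ a b, a ≠ b → (sl l a b : Matrix (τ → γ) (τ → γ) F) ∈ ringS hX i := by
    intro a b hab
    obtain ⟨k, hk, ek⟩ := hX.cyc i l l₀ hl.symm e hl₀.symm
    set σ := Equiv.swap i l * Equiv.swap l l₀ with hσ
    have hσi : σ i = l := by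
      rw [hσ, Equiv.Perm.mul_apply, Equiv.swap_apply_of_ne_of_ne hl.symm hl₀.symm, Equiv.swap_apply_left]
    have hσl : σ l₀ = i := by
      rw [hσ, Equiv.Perm.mul_apply, Equiv.swap_apply_right, Equiv.swap_apply_right]
    refine (mem_ringS hX i _).mpr ⟨fun A => slot_comm hl.symm _ _, fun p q _ c => ?_⟩
    obtain ⟨g, hg, eg⟩ := (h p q).2 a b hab c
    refine ⟨k * g * k⁻¹, mul_mem (mul_mem hk hg) (inv_mem hk), ?_⟩
    rw [Units.val_mul, Units.val_mul, eg, mul_add, mul_one, add_mul, ← Units.val_mul, mul_inv_cancel, Units.val_one]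
    congr 1
    rw [mul_smul_comm, smul_mul_assoc, ek, ← mul_assoc, sl, sl, perm_slot, mul_assoc (slot (σ l₀) _), perm_slot, hσi,
      hσl, ← ek, mul_assoc, mul_assoc, Units.mul_inv, mul_one, sl, sl, (slot_comm hl.symm _ _).eq]
  by_cases hab : a = b
  · subst hab
    haveI : Nontrivial γ := Fintype.one_lt_card_iff_nontrivial.mp (by have := hX.card₂; omega)
    obtain ⟨o, ho⟩ := exists_ne a
    rw [← sl_mul l a o a]
    exact mul_mem (hoff a o ho.symm) (hoff o a ho)
  · exact hoff a b hab

/-- All slots in the ring of one slot give all transvections. -/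
theorem full_of_all_slots (hX : Hyp X) {i : τ}
    (h : ∀ l, l ≠ i → ∀ a b, (sl l a b : Matrix (τ → γ) (τ → γ) F) ∈ ringS hX i) :
    Cfsg.Geo.specialLinear (τ → γ) F ≤ X := by
  classical
  have hun : ∀ s : Finset τ, i ∉ s → ∀ x y : τ → γ, (unitOn s x y : Matrix (τ → γ) (τ → γ) F) ∈ ringS hX i := by
    intro s
    induction s using Finset.induction_on with
    | empty =>
      intro _ x y
      convert one_mem (ringS hX i)
      rw [unitOn, ← tens_one]
      congr 1
    | insert a s ha ih =>
      intro hi x y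
      rw [Finset.mem_insert, not_or] at hi
      have e : (unitOn (insert a s) x y : Matrix (τ → γ) (τ → γ) F) = sl a (x a) (y a) * unitOn s x y := by
        rw [sl, unitOn, unitOn, slot_mul_tens]
        congr 1
        funext o
        by_cases ho : o = a
        · subst ho; simp [ha]
        · simp [ho]
      rw [e]
      exact mul_mem (h a (Ne.symm hi.1) _ _) (ih hi.2 x y)
  have hd : ∀ x y : τ → γ, x i ≠ y i → ∀ c : F, In X (c • Matrix.single x y (1 : F)) := by
    intro x y hxy c
    have := (hun (Finset.univ.erase i) (Finset.notMem_erase i _) x y).2 (x i) (y i) hxy c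
    convert this using 2
    rw [sl, unitOn, tens_mul_slot, single_eq_tens]
    congr 1
    funext o
    by_cases ho : o = i
    · subst ho; simp
    · simp [ho]
  refine LinOne.specialLinear_le fun x y hxy c => ?_
  have hin : In X (c • Matrix.single x y (1 : F)) := by
    by_cases hi : x i = y i
    · obtain ⟨o, ho, -⟩ := exists_third hX.card₂ (x i) (x i)
      set z : τ → γ := Function.update x i o
      have hz : z i = o := Function.update_self _ _ _
      have hxz : x i ≠ z i := by rw [hz]; exact ho.symm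
      have hzy : z i ≠ y i := by rw [hz, ← hi]; exact ho
      have := (hd x z hxz c).comm (hd z y hzy 1) ?_ ?_ ?_
      · convert this using 1
        rw [one_smul, smul_mul_assoc, Matrix.single_mul_single_same, mul_one]
      · rw [smul_mul_smul_comm, Matrix.single_mul_single_of_ne _ _ _ _ (fun e => hxz (congrFun e i).symm), smul_zero]
      · rw [one_smul, Matrix.single_mul_single_of_ne _ _ _ _ (fun e => hzy (congrFun e i).symm)]
      · rw [one_smul, mul_smul_comm, Matrix.single_mul_single_of_ne _ _ _ _ hxy.symm, smul_zero]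
    · exact hd x y hi c
  obtain ⟨g, hg, e⟩ := hin
  refine ⟨g, hg, ?_⟩
  rw [e, Matrix.single_eq_single_vecMulVec_single, ← smul_vecMulVec, ← Pi.single_smul, smul_eq_mul, mul_one]

/-- Outside the special linear group all radicals are scalar. -/
theorem Hyp.scal [Nonempty γ] (hX : Hyp X) (hnot : ¬ Cfsg.Geo.specialLinear (τ → γ) F ≤ X) (i : τ) :
    Scal (X.map (coord i).toMonoidHom) where
  card₂ := hX.card₂
  sl b hb := by
    obtain ⟨k, hk, e⟩ := hX.slot i b hb
    refine ⟨coord i k, ⟨k, hk, rfl⟩, (toBig i).injective ?_⟩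
    rw [coord_val, e, slot_eq]
  scal j₀ := by
    rintro Y ⟨g', ⟨g, hg, rfl⟩, e⟩ n hn
    by_contra hns
    push Not at hns
    obtain ⟨m', hm'n, hm'j⟩ := exists_third hX.card₂ n j₀
    have eg : (g : Matrix (τ → γ) (τ → γ) F) = 1 + toBig i (rad j₀ Y) := by
      rw [← coord_val i g, show ((coord i g : GL ((Rest i → γ) × γ) F) : Matrix ((Rest i → γ) × γ) ((Rest i → γ) × γ) F) =
        1 + rad j₀ Y from e, map_add, map_one]
    set Z : Matrix (τ → γ) (τ → γ) F := outer i (Y n) with hZ
    have hcZ : ∀ A, Commute (TensorPowLin.slot i A) Z := fun A => (outer_comm i (Y n) A).symm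
    have hEl : El X i Z j₀ m' := by
      intro c
      have h1 : In X (toBig i (rad j₀ Y)) := ⟨g, hg, eg⟩
      have := h1.comm (hX.transv (i := i) hm'n.symm c) ?_ ?_ ?_
      · convert this using 1
        rw [hZ, mul_smul_comm, sl, sl, slot_eq, outer, slot_eq, ← map_mul, ← map_mul,
          TensorMax.rad_mul_single hn hm'j, ← mul_kronecker_mul, mul_one, one_mul]
        congr 2
        ext ⟨a, k⟩ ⟨a', k'⟩
        rw [rad_apply, one_smul, kroneckerMap_apply]
        by_cases hk : k' = m'
        · subst hk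
          by_cases hk' : k = j₀
          · subst hk'
            rw [if_pos ⟨rfl, hm'j⟩, Matrix.single_apply_same, mul_one, Pi.single_eq_same]
          · rw [if_neg (fun h => hk' h.1), Matrix.single_apply_of_ne _ _ _ _ _ (fun h => hk' h.1.symm), mul_zero]
        · rw [Matrix.single_apply_of_ne _ _ _ _ _ (fun h => hk h.2.symm), mul_zero, Pi.single_eq_of_ne hk]
          split <;> rfl
      · rw [← map_mul, TensorMax.rad_mul_rad, map_zero]
      · rw [smul_mul_smul_comm, sl_mul_ne i n m' hm'n, smul_zero]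
      · rw [smul_mul_assoc, sl, slot_eq, ← map_mul, TensorMax.single_mul_rad hm'j, map_zero, smul_zero]
    have hmem : Z ∈ ringS hX i := ⟨hcZ, fun p q hpq => hEl.all hX hcZ hm'j.symm hpq⟩
    have hnsZ : ∀ c : F, Z ≠ c • 1 := by
      intro c hc
      have : Y n ⊗ₖ (1 : Matrix γ γ F) = c • 1 := (toBig i).injective (by rw [map_smul, map_one]; exact hc)
      refine hns c (Matrix.ext fun a b => ?_)
      have h2 := congrFun (congrFun this (a, n)) (b, n)
      simpa [Matrix.one_apply] using h2
    obtain ⟨l₀, hl₀, hfull⟩ := exists_full_slot hX hmem hnsZ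
    exact hnot (full_of_all_slots hX fun l hl => all_slots hX hl₀ hfull hl)

end Cfsg.Lib.Classical.TensorPowLin
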