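import Cfsg.Agent.Classical.TensorPowLin.Wreath

/-!
# The trilinear invariant for three-dimensional slots over the field of two elements
-/

set_option autoImplicit false
set_option linter.unusedSectionVars false
set_option linter.unusedSimpArgs false
set_option linter.unusedVariables false
set_option linter.style.haveILetI false

namespace Cfsg.Lib.Classical.TensorPowLin

open Matrix Finset
open scoped Kronecker MatrixGroups

universe u

variable {τ γ : Type} [Fintype τ] [DecidableEq τ] [Fintype γ] [DecidableEq γ] {F : Type u} [Field F]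

/-- The determinant form in characteristic two. -/
def eps (a b c : γ) : F := if a ≠ b ∧ b ≠ c ∧ a ≠ c then 1 else 0

theorem eps_self₁₂ (a c : γ) : (eps a a c : F) = 0 := by simp [eps]

theorem eps_self₂₃ (a c : γ) : (eps a c c : F) = 0 := by simp [eps]

theorem eps_self₁₃ (a c : γ) : (eps a c a : F) = 0 := by simp [eps]

theorem mem_three (h3 : Fintype.card γ = 3) {a b c : γ} (hab : a ≠ b) (hbc : b ≠ c) (hac : a ≠ c) (q : γ) :
    q = a ∨ q = b ∨ q = c := by
  have : ({a, b, c} : Finset γ) = univ := Finset.eq_univ_of_card _ (by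
    rw [h3, Finset.card_eq_three]
    exact ⟨a, b, c, hab, hac, hbc, rfl⟩)
  have hq := Finset.mem_univ q
  rw [← this] at hq
  simpa using hq

theorem eps_avoid (h3 : Fintype.card γ = 3) {a b c q : γ} (ha : a ≠ q) (hb : b ≠ q) (hc : c ≠ q) :
    (eps a b c : F) = 0 := by
  rw [eps, if_neg]
  rintro ⟨h1, h2, h4⟩
  rcases mem_three h3 h1 h2 h4 q with h | h | h
  · exact ha h.symm
  · exact hb h.symm
  · exact hc h.symm

theorem eps_sum (h3 : Fintype.card γ = 3) (h2 : (2 : F) = 0) (a d b e : γ) :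
    ∑ c, (eps a d c * eps b e c : F) =
      (if a = b then 1 else 0) * (if d = e then 1 else 0) + (if a = e then 1 else 0) * (if d = b then 1 else 0) := by
  by_cases had : a = d
  · subst had
    rw [Finset.sum_eq_zero fun c _ => by rw [eps_self₁₂, zero_mul]]
    rw [mul_comm (if a = e then (1 : F) else 0), ← two_mul, h2, zero_mul]
  obtain ⟨c₀, hca, hcd⟩ := exists_third (by omega) a d
  have hm := mem_three h3 had hcd.symm hca.symm
  rw [Finset.sum_eq_single c₀ (fun c _ hc => by
    rcases hm c with rfl | rfl | rfl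
    · rw [eps_self₁₃, zero_mul]
    · rw [eps_self₂₃, zero_mul]
    · exact absurd rfl hc) (fun h => absurd (mem_univ _) h)]
  rcases hm b with rfl | rfl | rfl <;> rcases hm e with rfl | rfl | rfl <;>
    simp [eps, had, Ne.symm had, hca, hca.symm, hcd, hcd.symm]

section tri

variable {κ : Type} [Fintype κ] [DecidableEq κ]

/-- The trilinear form with given coefficients. -/
def tri (K : κ → κ → κ → F) : (κ → F) →ₗ[F] (κ → F) →ₗ[F] (κ → F) →ₗ[F] F :=
  ∑ a, ∑ b, ∑ c, K a b c •
    (LinearMap.proj a : (κ → F) →ₗ[F] F).smulRight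
      ((LinearMap.proj b : (κ → F) →ₗ[F] F).smulRight (LinearMap.proj c : (κ → F) →ₗ[F] F))

theorem tri_apply (K : κ → κ → κ → F) (v w z : κ → F) :
    tri K v w z = ∑ a, ∑ b, ∑ c, K a b c * (v a * (w b * z c)) := by
  simp [tri, LinearMap.sum_apply]

theorem tri_single (K : κ → κ → κ → F) (a b c : κ) :
    tri K (Pi.single a 1) (Pi.single b 1) (Pi.single c 1) = K a b c := by
  rw [tri_apply, Finset.sum_eq_single a, Finset.sum_eq_single b, Finset.sum_eq_single c]
  · simp
  all_goals intros
  all_goals simp_all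

/-- A trilinear form composed with a matrix. -/
def comp3 (Φ : (κ → F) →ₗ[F] (κ → F) →ₗ[F] (κ → F) →ₗ[F] F) (g : Matrix κ κ F) :
    (κ → F) →ₗ[F] (κ → F) →ₗ[F] (κ → F) →ₗ[F] F where
  toFun v := (Φ (g *ᵥ v)).compl₁₂ g.mulVecLin g.mulVecLin
  map_add' v v' := LinearMap.ext fun w => LinearMap.ext fun z => by simp [mulVec_add]
  map_smul' r v := LinearMap.ext fun w => LinearMap.ext fun z => by simp [mulVec_smul]

theorem comp3_apply (Φ : (κ → F) →ₗ[F] (κ → F) →ₗ[F] (κ → F) →ₗ[F] F) (g : Matrix κ κ F) (v w z : κ → F) :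
    comp3 Φ g v w z = Φ (g *ᵥ v) (g *ᵥ w) (g *ᵥ z) := rfl

theorem comp3_mul (Φ : (κ → F) →ₗ[F] (κ → F) →ₗ[F] (κ → F) →ₗ[F] F) (g h : Matrix κ κ F) :
    comp3 Φ (g * h) = comp3 (comp3 Φ g) h :=
  LinearMap.ext fun v => LinearMap.ext fun w => LinearMap.ext fun z => by
    simp only [comp3_apply, mulVec_mulVec]

theorem comp3_one (Φ : (κ → F) →ₗ[F] (κ → F) →ₗ[F] (κ → F) →ₗ[F] F) : comp3 Φ 1 = Φ :=
  LinearMap.ext fun v => LinearMap.ext fun w => LinearMap.ext fun z => by
    simp only [comp3_apply, one_mulVec]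

theorem tri_ext {Φ Ψ : (κ → F) →ₗ[F] (κ → F) →ₗ[F] (κ → F) →ₗ[F] F}
    (h : ∀ a b c, Φ (Pi.single a 1) (Pi.single b 1) (Pi.single c 1) =
      Ψ (Pi.single a 1) (Pi.single b 1) (Pi.single c 1)) : Φ = Ψ := by
  refine (Pi.basisFun F κ).ext fun a => (Pi.basisFun F κ).ext fun b => (Pi.basisFun F κ).ext fun c => ?_
  simpa [Pi.basisFun_apply] using h a b c

end tri

/-- The invariant of one slot under matrices of determinant one. -/
theorem eps_invariant (h3 : Fintype.card γ = 3) (h2 : (2 : F) = 0) (hF : ∀ x : F, x ≠ 0 → x = 1)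
    (B : Matrix γ γ F) (hB : B.det ≠ 0) :
    comp3 (tri (eps : γ → γ → γ → F)) B = tri eps := by
  refine Matrix.diagonal_transvection_induction_of_det_ne_zero
    (fun B : Matrix γ γ F => comp3 (tri (eps : γ → γ → γ → F)) B = tri eps) B hB ?_ ?_ ?_
  · intro d hd
    have : Matrix.diagonal d = (1 : Matrix γ γ F) := by
      rw [← Matrix.diagonal_one]
      congr 1
      funext x
      rw [Matrix.det_diagonal] at hd
      exact hF _ fun h0 => hd (Finset.prod_eq_zero (mem_univ x) h0)
    simp only [this]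
    exact comp3_one _
  · intro t
    refine tri_ext fun x y z => ?_
    have hcol : ∀ w, t.toMatrix *ᵥ (Pi.single w 1 : γ → F) =
        Pi.single w 1 + (if w = t.j then t.c else 0) • Pi.single t.i 1 := fun w => by
      rw [Matrix.TransvectionStruct.toMatrix, Matrix.transvection, add_mulVec, one_mulVec]
      congr 1
      funext r
      simp only [mulVec_single, Pi.smul_apply, col_apply, Matrix.single_apply, Pi.single_apply, smul_eq_mul,
        MulOpposite.op_one, one_smul]
      split_ifs <;> simp_all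
    rw [comp3_apply, hcol, hcol, hcol]
    have hne := t.hij
    simp only [map_add, map_smul, LinearMap.add_apply, LinearMap.smul_apply, tri_single, smul_eq_mul]
    have hswap : ∀ p q r : γ, (eps p q r : F) = eps q p r ∧ (eps p q r : F) = eps p r q ∧ (eps p q r : F) = eps r q p := by
      intro p q r
      simp only [eps, ne_eq]
      refine ⟨?_, ?_, ?_⟩ <;> congr 1 <;> apply propext <;> tauto
    by_cases hx : x = t.j <;> by_cases hy : y = t.j <;> by_cases hz : z = t.j
    · simp [hx, hy, hz, eps_self₁₂, eps_self₂₃, eps_self₁₃]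
    · simp only [hx, hy, hz, if_true, if_false, eps_self₁₂, mul_zero, zero_mul, add_zero, zero_add]
      rw [(hswap t.i t.j z).1]
      linear_combination (t.c * eps t.j t.i z) * h2
    · simp only [hx, hy, hz, if_true, if_false, eps_self₁₃, mul_zero, zero_mul, add_zero, zero_add]
      rw [(hswap t.i y t.j).2.2]
      linear_combination (t.c * eps t.j y t.i) * h2
    · simp [hx, hy, hz, eps_avoid h3 hne hy hz]
    · simp only [hx, hy, hz, if_true, if_false, eps_self₂₃, mul_zero, zero_mul, add_zero, zero_add]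
      rw [(hswap x t.i t.j).2.1]
      linear_combination (t.c * eps x t.j t.i) * h2
    · simp [hx, hy, hz, eps_avoid h3 hx hne hz]
    · simp [hx, hy, hz, eps_avoid h3 hx hy hne]
    · simp [hx, hy, hz]
  · intro A B _ _ hA hB
    rw [comp3_mul, hA, hB]

/-- The coefficients of the invariant. -/
def om (x y z : τ → γ) : F := ∏ l, eps (x l) (y l) (z l)

/-- The invariant. -/
def omTri : ((τ → γ) → F) →ₗ[F] ((τ → γ) → F) →ₗ[F] ((τ → γ) → F) →ₗ[F] F := tri om

/-- The invariant is fixed. -/
def Inv (g : Matrix (τ → γ) (τ → γ) F) : Prop := comp3 (omTri (τ := τ) (γ := γ) (F := F)) g = omTri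

theorem mulVec_single_one' {κ : Type} [Fintype κ] [DecidableEq κ] (M : Matrix κ κ F) (x : κ) :
    M *ᵥ Pi.single x 1 = fun a => M a x := by
  funext a
  simp [Matrix.mulVec, dotProduct_single]

theorem inv_mul {g h : Matrix (τ → γ) (τ → γ) F} (hg : Inv g) (hh : Inv h) : Inv (g * h) := by
  rw [Inv, comp3_mul, hg, hh]

theorem inv_tens (h3 : Fintype.card γ = 3) (h2 : (2 : F) = 0) (hF : ∀ x : F, x ≠ 0 → x = 1)
    (b : τ → Matrix γ γ F) (hb : ∀ l, (b l).det ≠ 0) : Inv (tens b) := by
  refine tri_ext fun x y z => ?_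
  rw [comp3_apply, omTri, tri_single, tri_apply, mulVec_single_one', mulVec_single_one', mulVec_single_one']
  have e : ∀ l, ∑ a, ∑ b', ∑ c, (eps a b' c : F) * (b l a (x l) * (b l b' (y l) * b l c (z l))) =
      eps (x l) (y l) (z l) := fun l => by
    have := congrArg (fun Φ : (γ → F) →ₗ[F] (γ → F) →ₗ[F] (γ → F) →ₗ[F] F =>
      Φ (Pi.single (x l) 1) (Pi.single (y l) 1) (Pi.single (z l) 1)) (eps_invariant h3 h2 hF (b l) (hb l))
    simp only [comp3_apply, tri_single, mulVec_single_one'] at this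
    rwa [tri_apply] at this
  rw [om, ← Finset.prod_congr rfl fun l _ => e l, Fintype.prod_sum]
  refine Finset.sum_congr rfl fun a _ => ?_
  rw [Fintype.prod_sum]
  refine Finset.sum_congr rfl fun b' _ => ?_
  rw [Fintype.prod_sum]
  refine Finset.sum_congr rfl fun c _ => ?_
  simp only [tens_apply, om, Finset.prod_mul_distrib]

theorem inv_perm (σ : Equiv.Perm τ) : Inv (perm σ : Matrix (τ → γ) (τ → γ) F) := by
  refine tri_ext fun x y z => ?_
  have e : ∀ w : τ → γ, (perm σ : Matrix (τ → γ) (τ → γ) F) *ᵥ Pi.single w 1 = Pi.single (w ∘ σ.symm) 1 := fun w => by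
    funext a
    rw [mulVec_single_one']
    show (perm σ : Matrix (τ → γ) (τ → γ) F) a w = _
    simp only [perm, Matrix.of_apply, Pi.single_apply]
    refine if_congr ⟨fun h => ?_, fun h => ?_⟩ rfl rfl <;> subst h <;> ext <;> simp
  rw [comp3_apply, e, e, e, omTri, tri_single, tri_single]
  exact Fintype.prod_equiv σ.symm _ _ fun l => rfl

/-- The matrix of the invariant at a vector. -/
def amat : ((τ → γ) → F) →ₗ[F] Matrix (τ → γ) (τ → γ) F where
  toFun v := Matrix.of fun d c => omTri v (Pi.single d 1) (Pi.single c 1)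
  map_add' v v' := by ext; simp
  map_smul' r v := by ext; simp

theorem amat_dot (v x y : (τ → γ) → F) : omTri v x y = x ⬝ᵥ (amat v *ᵥ y) := by
  conv_lhs => rw [pi_eq_sum_univ' x, pi_eq_sum_univ' y]
  simp only [map_sum, map_smul, LinearMap.sum_apply, LinearMap.smul_apply, dotProduct, mulVec, amat, LinearMap.coe_mk,
    AddHom.coe_mk, Matrix.of_apply, smul_eq_mul, Finset.mul_sum]
  rw [Finset.sum_comm]
  exact Finset.sum_congr rfl fun a _ => Finset.sum_congr rfl fun b _ => by ring

theorem amat_inv {g g' : Matrix (τ → γ) (τ → γ) F} (hg : Inv g) (hgg' : g * g' = 1) (v : (τ → γ) → F) :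
    amat (g *ᵥ v) = g'ᵀ * amat v * g' := by
  ext d c
  have h1 : g *ᵥ (g' *ᵥ Pi.single d 1) = Pi.single d 1 := by rw [mulVec_mulVec, hgg', one_mulVec]
  have h2 : g *ᵥ (g' *ᵥ Pi.single c 1) = Pi.single c 1 := by rw [mulVec_mulVec, hgg', one_mulVec]
  show omTri (g *ᵥ v) (Pi.single d 1) (Pi.single c 1) = _
  rw [← h1, ← h2, ← comp3_apply, hg, amat_dot, Matrix.mul_assoc, mulVec_mulVec, mulVec_single_one',
    mulVec_single_one', Matrix.mul_apply, dotProduct]
  rfl

/-- The operator of the invariant. -/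
def piOp : Matrix (τ → γ) (τ → γ) F →ₗ[F] Matrix (τ → γ) (τ → γ) F where
  toFun N := ∑ a, ∑ b, N a b • (amat (Pi.single b 1) * (amat (Pi.single a 1))ᵀ)
  map_add' N N' := by simp [add_smul, Finset.sum_add_distrib]
  map_smul' r N := by simp [Finset.smul_sum, smul_smul]

theorem piOp_vecMulVec (v w : (τ → γ) → F) : piOp (vecMulVec v w) = amat w * (amat v)ᵀ := by
  conv_rhs => rw [pi_eq_sum_univ' v, pi_eq_sum_univ' w]
  simp only [piOp, LinearMap.coe_mk, AddHom.coe_mk, map_sum, map_smul, Matrix.transpose_sum, Matrix.transpose_smul,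
    Finset.sum_mul, Finset.mul_sum, smul_mul_assoc, mul_smul_comm, smul_smul, vecMulVec_apply]
  refine Finset.sum_congr rfl fun a _ => ?_
  rw [Finset.smul_sum]
  exact Finset.sum_congr rfl fun b _ => by rw [smul_smul]

theorem piOp_conj {g : GL (τ → γ) F} (hg : Inv (g : Matrix (τ → γ) (τ → γ) F))
    (hg' : Inv ((g⁻¹ : GL (τ → γ) F) : Matrix (τ → γ) (τ → γ) F)ᵀ) (N : Matrix (τ → γ) (τ → γ) F) :
    piOp (conjM g N) = conjM g (piOp N) := by
  suffices h : (piOp : Matrix (τ → γ) (τ → γ) F →ₗ[F] _) ∘ₗ conjM g = conjM g ∘ₗ piOp from LinearMap.congr_fun h N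
  refine (Matrix.stdBasis F (τ → γ) (τ → γ)).ext fun ⟨a, b⟩ => ?_
  rw [Matrix.stdBasis_eq_single]
  set G := (g : Matrix (τ → γ) (τ → γ) F) with hG
  set G' := ((g⁻¹ : GL (τ → γ) F) : Matrix (τ → γ) (τ → γ) F) with hG'
  have h1 : G * G' = 1 := Units.mul_inv g
  have h2 : G'ᵀ * Gᵀ = 1 := by rw [← transpose_mul, h1, transpose_one]
  have hvm : conjM g (Matrix.single a b (1 : F)) = vecMulVec (G *ᵥ Pi.single a 1) (G'ᵀ *ᵥ Pi.single b 1) := by
    rw [conjM_apply, ← hG, ← hG', Matrix.single_eq_single_vecMulVec_single, mul_vecMulVec, vecMulVec_mul,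
      mulVec_transpose]
  show piOp (conjM g (Matrix.single a b 1)) = conjM g (piOp (Matrix.single a b 1))
  rw [hvm, piOp_vecMulVec, amat_inv hg h1, amat_inv hg' h2, Matrix.single_eq_single_vecMulVec_single, piOp_vecMulVec,
    conjM_apply, ← hG, ← hG', transpose_mul, transpose_mul, transpose_transpose, transpose_transpose]
  have h3 : Gᵀ * G'ᵀ = 1 := by rw [← transpose_mul, Units.inv_mul, transpose_one]
  simp only [← mul_assoc]
  rw [mul_assoc (G * amat (Pi.single b 1)) Gᵀ G'ᵀ, h3, mul_one]

theorem amat_single (a d c : τ → γ) : (amat (Pi.single a 1) : Matrix (τ → γ) (τ → γ) F) d c = om a d c := by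
  show omTri _ _ _ = _
  rw [omTri, tri_single]

theorem piOp_tens (h3 : Fintype.card γ = 3) (h2 : (2 : F) = 0) (f : τ → Matrix γ γ F) :
    piOp (tens f) = tens fun l => f l + (f l).trace • 1 := by
  ext e d
  have hslot : ∀ l, ∑ a, ∑ b, f l a b * ∑ c, (eps b (e l) c : F) * eps a (d l) c =
      (f l + (f l).trace • 1 : Matrix γ γ F) (e l) (d l) := fun l => by
    simp only [mul_comm (eps _ (e l) _) (eps _ (d l) _), eps_sum h3 h2]
    simp only [mul_add, Finset.sum_add_distrib, mul_ite, ite_mul, mul_one, one_mul, mul_zero, zero_mul,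
      Matrix.add_apply, Matrix.smul_apply, Matrix.one_apply, smul_eq_mul]
    rw [add_comm]
    congr 1
    · simp [Finset.sum_ite_eq, Finset.sum_ite_eq']
    · by_cases h : e l = d l <;> simp [h, eq_comm (a := d l), Matrix.trace, Finset.sum_ite_eq, Finset.sum_ite_eq']
  rw [tens_apply, ← Finset.prod_congr rfl fun l _ => hslot l, Fintype.prod_sum]
  simp only [piOp, LinearMap.coe_mk, AddHom.coe_mk, Matrix.sum_apply, Matrix.smul_apply, Matrix.mul_apply,
    Matrix.transpose_apply, amat_single, smul_eq_mul]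
  refine Finset.sum_congr rfl fun a _ => ?_
  rw [Fintype.prod_sum]
  refine Finset.sum_congr rfl fun b _ => ?_
  rw [Finset.prod_mul_distrib, tens_apply, Fintype.prod_sum]
  congr 1
  refine Finset.sum_congr rfl fun c _ => ?_
  rw [Finset.prod_mul_distrib]
  rfl

theorem piOp_traceless (h3 : Fintype.card γ = 3) (h2 : (2 : F) = 0) (f : τ → Matrix γ γ F)
    (hf : ∀ l, (f l).trace = 0) : piOp (tens f) = tens f := by
  rw [piOp_tens h3 h2]
  congr 1
  funext l
  rw [hf, zero_smul, add_zero]

/-- The trace out of one slot. -/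
def trOut (l : τ) : Matrix (τ → γ) (τ → γ) F →ₗ[F] Matrix (Rest l → γ) (Rest l → γ) F where
  toFun M := Matrix.of fun a b => ∑ k, (toBig l).symm M (a, k) (b, k)
  map_add' M N := by ext; simp [Finset.sum_add_distrib]
  map_smul' r M := by ext; simp [Finset.mul_sum]

theorem toBig_tens (l : τ) (f : Rest l → Matrix γ γ F) (A : Matrix γ γ F) :
    toBig l (tens f ⊗ₖ A) = tens fun o => if h : o = l then A else f ⟨o, h⟩ := by
  ext x y
  rw [toBig_apply, kroneckerMap_apply, tens_apply, tens_apply, ← Finset.prod_erase_mul _ _ (mem_univ l), dif_pos rfl]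
  congr 1
  rw [Finset.prod_subtype (univ.erase l) (p := fun o => o ≠ l) (by simp)]
  exact Finset.prod_congr rfl fun o _ => by rw [dif_neg o.2]

theorem tens_eq_toBig (l : τ) (f : τ → Matrix γ γ F) :
    tens f = toBig l ((tens fun o : Rest l => f o) ⊗ₖ f l) := by
  rw [toBig_tens]
  congr 1
  funext o
  by_cases h : o = l
  · subst h; rw [dif_pos rfl]
  · rw [dif_neg h]

theorem trOut_piOp (h3 : Fintype.card γ = 3) (h2 : (2 : F) = 0) (l : τ) (N : Matrix (τ → γ) (τ → γ) F) :
    trOut l (piOp N) = 0 := by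
  suffices h : trOut l ∘ₗ (piOp : Matrix (τ → γ) (τ → γ) F →ₗ[F] _) = 0 from LinearMap.congr_fun h N
  refine (Matrix.stdBasis F (τ → γ) (τ → γ)).ext fun ⟨a, b⟩ => ?_
  rw [Matrix.stdBasis_eq_single, LinearMap.comp_apply, LinearMap.zero_apply, single_eq_tens, piOp_tens h3 h2,
    tens_eq_toBig l]
  ext u w
  simp only [trOut, LinearMap.coe_mk, AddHom.coe_mk, AlgEquiv.symm_apply_apply, Matrix.of_apply, kroneckerMap_apply,
    ← Finset.mul_sum, Matrix.zero_apply]
  refine mul_eq_zero_of_right _ ?_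
  have htr : ∀ A : Matrix γ γ F, (A + A.trace • 1).trace = 0 := fun A => by
    have h3' : (3 : F) = 1 := by linear_combination h2
    rw [Matrix.trace_add, Matrix.trace_smul, Matrix.trace_one, h3, smul_eq_mul, Nat.cast_ofNat, h3', mul_one,
      ← two_mul, h2, zero_mul]
  exact htr _

theorem trb_mul {l : τ} (M : Matrix ((Rest l → γ) × γ) ((Rest l → γ) × γ) F) (Y : Matrix (Rest l → γ) (Rest l → γ) F)
    (a b : Rest l → γ) :
    ∑ k, (M * (Y ⊗ₖ (1 : Matrix γ γ F))) (a, k) (b, k) = ∑ c, (∑ k, M (a, k) (c, k)) * Y c b := by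
  simp only [Matrix.mul_apply, Fintype.sum_prod_type, kroneckerMap_apply, Matrix.one_apply, mul_ite, mul_one, mul_zero,
    Finset.sum_ite_eq', mem_univ, if_true, Finset.sum_mul]
  exact Finset.sum_comm

theorem trb_mul_left {l : τ} (M : Matrix ((Rest l → γ) × γ) ((Rest l → γ) × γ) F)
    (Y : Matrix (Rest l → γ) (Rest l → γ) F) (a b : Rest l → γ) :
    ∑ k, ((Y ⊗ₖ (1 : Matrix γ γ F)) * M) (a, k) (b, k) = ∑ c, Y a c * ∑ k, M (c, k) (b, k) := by
  simp only [Matrix.mul_apply, Fintype.sum_prod_type, kroneckerMap_apply, Matrix.one_apply, mul_ite, mul_one, mul_zero,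
    ite_mul, zero_mul, Finset.sum_ite_eq, mem_univ, if_true, Finset.mul_sum]
  exact Finset.sum_comm

theorem trb_swap {l : τ} (M : Matrix ((Rest l → γ) × γ) ((Rest l → γ) × γ) F) (A : Matrix γ γ F)
    (a b : Rest l → γ) :
    ∑ k, (((1 : Matrix (Rest l → γ) (Rest l → γ) F) ⊗ₖ A) * M) (a, k) (b, k) =
      ∑ k, (M * ((1 : Matrix (Rest l → γ) (Rest l → γ) F) ⊗ₖ A)) (a, k) (b, k) := by
  simp only [Matrix.mul_apply, Fintype.sum_prod_type_right, kroneckerMap_apply, Matrix.one_apply, mul_ite, mul_one,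
    mul_zero, ite_mul, one_mul, zero_mul, Finset.sum_ite_eq, Finset.sum_ite_eq', mem_univ, if_true]
  rw [Finset.sum_comm]
  exact Finset.sum_congr rfl fun i _ => Finset.sum_congr rfl fun j _ => mul_comm _ _

theorem scalar_of_tens (hcard : 3 ≤ Fintype.card γ) {ρ : Type} [Fintype ρ] [DecidableEq ρ]
    {D : Matrix (ρ → γ) (ρ → γ) F}
    (hD : ∀ f : ρ → Matrix γ γ F, (∀ o, (f o).trace = 0) → Commute D (tens f)) : ∃ c : F, D = c • 1 := by
  have hs : ∀ a b : ρ → γ, Commute D (Matrix.single a b (1 : F)) := fun a b => by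
    choose s hsa hsb using fun o => exists_third hcard (a o) (b o)
    have e : Matrix.single a b (1 : F) =
        tens (fun o => Matrix.single (a o) (s o) 1) * tens (fun o => Matrix.single (s o) (b o) 1) := by
      rw [← single_eq_tens, ← single_eq_tens, Matrix.single_mul_single_same, mul_one]
    rw [e]
    exact (hD _ fun o => by rw [Matrix.trace_single_eq_of_ne _ _ _ (hsa o).symm]).mul_right
      (hD _ fun o => by rw [Matrix.trace_single_eq_of_ne _ _ _ (hsb o)])
  rcases isEmpty_or_nonempty (ρ → γ) with he | ⟨⟨o⟩⟩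
  · exact ⟨0, Subsingleton.elim _ _⟩
  refine ⟨D o o, Matrix.ext fun a b => ?_⟩
  have h1 := congrFun (congrFun (hs b o).eq a) o
  rw [Matrix.mul_single_apply_same, mul_one] at h1
  rw [Matrix.smul_apply, Matrix.one_apply, smul_eq_mul]
  by_cases hab : a = b
  · subst hab
    rw [Matrix.single_mul_apply_same, one_mul] at h1
    rw [if_pos rfl, mul_one, h1]
  · rw [Matrix.single_mul_apply_of_ne _ _ _ _ _ hab] at h1
    rw [if_neg hab, mul_zero, h1]

/-- The stabiliser of the image of the operator. -/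
def Stab (M : Matrix (τ → γ) (τ → γ) F) : Prop :=
  ∀ N, M * piOp N - piOp N * M ∈ LinearMap.range (piOp : Matrix (τ → γ) (τ → γ) F →ₗ[F] _)

theorem stab_slot (h3 : Fintype.card γ = 3) (h2 : (2 : F) = 0) (i : τ) (A : Matrix γ γ F) :
    Stab (slot i A : Matrix (τ → γ) (τ → γ) F) := by
  intro N
  rw [matrix_eq_sum_single N]
  simp only [map_sum, Finset.mul_sum, Finset.sum_mul, ← Finset.sum_sub_distrib]
  refine sum_mem fun a _ => sum_mem fun b _ => ?_
  rw [show Matrix.single a b (N a b) = N a b • Matrix.single a b (1 : F) by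
    rw [Matrix.smul_single, smul_eq_mul, mul_one], map_smul, mul_smul_comm, smul_mul_assoc, ← smul_sub]
  refine Submodule.smul_mem _ _ ?_
  rw [single_eq_tens, piOp_tens h3 h2]
  set f : τ → Matrix γ γ F := fun l => Matrix.single (a l) (b l) (1 : F) + (Matrix.single (a l) (b l) (1 : F)).trace • 1
  have htr : ∀ l, (f l).trace = 0 := fun l => by
    have h3' : (3 : F) = 1 := by linear_combination h2
    rw [Matrix.trace_add, Matrix.trace_smul, Matrix.trace_one, h3, smul_eq_mul, Nat.cast_ofNat, h3', mul_one,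
      ← two_mul, h2, zero_mul]
  refine ⟨tens (Function.update f i (A * f i - f i * A)), ?_⟩
  rw [piOp_traceless h3 h2]
  · rw [slot_mul_tens, tens_mul_slot]
    ext x y
    simp only [Matrix.sub_apply, tens_apply, ← Finset.prod_erase_mul _ _ (mem_univ i), Function.update_self,
      Matrix.sub_apply, mul_sub]
    congr 1 <;> congr 1 <;> exact Finset.prod_congr rfl fun l hl => by
      rw [Function.update_of_ne (Finset.ne_of_mem_erase hl), Function.update_of_ne (Finset.ne_of_mem_erase hl)]
  · intro l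
    by_cases hl : l = i
    · subst hl
      rw [Function.update_self, Matrix.trace_sub, Matrix.trace_mul_comm, sub_self]
    · rw [Function.update_of_ne hl, htr]

theorem stab_conj {g : GL (τ → γ) F} (hg : ∀ N, piOp (conjM g N) = conjM g (piOp N))
    {M : Matrix (τ → γ) (τ → γ) F} (hM : Stab M) : Stab (conjM g M) := by
  intro N
  obtain ⟨K, hK⟩ := hM (conjM g⁻¹ N)
  refine ⟨conjM g K, ?_⟩
  rw [hg, hK, map_sub, conjM_mul, conjM_mul, ← hg, conjM_conjM_inv]

/-- The stabiliser of the image of the operator is the span of the slots. -/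
theorem stab_InL [Nonempty τ] (h3 : Fintype.card γ = 3) (h2 : (2 : F) = 0) {M : Matrix (τ → γ) (τ → γ) F}
    (hM : Stab M) : InL M := by
  classical
  haveI : Nonempty γ := Fintype.card_pos_iff.mp (by omega)
  -- the contraction by a traceless matrix of a slot is scalar
  have hD : ∀ (l : τ) (A : Matrix γ γ F), A.trace = 0 →
      ∃ c : F, trOut l (M * slot l A) = c • 1 := by
    intro l A hA
    refine scalar_of_tens (by omega) fun f hf => ?_
    obtain ⟨N, hN⟩ : M * tens (fun o => if h : o = l then A else f ⟨o, h⟩) -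
        tens (fun o => if h : o = l then A else f ⟨o, h⟩) * M ∈ LinearMap.range
          (piOp : Matrix (τ → γ) (τ → γ) F →ₗ[F] _) := by
      have := hM (tens fun o => if h : o = l then A else f ⟨o, h⟩)
      rwa [piOp_traceless h3 h2 _ fun o => by by_cases h : o = l <;> simp [h, hA, hf]] at this
    have h0 := trOut_piOp h3 h2 l N
    rw [hN, map_sub, sub_eq_zero, ← toBig_tens] at h0
    obtain ⟨K, rfl⟩ : ∃ K, toBig l K = M := ⟨_, (toBig l).apply_symm_apply M⟩
    ext a b
    have h1 := congrFun (congrFun h0 a) b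
    simp only [trOut, LinearMap.coe_mk, AddHom.coe_mk, Matrix.of_apply, ← map_mul, AlgEquiv.symm_apply_apply,
      slot_eq, Matrix.mul_apply (M := Matrix.of _), Matrix.mul_apply (N := Matrix.of _)] at h1 ⊢
    have hk : tens f ⊗ₖ A = ((1 : Matrix (Rest l → γ) (Rest l → γ) F) ⊗ₖ A) * (tens f ⊗ₖ (1 : Matrix γ γ F)) := by
      rw [← mul_kronecker_mul, one_mul, mul_one]
    have hk' : tens f ⊗ₖ A = (tens f ⊗ₖ (1 : Matrix γ γ F)) * ((1 : Matrix (Rest l → γ) (Rest l → γ) F) ⊗ₖ A) := by
      rw [← mul_kronecker_mul, one_mul, mul_one]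
    conv_lhs at h1 => rw [hk, ← mul_assoc, trb_mul]
    conv_rhs at h1 => rw [hk', mul_assoc, trb_mul_left]
    simp only [trb_swap] at h1
    exact h1
  have hoff : ∀ (l : τ) (a b : γ), a ≠ b → ∃ c : F, ∀ x y : τ → γ, x l = a → y l = b →
      M x y = if ∀ o, o ≠ l → x o = y o then c else 0 := by
    intro l a b hab
    obtain ⟨c, hc⟩ := hD l (Matrix.single b a (1 : F)) (Matrix.trace_single_eq_of_ne _ _ _ hab.symm)
    refine ⟨c, fun x y hx hy => ?_⟩
    have h1 := congrFun (congrFun hc fun o => x o) fun o => y o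
    obtain ⟨K, rfl⟩ : ∃ K, toBig l K = M := ⟨_, (toBig l).apply_symm_apply M⟩
    simp only [trOut, LinearMap.coe_mk, AddHom.coe_mk, Matrix.of_apply, slot_eq, ← map_mul, AlgEquiv.symm_apply_apply,
      Matrix.mul_apply, Fintype.sum_prod_type, kroneckerMap_apply, Matrix.one_apply, Matrix.single_apply, mul_ite,
      mul_one, mul_zero, Matrix.smul_apply, smul_eq_mul, ite_and, ite_mul, one_mul, zero_mul, Finset.sum_ite_eq,
      Finset.sum_ite_eq', mem_univ, if_true, Finset.sum_ite_irrel, Finset.sum_const_zero] at h1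
    rw [toBig_apply, hx, hy, h1]
    by_cases hr : ∀ o, o ≠ l → x o = y o
    · rw [if_pos hr, if_pos (funext fun o : Rest l => hr o o.2)]
    · rw [if_neg hr, if_neg fun e => hr fun o ho => rest_ext e ho]
  have hdiag : ∀ (l : τ) (a b : γ), ∃ c : F, ∀ x y : τ → γ, x l = a → y l = a →
      M x y + M (Function.update x l b) (Function.update y l b) = if ∀ o, o ≠ l → x o = y o then c else 0 := by
    intro l a b
    by_cases hab : a = b
    · refine ⟨0, fun x y hx hy => ?_⟩
      subst hab
      rw [← hx, Function.update_eq_self, hx, ← hy, Function.update_eq_self, ← two_mul, h2, zero_mul, ite_self]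
    obtain ⟨c, hc⟩ := hD l (Matrix.single a a (1 : F) + Matrix.single b b (1 : F)) (by
      rw [Matrix.trace_add, Matrix.trace_single_eq_same, Matrix.trace_single_eq_same, one_add_one_eq_two, h2])
    refine ⟨c, fun x y hx hy => ?_⟩
    have h1 := congrFun (congrFun hc fun o => x o) fun o => y o
    obtain ⟨K, rfl⟩ : ∃ K, toBig l K = M := ⟨_, (toBig l).apply_symm_apply M⟩
    simp only [trOut, LinearMap.coe_mk, AddHom.coe_mk, Matrix.of_apply, slot_eq, ← map_mul, AlgEquiv.symm_apply_apply,
      Matrix.mul_apply, Fintype.sum_prod_type, kroneckerMap_apply, Matrix.one_apply, Matrix.add_apply,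
      Matrix.single_apply, mul_add, Finset.sum_add_distrib, mul_ite, mul_one, mul_zero, Matrix.smul_apply, smul_eq_mul,
      ite_and, ite_mul, one_mul, zero_mul, Finset.sum_ite_eq, Finset.sum_ite_eq', mem_univ, if_true,
      Finset.sum_ite_irrel, Finset.sum_const_zero] at h1
    have e : ∀ z : τ → γ, (fun o : Rest l => Function.update z l b o) = fun o : Rest l => z o := fun z =>
      funext fun o => Function.update_of_ne o.2 _ _
    rw [toBig_apply, toBig_apply, e, e, Function.update_self, Function.update_self, hx, hy, h1]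
    by_cases hr : ∀ o, o ≠ l → x o = y o
    · rw [if_pos hr, if_pos (funext fun o : Rest l => hr o o.2)]
    · rw [if_neg hr, if_neg fun e => hr fun o ho => rest_ext e ho]
  choose co hco using hoff
  choose cd hcd using hdiag
  obtain ⟨o⟩ := ‹Nonempty γ›
  set z : τ → γ := fun _ => o
  let C : τ → Matrix γ γ F := fun l => Matrix.of fun a b => if h : a ≠ b then co l a b h else cd l o a
  have hf : ∀ x : τ → γ, ∀ s : Finset τ, M (s.piecewise x z) (s.piecewise x z) = M z z + ∑ l ∈ s, cd l o (x l) := by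
    intro x s
    induction s using Finset.induction_on with
    | empty => simp
    | insert l s hl ih =>
      rw [Finset.piecewise_insert, Finset.sum_insert hl]
      have := hcd l o (x l) (s.piecewise x z) (s.piecewise x z) (by simp [hl, z]) (by simp [hl, z])
      rw [if_pos (fun _ _ => rfl), ih] at this
      linear_combination this + (-(M z z + ∑ l ∈ s, cd l o (x l))) * h2
  refine ?_
  have hMC : M = (∑ l, slot l (C l)) + (M z z) • 1 := by
    ext x y
    rw [Matrix.add_apply, Matrix.sum_apply, Matrix.smul_apply, Matrix.one_apply, smul_eq_mul]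
    by_cases hxy : x = y
    · subst hxy
      rw [if_pos rfl, mul_one]
      have := hf x univ
      rw [Finset.piecewise_univ] at this
      rw [this, add_comm]
      congr 1
      refine Finset.sum_congr rfl fun l _ => ?_
      rw [slot_eq, toBig_apply, kroneckerMap_apply, Matrix.one_apply_eq, one_mul]
      simp [C]
    · obtain ⟨l, hl⟩ := Function.ne_iff.mp hxy
      rw [if_neg hxy, mul_zero, add_zero, hco l _ _ hl x y rfl rfl]
      rw [Finset.sum_eq_single l (fun k _ hk => slot_apply_ne k _ (Ne.symm hk) hl) (fun h => absurd (mem_univ _) h),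
        slot_eq, toBig_apply, kroneckerMap_apply, Matrix.one_apply]
      by_cases hr : ∀ o, o ≠ l → x o = y o
      · rw [if_pos hr, if_pos (funext fun o : Rest l => hr o o.2), one_mul]
        simp [C, hl]
      · rw [if_neg hr, if_neg (fun e => hr fun o ho => rest_ext e ho), zero_mul]
  rw [hMC]
  obtain ⟨l₀⟩ := ‹Nonempty τ›
  refine InL.add ⟨C, rfl⟩ ?_
  rw [← slot_scalar l₀]
  exact InL.slot l₀ _

end Cfsg.Lib.Classical.TensorPowLin
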