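import Cfsg.Agent.Classical.TensorPowLin.Proj
import Cfsg.Agent.Classical.TensorMax.Small
import Cfsg.Agent.Classical.TensorOrth.Roots

/-!
# A group containing `1 ⊗ SL W` whose radicals are scalar
-/

set_option autoImplicit false
set_option linter.unusedSectionVars false
set_option linter.unusedSimpArgs false
set_option linter.style.haveILetI false

namespace Cfsg.Lib.Classical.TensorPowLin

open Matrix Finset
open scoped Kronecker MatrixGroups
open Cfsg.Lib.Classical.TensorMax (pure pure_apply pure_single pure_ne_zero pure_eq_zero kron_mulVec_pure IsKron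
  isKron_of_mat RadScalar InK rad rad_apply block block_mul block_rad block_one block_kron ext_block
  block_col_of_stab stab_inv rootMat rootMat_mulVec_pure rad_scalar one_kron_add one_add_rootMat exists_sl_mulVec
  exists_scalar_of_kron_eq_one kron_pow)

universe u

variable {α β : Type} [Fintype α] [DecidableEq α] [Fintype β] [DecidableEq β] [Nonempty α] [Nonempty β]
  {F : Type u} [Field F]

/-- `1 ⊗ SL W` lies in `X` and all radicals are scalar. -/
structure Scal (X : Subgroup (GL (α × β) F)) : Prop where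
  card₂ : 3 ≤ Fintype.card β
  sl : ∀ b : Matrix β β F, b.det = 1 → ∃ k ∈ X, (k : Matrix (α × β) (α × β) F) = (1 : Matrix α α F) ⊗ₖ b
  scal : ∀ j₀ : β, RadScalar X j₀

variable {X : Subgroup (GL (α × β) F)}

theorem inv_of_kron {k : GL (α × β) F} {a : Matrix α α F} {b : Matrix β β F}
    (hk : (k : Matrix (α × β) (α × β) F) = a ⊗ₖ b) {a' : Matrix α α F} {b' : Matrix β β F} (ha : a * a' = 1)
    (hb : b * b' = 1) : ((k⁻¹ : GL (α × β) F) : Matrix (α × β) (α × β) F) = a' ⊗ₖ b' := by
  rw [Matrix.coe_units_inv, hk]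
  exact Matrix.inv_eq_right_inv (by rw [← mul_kronecker_mul, ha, hb, one_kronecker_one])

theorem Scal.root (hS : Scal X) (j₀ : β) (c : β → F) :
    ∃ g ∈ X, (g : Matrix (α × β) (α × β) F) = 1 + rad j₀ (fun m => c m • (1 : Matrix α α F)) := by
  set φ : β → F := fun m => if m = j₀ then 0 else c m with hφ
  have hd : (1 + vecMulVec (Pi.single j₀ (1 : F)) φ).det = 1 := by
    rw [LinOne.det_one', dotProduct_single, hφ]
    simp
  obtain ⟨g, hg, e⟩ := hS.sl _ hd
  exact ⟨g, hg, by rw [e, rad_scalar, one_add_rootMat]⟩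

/-- The stabiliser of `U ⊗ e_{j₀}` consists of Kronecker products. -/
theorem Scal.kron_of_stab (hS : Scal X) {j₀ : β} {g : GL (α × β) F} (hgX : g ∈ X)
    (hg : ∀ v : α → F, ∃ v', (g : Matrix (α × β) (α × β) F) *ᵥ pure v (Pi.single j₀ 1) = pure v' (Pi.single j₀ 1)) :
    IsKron g := by
  classical
  set G : Matrix (α × β) (α × β) F := (g : Matrix (α × β) (α × β) F) with hG
  set H : Matrix (α × β) (α × β) F := ((g⁻¹ : GL (α × β) F) : Matrix (α × β) (α × β) F) with hH
  have hG0 : ∀ k, k ≠ j₀ → block G k j₀ = 0 := fun k hk => block_col_of_stab hg hk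
  have hH0 : ∀ k, k ≠ j₀ → block H k j₀ = 0 := fun k hk => block_col_of_stab (stab_inv hg) hk
  have hGH : G * H = 1 := by rw [hG, hH, ← Units.val_mul, mul_inv_cancel, Units.val_one]
  set A := block G j₀ j₀ with hAdef
  set A' := block H j₀ j₀ with hA'def
  have hAA : A * A' = 1 := by
    have := congrArg (fun M => block M j₀ j₀) hGH
    rw [block_mul, Finset.sum_eq_single j₀ (fun t _ ht => by rw [hH0 t ht, mul_zero])
      (fun h => absurd (mem_univ _) h), block_one, if_pos rfl] at this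
    exact this
  have hA'A : A' * A = 1 := mul_eq_one_comm.mp hAA
  have hd : ∀ m, m ≠ j₀ → ∀ n, n ≠ j₀ → ∃ d : F, block H m n = d • A' := by
    intro m hm n hn
    obtain ⟨r, hr, e⟩ := hS.root j₀ (Pi.single m 1)
    have hconj : InK X j₀ (fun n => A * block H m n) := by
      refine ⟨g * r * g⁻¹, mul_mem (mul_mem hgX hr) (inv_mem hgX), ?_⟩
      rw [Units.val_mul, Units.val_mul, e, ← hG, ← hH, mul_add, mul_one, add_mul, hGH]
      congr 1
      refine ext_block fun k n => ?_
      rw [block_mul, block_rad]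
      have hin : ∀ t, block (G * rad j₀ (fun x => (Pi.single m (1 : F) : β → F) x • (1 : Matrix α α F))) k t =
          if t ≠ j₀ then (Pi.single m (1 : F) : β → F) t • block G k j₀ else 0 := by
        intro t
        rw [block_mul, Finset.sum_eq_single j₀ (fun s _ hs => by rw [block_rad, if_neg (fun h => hs h.1), mul_zero])
          (fun h => absurd (mem_univ _) h), block_rad]
        by_cases ht : t = j₀
        · rw [if_neg (fun h => h.2 ht), if_neg (not_not.mpr ht), mul_zero]
        · rw [if_pos ⟨rfl, ht⟩, if_pos ht, mul_smul_comm, mul_one]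
      rw [Finset.sum_eq_single m (fun t _ ht => ?_) (fun h => absurd (mem_univ _) h), hin m, if_pos hm,
        Pi.single_eq_same, one_smul]
      · by_cases hk : k = j₀
        · subst hk
          by_cases hn : n = k
          · subst hn; rw [if_neg (fun h => h.2 rfl), hH0 m hm, mul_zero]
          · rw [if_pos ⟨rfl, hn⟩]
        · rw [if_neg (fun h => hk h.1), hG0 k hk, zero_mul]
      · rw [hin t, Pi.single_eq_of_ne ht]
        split <;> simp
    obtain ⟨d, hd⟩ := hS.scal j₀ _ hconj n hn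
    exact ⟨d, by rw [← one_mul (block H m n), ← hA'A, mul_assoc, hd, mul_smul_comm, mul_one]⟩
  choose d hd using hd
  let D : Matrix β β F := Matrix.of fun m n =>
    if hm : m = j₀ then (if n = j₀ then 1 else 0) else (if hn : n = j₀ then 0 else d m hm n hn)
  let Y : β → Matrix α α F := fun n => A * block H j₀ n
  have hdec : H = A' ⊗ₖ D * (1 + rad j₀ Y) := by
    refine ext_block fun k n => ?_
    rw [block_mul, Finset.sum_congr rfl fun t _ => by rw [show block (1 + rad j₀ Y) t n =
      block (1 : Matrix (α × β) (α × β) F) t n + block (rad j₀ Y) t n from rfl, mul_add], Finset.sum_add_distrib]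
    have h1 : ∑ t, block (A' ⊗ₖ D) k t * block (1 : Matrix (α × β) (α × β) F) t n = D k n • A' := by
      rw [Finset.sum_eq_single n (fun t _ ht => by rw [block_one, if_neg ht, mul_zero])
        (fun h => absurd (mem_univ _) h), block_one, if_pos rfl, mul_one, block_kron]
    have h2 : ∑ t, block (A' ⊗ₖ D) k t * block (rad j₀ Y) t n = if n = j₀ then 0 else D k j₀ • (A' * Y n) := by
      rw [Finset.sum_eq_single j₀ (fun t _ ht => by rw [block_rad, if_neg (fun h => ht h.1), mul_zero])
        (fun h => absurd (mem_univ _) h), block_kron, block_rad]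
      by_cases hn : n = j₀
      · rw [if_neg (fun h => h.2 hn), if_pos hn, mul_zero]
      · rw [if_pos ⟨rfl, hn⟩, if_neg hn, smul_mul_assoc]
    rw [h1, h2]
    by_cases hk : k = j₀
    · subst hk
      by_cases hn : n = k
      · subst hn; simp [D, hA'def]
      · simp [D, Y, hn, ← mul_assoc, hA'A]
    · by_cases hn : n = j₀
      · subst hn; simp [D, hk, hH0 k hk]
      · simp [D, hk, hn, ← hd k hk n hn]
  have hHdet : H.det ≠ 0 := ((Matrix.isUnit_iff_isUnit_det _).mp (g⁻¹ : GL (α × β) F).isUnit).ne_zero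
  have hu : (A' ⊗ₖ D).det ≠ 0 := by
    rw [hdec, det_mul] at hHdet
    exact left_ne_zero_of_mul hHdet
  have hDdet : D.det ≠ 0 := by
    rw [det_kronecker] at hu
    intro h0
    rw [h0, zero_pow Fintype.card_ne_zero, mul_zero] at hu
    exact hu rfl
  set D' := D⁻¹
  have hDD : D * D' = 1 := Matrix.mul_nonsing_inv D (isUnit_iff_ne_zero.mpr hDdet)
  have hDD' : D' * D = 1 := Matrix.nonsing_inv_mul D (isUnit_iff_ne_zero.mpr hDdet)
  have hDcol : ∀ k, D k j₀ = if k = j₀ then 1 else 0 := fun k => by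
    by_cases hk : k = j₀ <;> simp [D, hk]
  have hD'col : ∀ k, D' k j₀ = if k = j₀ then 1 else 0 := fun k => by
    have h := congrFun (congrFun hDD' k) j₀
    rw [Matrix.mul_apply, Finset.sum_eq_single j₀ (fun t _ ht => by rw [hDcol, if_neg ht, mul_zero])
      (fun h => absurd (mem_univ _) h), hDcol, if_pos rfl, mul_one, one_apply] at h
    exact h
  -- the radical part is scalar
  have hYs : ∀ m, m ≠ j₀ → ∃ c : F, Y m = c • (1 : Matrix α α F) := by
    intro m hm
    obtain ⟨m', hm'm, hm'⟩ := exists_third hS.card₂ m j₀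
    have hdt : (1 + Matrix.single m m' (1 : F)).det = 1 := Matrix.det_transvection_of_ne m m' (Ne.symm hm'm) 1
    obtain ⟨k, hk, hkv⟩ := hS.sl _ hdt
    obtain ⟨s, hs, hsv⟩ := hS.sl (D * (1 + Matrix.single m m' (1 : F)) * D') (by
      rw [det_mul, det_mul, hdt, mul_one, ← det_mul, hDD, det_one])
    have hki : ((k⁻¹ : GL (α × β) F) : Matrix (α × β) (α × β) F) =
        (1 : Matrix α α F) ⊗ₖ (1 + Matrix.single m m' (-1 : F)) :=
      inv_of_kron hkv (one_mul 1)
        (by rw [Cfsg.Lib.Classical.TensorMax.single_sq (Ne.symm hm'm), add_neg_cancel, Matrix.single_zero, add_zero])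
    have hrad : ∀ Z : Matrix α α F,
        (A' ⊗ₖ D) * rad j₀ (Pi.single m' Z) * (A ⊗ₖ D') = rad j₀ (fun n => D' m' n • (A' * Z * A)) := fun Z => by
      refine ext_block fun x n => ?_
      rw [block_mul, Finset.sum_eq_single m' (fun t _ ht => ?_) (fun h => absurd (mem_univ _) h), block_mul,
        Finset.sum_eq_single j₀ (fun t _ ht => by rw [block_rad, if_neg (fun h => ht h.1), mul_zero])
          (fun h => absurd (mem_univ _) h), block_kron, block_rad, block_rad, if_pos ⟨rfl, hm'⟩, Pi.single_eq_same,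
        block_kron, hDcol]
      · by_cases hx : x = j₀
        · subst hx
          by_cases hn : n = x
          · subst hn
            rw [if_pos rfl, if_neg (fun h => h.2 rfl), hD'col, if_neg hm', zero_smul, mul_zero]
          · rw [if_pos rfl, if_pos ⟨rfl, hn⟩, one_smul, mul_smul_comm]
        · rw [if_neg hx, if_neg (fun h => hx h.1), zero_smul, zero_mul, zero_mul]
      · rw [block_mul, Finset.sum_eq_zero (fun s _ => ?_), zero_mul]
        rw [block_rad]
        split
        · rw [Pi.single_eq_of_ne ht, mul_zero]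
        · rw [mul_zero]
    have hyk : (1 + rad j₀ Y) * ((1 : Matrix α α F) ⊗ₖ (1 + Matrix.single m m' (1 : F))) =
        (1 + rad j₀ (Pi.single m' (Y m))) * ((1 : Matrix α α F) ⊗ₖ (1 + Matrix.single m m' (1 : F))) *
          (1 + rad j₀ Y) := by
      rw [one_kron_add]
      simp only [mul_add, add_mul, one_mul, mul_one, TensorMax.rad_mul_single hm hm', TensorMax.rad_mul_rad,
        TensorMax.single_mul_rad hm', one_smul, mul_assoc, mul_zero, zero_mul, add_zero]
      rw [show (Pi.single m' (Y m) : β → Matrix α α F) m = 0 from Pi.single_eq_of_ne (Ne.symm hm'm) _, Pi.single_zero, show rad j₀ (0 : β → Matrix α α F) = 0 from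
        ext_block fun k n => by rw [block_rad]; simp [block]; rfl, add_zero]
      abel
    have hmem : InK X j₀ (fun n => D' m' n • (A' * Y m * A)) := by
      refine ⟨g⁻¹ * k * g⁻¹⁻¹ * s⁻¹, mul_mem (mul_mem (mul_mem (inv_mem hgX) hk) (inv_mem (inv_mem hgX))) (inv_mem hs),
        ?_⟩
      have e1 : ((g⁻¹ * k * g⁻¹⁻¹ * s⁻¹ : GL (α × β) F) : Matrix (α × β) (α × β) F) * s * H = H * k := by
        rw [hH, ← Units.val_mul, ← Units.val_mul, ← Units.val_mul]
        congr 1
        group
      have e2 : (1 + rad j₀ (fun n => D' m' n • (A' * Y m * A))) * s * H = H * k := by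
        rw [hdec, hkv, hsv, mul_assoc (A' ⊗ₖ D), hyk, ← hrad]
        have hud : (A' ⊗ₖ D) * (A ⊗ₖ D') = 1 := by rw [← mul_kronecker_mul, hA'A, hDD, one_kronecker_one]
        have hdu : (A ⊗ₖ D') * (A' ⊗ₖ D) = 1 := by rw [← mul_kronecker_mul, hAA, hDD', one_kronecker_one]
        have hs' : (1 : Matrix α α F) ⊗ₖ (D * (1 + Matrix.single m m' (1 : F)) * D') =
            (A' ⊗ₖ D) * ((1 : Matrix α α F) ⊗ₖ (1 + Matrix.single m m' (1 : F))) * (A ⊗ₖ D') := by
          rw [← mul_kronecker_mul, ← mul_kronecker_mul, mul_one, hA'A]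
        rw [hs']
        set u := A' ⊗ₖ D
        set u' := A ⊗ₖ D'
        set R := rad j₀ (Pi.single m' (Y m))
        set y := 1 + rad j₀ Y
        set K := (1 : Matrix α α F) ⊗ₖ (1 + Matrix.single m m' (1 : F))
        calc (1 + u * R * u') * (u * K * u') * (u * y)
            = (u + u * R * (u' * u)) * K * (u' * u) * y := by noncomm_ring
          _ = u * ((1 + R) * K * y) := by rw [hdu]; noncomm_ring
      have hcancel := e1.trans e2.symm
      exact ((s.isUnit.mul ((g⁻¹ : GL (α × β) F)).isUnit).mul_left_inj).mp (by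
        rw [← mul_assoc, ← mul_assoc]; exact hcancel)
    obtain ⟨n, hn, hne⟩ : ∃ n, n ≠ j₀ ∧ D' m' n ≠ 0 := by
      by_contra hh
      push Not at hh
      have h := congrFun (congrFun hDD' m') m'
      rw [Matrix.mul_apply, one_apply_eq, Finset.sum_eq_zero] at h
      · exact zero_ne_one h
      · intro t _
        by_cases ht : t = j₀
        · rw [ht, hD'col, if_neg hm', zero_mul]
        · rw [hh t ht, zero_mul]
    obtain ⟨c, hc⟩ := hS.scal j₀ _ hmem n hn
    refine ⟨(D' m' n)⁻¹ * c, ?_⟩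
    calc Y m = A * ((D' m' n)⁻¹ • (D' m' n • (A' * Y m * A))) * A' := by
          rw [smul_smul, inv_mul_cancel₀ hne, one_smul, ← mul_assoc, ← mul_assoc, hAA, one_mul, mul_assoc, hAA,
            mul_one]
      _ = _ := by rw [hc, smul_smul, mul_smul_comm, smul_mul_assoc, mul_one, hAA]
  choose c hc using hYs
  have hrad : rad j₀ Y = rootMat (α := α) (Pi.single j₀ 1) (fun m => if hm : m = j₀ then 0 else c m hm) := by
    have e : rad j₀ Y = rad j₀ (fun m => (if hm : m = j₀ then 0 else c m hm) • (1 : Matrix α α F)) := by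
      ext ⟨i, k⟩ ⟨l, n⟩
      rw [rad_apply, rad_apply]
      by_cases h : k = j₀ ∧ n ≠ j₀
      · rw [if_pos h, if_pos h, dif_neg h.2, hc n h.2]
      · rw [if_neg h, if_neg h]
    rw [e, rad_scalar]
    congr 1
    funext m
    by_cases hm : m = j₀ <;> simp [hm]
  have hkr : IsKron (g⁻¹) := isKron_of_mat _ A'
    (D * (1 + vecMulVec (Pi.single j₀ 1) (fun m => if hm : m = j₀ then 0 else c m hm)))
    (by rw [← hH, hdec, hrad, one_add_rootMat, ← mul_kronecker_mul, mul_one])
  simpa using hkr.inv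

theorem Scal.exists_moving (hS : Scal X) (j₀ : β) {w : β → F} (hw : w ≠ 0) :
    ∃ k ∈ X, IsKron k ∧ ∀ v : α → F, (k : Matrix (α × β) (α × β) F) *ᵥ pure v (Pi.single j₀ 1) = pure v w := by
  obtain ⟨b, hb, e⟩ := exists_sl_mulVec (by have := hS.card₂; omega) (x := (Pi.single j₀ 1 : β → F)) (by simp) hw
  obtain ⟨k, hk, hkv⟩ := hS.sl b hb
  exact ⟨k, hk, isKron_of_mat k 1 b hkv, fun v => by rw [hkv, kron_mulVec_pure, one_mulVec, e]⟩

/-- An element mapping some `U ⊗ w` to some `U ⊗ w'` is a Kronecker product. -/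
theorem Scal.kron_of_image (hS : Scal X) {g : GL (α × β) F} (hgX : g ∈ X) {w w' : β → F} (hw : w ≠ 0) (hw' : w' ≠ 0)
    (hg : ∀ v : α → F, ∃ v', (g : Matrix (α × β) (α × β) F) *ᵥ pure v w = pure v' w') : IsKron g := by
  obtain ⟨j₀⟩ := ‹Nonempty β›
  obtain ⟨k₁, hk₁, hk₁', e₁⟩ := hS.exists_moving j₀ hw
  obtain ⟨k₂, hk₂, hk₂', e₂⟩ := hS.exists_moving j₀ hw'
  have h : IsKron (k₂⁻¹ * g * k₁) := by
    refine hS.kron_of_stab (j₀ := j₀) (mul_mem (mul_mem (inv_mem hk₂) hgX) hk₁) fun v => ?_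
    obtain ⟨v', hv'⟩ := hg v
    refine ⟨v', ?_⟩
    rw [Units.val_mul, Units.val_mul, ← mulVec_mulVec, ← mulVec_mulVec, e₁, hv', ← e₂ v', mulVec_mulVec,
      ← Units.val_mul, inv_mul_cancel, Units.val_one, one_mulVec]
  have := (hk₂'.mul h).mul hk₁'.inv
  simpa [mul_assoc] using this

/-- A representation of `SL W` in the stabiliser of some `U ⊗ e` acts trivially on the second factor. -/
theorem Scal.proj_trivial [Finite F] (hS : Scal X) (ρ : SpecialLinearGroup β F →* GL (α × β) F)
    (hρ : ∀ b, ρ b ∈ X) {e : β → F} (he : e ≠ 0)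
    (hfix : ∀ b, ∀ v : α → F, ∃ v', (ρ b : Matrix (α × β) (α × β) F) *ᵥ pure v e = pure v' e)
    (b : SpecialLinearGroup β F) : ∃ a : Matrix α α F, (ρ b : Matrix (α × β) (α × β) F) = a ⊗ₖ (1 : Matrix β β F) := by
  classical
  have hk : ∀ b, IsKron (ρ b) := fun b => hS.kron_of_image (hρ b) he he (hfix b)
  choose A B hAB using hk
  set mk := QuotientGroup.mk' (Subgroup.center (GL β F))
  have hmk : ∀ (a a' : GL α F) (c c' : GL β F),
      (a : Matrix α α F) ⊗ₖ (c : Matrix β β F) = (a' : Matrix α α F) ⊗ₖ (c' : Matrix β β F) → mk c = mk c' := by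
    intro a a' c c' h
    have h1 : ((a⁻¹ * a' : GL α F) : Matrix α α F) ⊗ₖ ((c⁻¹ * c' : GL β F) : Matrix β β F) = 1 := by
      rw [Units.val_mul, Units.val_mul, mul_kronecker_mul, ← h, ← mul_kronecker_mul, ← Units.val_mul, ← Units.val_mul,
        inv_mul_cancel, inv_mul_cancel, Units.val_one, Units.val_one, one_kronecker_one]
    obtain ⟨l, hl, -, hc⟩ := exists_scalar_of_kron_eq_one h1
    rw [QuotientGroup.mk'_eq_mk']
    refine ⟨c⁻¹ * c', ?_, mul_inv_cancel_left c c'⟩
    rw [GeneralLinearGroup.center_eq_range_scalar]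
    exact ⟨Units.mk0 l⁻¹ (inv_ne_zero hl), Units.ext (by
      rw [hc]; simp [GeneralLinearGroup.scalar, ← Matrix.smul_one_eq_diagonal])⟩
  let ψ : SpecialLinearGroup β F →* GL β F ⧸ Subgroup.center (GL β F) := MonoidHom.mk' (fun b => mk (B b))
    fun b b' => by
      rw [← map_mul]
      refine hmk (A (b * b')) (A b * A b') _ _ ?_
      rw [← hAB, map_mul, Units.val_mul, hAB, hAB, ← mul_kronecker_mul, Units.val_mul, Units.val_mul]
  have hline : ∀ b, ψ b ∈ (lineGL e).map mk := by
    intro b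
    refine ⟨B b, ?_, rfl⟩
    obtain ⟨k₀, hk₀⟩ := Function.ne_iff.mp he
    obtain ⟨i₀⟩ := ‹Nonempty α›
    set v : α → F := Pi.single i₀ 1
    obtain ⟨i, hi⟩ : ∃ i, ((A b : Matrix α α F) *ᵥ v) i ≠ 0 :=
      Function.ne_iff.mp (LinOne.GL_ne_zero_mulVec (A b) (by simp [v]))
    obtain ⟨v', hv⟩ := hfix b v
    rw [hAB, kron_mulVec_pure] at hv
    have hBe : (B b : Matrix β β F) *ᵥ e = (v' i / ((A b : Matrix α α F) *ᵥ v) i) • e := funext fun k => by
      have := congrFun hv (i, k)
      rw [pure_apply, pure_apply] at this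
      rw [Pi.smul_apply, smul_eq_mul, div_mul_eq_mul_div, eq_div_iff hi, mul_comm, this]
    refine ⟨Units.mk0 _ fun h0 => LinOne.GL_ne_zero_mulVec (B b) he (by rw [hBe, h0, zero_smul]), hBe⟩
  have h1 : mk (B b) = 1 := scalar_of_line hS.card₂ he ψ hline b
  rw [QuotientGroup.mk'_apply, QuotientGroup.eq_one_iff, GeneralLinearGroup.center_eq_range_scalar] at h1
  obtain ⟨c, hc⟩ := h1
  refine ⟨(c : F) • (A b : Matrix α α F), ?_⟩
  rw [hAB, ← hc]
  simp [GeneralLinearGroup.scalar, ← Matrix.smul_one_eq_diagonal, smul_kronecker, kronecker_smul]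

/-- `a ⊗ (root)` has residual rank more than `dim U` unless `a = 1`. -/
theorem rank_kron_root_gt (h3 : 3 ≤ Fintype.card β) {a : Matrix α α F} (ha : a ≠ 1) {e φ : β → F} (he : e ≠ 0)
    (hφ : φ ≠ 0) (hφe : φ ⬝ᵥ e = 0) :
    Fintype.card α < (a ⊗ₖ (1 + vecMulVec e φ) - 1).rank := by
  classical
  set N := a - 1
  obtain ⟨x₀, hx₀⟩ : ∃ x, N *ᵥ x ≠ 0 := by
    by_contra hh
    push Not at hh
    exact ha (sub_eq_zero.mp (Matrix.ext_of_mulVec_single fun j => by rw [hh, zero_mulVec]))
  obtain ⟨k₀, hk₀⟩ := Function.ne_iff.mp hφ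
  simp only [Pi.zero_apply] at hk₀
  set w₀ : β → F := Pi.single k₀ (φ k₀)⁻¹
  have hw₀ : φ ⬝ᵥ w₀ = 1 := by rw [dotProduct_single, mul_inv_cancel₀ hk₀]
  obtain ⟨c, hc, hcs⟩ : ∃ c, φ ⬝ᵥ c = 0 ∧ c ∉ Submodule.span F {e} := by
    by_contra hh
    push Not at hh
    have h1 : (⊤ : Submodule F (β → F)) ≤ Submodule.span F {e} ⊔ Submodule.span F {w₀} := fun z _ => by
      have hz := hh (z - (φ ⬝ᵥ z) • w₀) (by rw [dotProduct_sub, dotProduct_smul, hw₀, smul_eq_mul, mul_one, sub_self])
      rw [← sub_add_cancel z ((φ ⬝ᵥ z) • w₀)]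
      exact Submodule.add_mem_sup hz (Submodule.smul_mem _ _ (Submodule.mem_span_singleton_self _))
    have h2 := (Submodule.finrank_mono h1).trans (Submodule.finrank_add_le_finrank_add_finrank _ _)
    rw [finrank_top, Module.finrank_pi, finrank_span_singleton he,
      finrank_span_singleton (fun h : w₀ = 0 => by rw [h, dotProduct_zero] at hw₀; exact zero_ne_one hw₀)] at h2
    omega
  set D := a ⊗ₖ (1 + vecMulVec e φ) - 1 with hD
  have hDp : ∀ x w, D *ᵥ pure x w = pure (a *ᵥ x) (w + (φ ⬝ᵥ w) • e) - pure x w := fun x w => by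
    rw [hD, sub_mulVec, kron_mulVec_pure, LinOne.one_mulVec', one_mulVec]
  let L : (LinearMap.range N.mulVecLin × LinearMap.ker N.mulVecLin) × F →ₗ[F] (α × β → F) :=
    ((TensorMax.pureL c ∘ₗ Submodule.subtype _ ∘ₗ LinearMap.fst F _ _) +
        (TensorMax.pureL e ∘ₗ Submodule.subtype _ ∘ₗ LinearMap.snd F _ _)) ∘ₗ LinearMap.fst F _ _ +
      (LinearMap.snd F _ _).smulRight (D *ᵥ pure x₀ w₀)
  have hL : ∀ y x z, L ((y, x), z) = pure (y : α → F) c + pure (x : α → F) e + z • (D *ᵥ pure x₀ w₀) := fun y x z => rfl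
  have hinj : Function.Injective L := by
    rw [← LinearMap.ker_eq_bot, LinearMap.ker_eq_bot']
    rintro ⟨⟨⟨y, hy⟩, ⟨x, hx⟩⟩, z⟩ h0
    rw [hL, hDp, hw₀, one_smul] at h0
    have hcon : ∀ i, ∑ k, φ k * (pure y c + pure x e + z • (pure (a *ᵥ x₀) (w₀ + e) - pure x₀ w₀)) (i, k) =
        z * (N *ᵥ x₀) i := by
      intro i
      have e1 : ∀ (u : α → F) (w : β → F), ∑ k, φ k * pure u w (i, k) = u i * (φ ⬝ᵥ w) := fun u w => by
        rw [dotProduct, Finset.mul_sum]; exact Finset.sum_congr rfl fun k _ => by rw [pure_apply]; ring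
      simp only [Pi.add_apply, Pi.smul_apply, Pi.sub_apply, smul_eq_mul, mul_add, mul_sub, Finset.sum_add_distrib,
        Finset.sum_sub_distrib, mul_left_comm (φ _) z, ← Finset.mul_sum, e1, hc, hφe, hw₀, dotProduct_add]
      simp only [N, sub_mulVec, one_mulVec, Pi.sub_apply]
      ring
    have hz : z = 0 := by
      obtain ⟨i, hi⟩ := Function.ne_iff.mp hx₀
      have := hcon i
      rw [show pure y c + pure x e + z • (pure (a *ᵥ x₀) (w₀ + e) - pure x₀ w₀) = 0 from h0] at this
      simp only [Pi.zero_apply, mul_zero, Finset.sum_const_zero] at this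
      exact (mul_eq_zero.mp this.symm).resolve_right hi
    subst hz
    rw [zero_smul, add_zero] at h0
    have hli : LinearIndependent F ![e, c] :=
      (LinearIndependent.pair_iff' he).mpr fun t ht => hcs (Submodule.mem_span_singleton.mpr ⟨t, ht⟩)
    have hxy : ∀ i, x i = 0 ∧ y i = 0 := fun i => LinearIndependent.pair_iff.mp hli _ _ (funext fun k => by
      have := congrFun h0 (i, k)
      simp only [Pi.add_apply, pure_apply, Pi.zero_apply] at this
      simp only [Pi.add_apply, Pi.smul_apply, smul_eq_mul, Pi.zero_apply]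
      linear_combination this)
    have hx' : x = 0 := funext fun i => (hxy i).1
    have hy' : y = 0 := funext fun i => (hxy i).2
    subst hx' hy'
    rfl
  have hrange : LinearMap.range L ≤ LinearMap.range D.mulVecLin := by
    rintro _ ⟨⟨⟨⟨y, u, hu⟩, ⟨x, hx⟩⟩, z⟩, rfl⟩
    rw [hL]
    refine add_mem (add_mem ⟨pure u c, ?_⟩ ⟨pure x w₀, ?_⟩) (Submodule.smul_mem _ _ ⟨_, rfl⟩)
    · show D *ᵥ pure u c = pure y c
      rw [hDp, hc, zero_smul, add_zero, ← show N *ᵥ u = y from hu]
      funext ⟨i, k⟩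
      simp [pure_apply, N, sub_mulVec, sub_mul]
    · show D *ᵥ pure x w₀ = pure x e
      have hx' : a *ᵥ x = x := by
        have h : N *ᵥ x = 0 := hx
        simpa [N, sub_mulVec, sub_eq_zero] using h
      rw [hDp, hx', hw₀, one_smul]
      funext ⟨i, k⟩
      simp [pure_apply, mul_add]
  have h1 := Submodule.finrank_mono hrange
  rw [LinearMap.finrank_range_of_inj hinj, Module.finrank_prod, Module.finrank_prod, Module.finrank_self] at h1
  have h2 := N.mulVecLin.finrank_range_add_finrank_ker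
  rw [Module.finrank_pi] at h2
  show Fintype.card α < Module.finrank F (LinearMap.range D.mulVecLin)
  omega

/-- A Kronecker product which is an element of order `p` of small residual rank lies in one factor. -/
theorem kron_cases [Fintype F] (h3 : 3 ≤ Fintype.card β) {h : GL (α × β) F} (hk : IsKron h) {p : ℕ} [Fact p.Prime]
    [CharP F p] (hp : h ^ p = 1) (hr : ((h : Matrix (α × β) (α × β) F) - 1).rank ≤ Fintype.card α) :
    (∃ a : Matrix α α F, (h : Matrix (α × β) (α × β) F) = a ⊗ₖ (1 : Matrix β β F)) ∨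
      ∃ e φ : β → F, e ≠ 0 ∧ φ ≠ 0 ∧ φ ⬝ᵥ e = 0 ∧
        (h : Matrix (α × β) (α × β) F) = (1 : Matrix α α F) ⊗ₖ (1 + vecMulVec e φ) := by
  classical
  obtain ⟨A, B, hAB⟩ := hk
  have hN : ((A : Matrix α α F) ^ p) ⊗ₖ ((B : Matrix β β F) ^ p) = 1 := by
    rw [← kron_pow, ← hAB, ← Units.val_pow_eq_pow_val, hp, Units.val_one]
  obtain ⟨c, hc, hA, hB⟩ := exists_scalar_of_kron_eq_one hN
  haveI : ExpChar F p := ExpChar.prime Fact.out
  obtain ⟨ν, hν⟩ := Finite.injective_iff_surjective.mp (frobenius_inj F p) c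
  rw [frobenius_def] at hν
  have hν0 : ν ≠ 0 := by
    rintro rfl
    rw [zero_pow (Fact.out : p.Prime).ne_zero] at hν
    exact hc hν.symm
  set a := ν⁻¹ • (A : Matrix α α F) with ha
  set b := ν • (B : Matrix β β F) with hb
  have hab : (h : Matrix (α × β) (α × β) F) = a ⊗ₖ b := by
    rw [ha, hb, smul_kronecker, kronecker_smul, smul_smul, inv_mul_cancel₀ hν0, one_smul, hAB]
  have hpb : b ^ p = 1 := by rw [hb, smul_pow, hB, smul_smul, hν, mul_inv_cancel₀ hc, one_smul]
  have hpa : a ^ p = 1 := by rw [ha, smul_pow, hA, smul_smul, inv_pow, hν, inv_mul_cancel₀ hc, one_smul]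
  haveI : CharP (Matrix α α F) p := Matrix.charP p
  haveI : CharP (Matrix β β F) p := Matrix.charP p
  have hnb : IsNilpotent (b - 1) :=
    ⟨p, by rw [sub_pow_char_of_commute p (Commute.one_right _), one_pow, hpb, sub_self]⟩
  have hadet : a.det ≠ 0 := by
    rw [ha, det_smul]
    exact mul_ne_zero (pow_ne_zero _ (inv_ne_zero hν0)) ((Matrix.isUnit_iff_isUnit_det _).mp A.isUnit).ne_zero
  by_cases hb1 : b = 1
  · exact Or.inl ⟨a, by rw [hab, hb1]⟩
  right
  rw [hab] at hr
  have h1 : (b - 1).rank * Fintype.card α ≤ Fintype.card α := by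
    refine le_trans (le_trans (TensorOrth.rank_mul_card_le (b := a) hnb hadet) (le_of_eq ?_)) hr
    rw [show b ⊗ₖ a - 1 = (a ⊗ₖ b - 1).submatrix (Equiv.prodComm β α) (Equiv.prodComm β α) by
      ext ⟨k, i⟩ ⟨n, l⟩
      simp [kroneckerMap_apply, mul_comm, one_apply, and_comm], Matrix.rank_submatrix]
  have h2 : (b - 1).rank ≠ 0 := fun h0 => hb1 (sub_eq_zero.mp (Matrix.ext_of_mulVec_single fun j => by
    have hbot : LinearMap.range (b - 1).mulVecLin = ⊥ := Submodule.finrank_eq_zero.mp h0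
    have : (b - 1) *ᵥ Pi.single j 1 ∈ LinearMap.range (b - 1).mulVecLin := ⟨_, rfl⟩
    rw [hbot, Submodule.mem_bot] at this
    rw [this, zero_mulVec]))
  have h4 : (b - 1).rank = 1 := by
    have := Nat.le_of_mul_le_mul_right (h1.trans (le_of_eq (one_mul _).symm)) Fintype.card_pos
    omega
  obtain ⟨e, φ, he, hφ, hbe⟩ := exists_vecMulVec_of_rank_eq_one h4
  have hφe : φ ⬝ᵥ e = 0 := by
    by_contra hne
    obtain ⟨n, hn⟩ := hnb
    have hpw : ∀ j : ℕ, (b - 1) ^ j *ᵥ e = (φ ⬝ᵥ e) ^ j • e := by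
      intro j
      induction j with
      | zero => rw [pow_zero, pow_zero, one_mulVec, one_smul]
      | succ j ih =>
        rw [pow_succ', ← mulVec_mulVec, ih, mulVec_smul, hbe, vecMulVec_mulVec, op_smul_eq_smul, smul_smul, ← pow_succ]
    have := hpw n
    rw [hn, zero_mulVec, eq_comm, smul_eq_zero] at this
    exact this.elim (pow_ne_zero _ hne) he
  have hb' : b = 1 + vecMulVec e φ := by rw [← hbe, add_sub_cancel]
  refine ⟨e, φ, he, hφ, hφe, ?_⟩
  by_cases ha1 : a = 1
  · rw [hab, ha1, hb']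
  · rw [hb'] at hr
    exact absurd hr (not_le.mpr (rank_kron_root_gt h3 ha1 he hφ hφe))

end Cfsg.Lib.Classical.TensorPowLin
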