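import Cfsg.Agent.Classical.SLExtra

/-!
# A projective representation of `SL_n` of degree `n` fixing a line is scalar
-/

set_option autoImplicit false
set_option linter.unusedSectionVars false
set_option linter.unusedSimpArgs false
set_option linter.style.haveILetI false

namespace Cfsg.Lib.Classical.TensorPowLin

open Matrix
open scoped MatrixGroups commutatorElement

universe u

variable {γ : Type} [Fintype γ] [DecidableEq γ] {F : Type u} [Field F] [Finite F]

/-- The stabiliser of a line. -/
def lineGL (e : γ → F) : Subgroup (GL γ F) where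
  carrier := {B | ∃ c : Fˣ, (B : Matrix γ γ F) *ᵥ e = (c : F) • e}
  one_mem' := ⟨1, by rw [Units.val_one, one_mulVec, Units.val_one, one_smul]⟩
  mul_mem' := by
    rintro A B ⟨a, ha⟩ ⟨b, hb⟩
    exact ⟨b * a, by rw [Units.val_mul, ← mulVec_mulVec, hb, mulVec_smul, ha, smul_smul, Units.val_mul]⟩
  inv_mem' := by
    rintro A ⟨a, ha⟩
    refine ⟨a⁻¹, ?_⟩
    have h := congrArg (fun x => ((A⁻¹ : GL γ F) : Matrix γ γ F) *ᵥ x) ha
    simp only [mulVec_mulVec, ← Units.val_mul, inv_mul_cancel, Units.val_one, one_mulVec, mulVec_smul] at h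
    rw [h, smul_smul, Units.inv_mul, one_smul]
    rw [← h]

/-- The stabiliser of a line has index at least the number of lines. -/
theorem card_lineGL [Nonempty γ] [Nontrivial γ] {e : γ → F} (he : e ≠ 0) :
    (Nat.card F ^ Fintype.card γ - 1) * Nat.card (lineGL e) ≤ Nat.card (GL γ F) * (Nat.card F - 1) := by
  classical
  haveI := Fintype.ofFinite F
  have hk : ∀ x : {x : γ → F // x ≠ 0}, ∃ k : SpecialLinearGroup γ F, (k : Matrix γ γ F) *ᵥ e = x.1 :=
    fun x => exists_SL_mulVec_eq he x.2
  choose k hk using hk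
  choose c hc using fun B : lineGL e => B.2
  let f : {x : γ → F // x ≠ 0} × lineGL e → GL γ F × Fˣ := fun p =>
    (SpecialLinearGroup.toGL (k p.1) * p.2.1, c p.2)
  have hf : Function.Injective f := by
    rintro ⟨x, B⟩ ⟨x', B'⟩ h
    obtain ⟨h1, h2⟩ := Prod.ext_iff.mp h
    simp only [f] at h1 h2
    have hx : ∀ (y : {x : γ → F // x ≠ 0}) (D : lineGL e),
        ((SpecialLinearGroup.toGL (k y) * D.1 : GL γ F) : Matrix γ γ F) *ᵥ e = (c D : F) • y.1 := fun y D => by
      rw [Units.val_mul, ← mulVec_mulVec, hc, mulVec_smul, ← hk y]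
      rfl
    have hxx : x = x' := Subtype.ext (smul_right_injective _ (c B).ne_zero (by
      show (c B : F) • x.1 = (c B : F) • x'.1
      rw [← hx, h1, hx, h2]))
    subst hxx
    exact Prod.ext rfl (Subtype.ext (mul_left_cancel h1))
  have h := Nat.card_le_card_of_injective f hf
  rw [Nat.card_prod, Nat.card_prod, Nat.card_units] at h
  refine le_trans (le_of_eq ?_) h
  congr 1
  rw [Nat.card_eq_fintype_card, Nat.card_eq_fintype_card, Fintype.card_subtype_compl, Fintype.card_subtype_eq,
    Fintype.card_fun]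

/-- A projective representation of `SL γ` on `F ^ γ` fixing a line is scalar. -/
theorem scalar_of_line (h3 : 3 ≤ Fintype.card γ) {e : γ → F} (he : e ≠ 0)
    (ψ : SpecialLinearGroup γ F →* GL γ F ⧸ Subgroup.center (GL γ F))
    (hψ : ∀ b, ψ b ∈ (lineGL e).map (QuotientGroup.mk' (Subgroup.center (GL γ F)))) (b : SpecialLinearGroup γ F) :
    ψ b = 1 := by
  classical
  haveI : Nonempty γ := Fintype.card_pos_iff.mp (by omega)
  haveI : Nontrivial γ := Fintype.one_lt_card_iff_nontrivial.mp (by omega)
  haveI := isSimpleGroup_PSL (ι := γ) (F := F) h3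
  set Z := Subgroup.center (SpecialLinearGroup γ F)
  rcases Subgroup.Normal.eq_bot_or_eq_top
    ((MonoidHom.normal_ker ψ).map (QuotientGroup.mk' Z) (QuotientGroup.mk'_surjective Z)) with hN | hN
  · exfalso
    have hle : ψ.ker ≤ Z := by
      have := (Subgroup.map_eq_bot_iff _).mp hN
      rwa [QuotientGroup.ker_mk'] at this
    have h1 : Nat.card (SpecialLinearGroup γ F) = Nat.card ψ.range * Nat.card ψ.ker := by
      rw [← Nat.card_congr (QuotientGroup.quotientKerEquivRange ψ).toEquiv]
      exact Subgroup.card_eq_card_quotient_mul_card_subgroup _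
    set mk := QuotientGroup.mk' (Subgroup.center (GL γ F))
    have hr : ψ.range ≤ (lineGL e).map mk := by rintro _ ⟨b, rfl⟩; exact hψ b
    have hcle : Subgroup.center (GL γ F) ≤ lineGL e := by
      rw [GeneralLinearGroup.center_eq_range_scalar]
      rintro _ ⟨a, rfl⟩
      exact ⟨a, by simp [GeneralLinearGroup.scalar, Matrix.smul_mulVec, ← Matrix.smul_one_eq_diagonal]⟩
    have h2 : Nat.card ((lineGL e).map mk) * (Nat.card F - 1) = Nat.card (lineGL e) := by
      rw [← card_center_GL (ι := γ) (F := F)]
      have hi := Subgroup.index_comap_of_surjective ((lineGL e).map mk) (f := mk) (QuotientGroup.mk'_surjective _)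
      rw [Subgroup.comap_map_eq_self (by rw [QuotientGroup.ker_mk']; exact hcle)] at hi
      have e1 := Subgroup.card_mul_index (lineGL e)
      have e2 := Subgroup.card_mul_index ((lineGL e).map mk)
      have e3 := Subgroup.card_eq_card_quotient_mul_card_subgroup (Subgroup.center (GL γ F))
      rw [← e1, ← e2, hi] at e3
      refine Nat.eq_of_mul_eq_mul_right (Subgroup.index_ne_zero_of_finite (H := (lineGL e).map mk)).bot_lt ?_
      rw [e3]; ring
    have h3' := Subgroup.card_le_of_le hr
    have h4 : Nat.card ψ.ker ≤ Nat.card F - 1 := by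
      refine le_trans (Subgroup.card_le_of_le hle) ?_
      rw [card_center_SL]
      exact Nat.gcd_le_right _ (Nat.sub_pos_of_lt Finite.one_lt_card)
    have h5 := card_lineGL he
    have h6 := card_SL_mul (ι := γ) (F := F)
    have hq : 2 ≤ Nat.card F := Finite.one_lt_card
    have h7 : Nat.card (SpecialLinearGroup γ F) ≤ Nat.card (lineGL e) := by
      rw [h1, ← h2]
      exact Nat.mul_le_mul h3' h4
    have h8 : (Nat.card F ^ Fintype.card γ - 1) * Nat.card (lineGL e) ≤
        (Nat.card F - 1) * (Nat.card F - 1) * Nat.card (lineGL e) := by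
      refine h5.trans ?_
      rw [← h6, mul_comm ((Nat.card F - 1) * _), ← mul_assoc]
      exact Nat.mul_le_mul_left _ h7
    have h9 := Nat.le_of_mul_le_mul_right h8 Nat.card_pos
    have h10 : Nat.card F ^ 3 ≤ Nat.card F ^ Fintype.card γ := Nat.pow_le_pow_right (by omega) h3
    have h11 : (Nat.card F - 1) * (Nat.card F - 1) < Nat.card F ^ 3 - 1 := by
      obtain ⟨r, hr'⟩ := Nat.exists_eq_add_of_le hq
      rw [hr']
      have : (2 + r) ^ 3 = (2 + r) * (2 + r) * (2 + r) := by ring
      rw [this, show 2 + r - 1 = 1 + r by omega]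
      have : (1 + r) * (1 + r) + 1 < (2 + r) * (2 + r) * (2 + r) := by nlinarith
      omega
    omega
  · have htop : ψ.ker ⊔ Z = ⊤ := by
      have := congrArg (Subgroup.comap (QuotientGroup.mk' Z)) hN
      rwa [Subgroup.comap_map_eq, Subgroup.comap_top, QuotientGroup.ker_mk'] at this
    have hker : ψ.ker = ⊤ := by
      refine eq_top_iff.mpr ?_
      rw [← SL_commutator_eq_top (ι := γ) (F := F) h3, commutator_def, Subgroup.commutator_le]
      intro x _ y _
      obtain ⟨a, ha, z, hz, rfl⟩ := Subgroup.mem_sup_of_normal_right.mp (htop.symm ▸ Subgroup.mem_top x)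
      obtain ⟨a', ha', z', hz', rfl⟩ := Subgroup.mem_sup_of_normal_right.mp (htop.symm ▸ Subgroup.mem_top y)
      rw [MonoidHom.mem_ker] at ha ha' ⊢
      have hc : ⁅ψ z, ψ z'⁆ = 1 := by
        rw [← map_commutatorElement, commutatorElement_eq_one_iff_mul_comm.mpr (Subgroup.mem_center_iff.mp hz' z),
          map_one]
      rw [map_commutatorElement, map_mul, map_mul, ha, ha', one_mul, one_mul, hc]
    exact MonoidHom.mem_ker.mp (hker ▸ Subgroup.mem_top b)

end Cfsg.Lib.Classical.TensorPowLin
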