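import Cfsg.Agent.Classical.TensorPowLin.Full

/-!
# Conjugates of slots and root elements
-/

set_option autoImplicit false
set_option linter.unusedSectionVars false
set_option linter.unusedSimpArgs false
set_option linter.unusedVariables false
set_option linter.style.haveILetI false

namespace Cfsg.Lib.Classical.TensorPowLin

open Matrix Finset
open scoped Kronecker MatrixGroups
open Cfsg.Lib.Classical.TensorMax (IsKron isKron_of_mat pure pure_apply rootMat rootMat_mulVec)

universe u

variable {τ γ : Type} [Fintype τ] [DecidableEq τ] [Fintype γ] [DecidableEq γ] {F : Type u} [Field F]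

/-- Conjugation by a unit. -/
def conjM (g : GL (τ → γ) F) : Matrix (τ → γ) (τ → γ) F →ₗ[F] Matrix (τ → γ) (τ → γ) F where
  toFun M := (g : Matrix (τ → γ) (τ → γ) F) * M * ((g⁻¹ : GL (τ → γ) F) : Matrix (τ → γ) (τ → γ) F)
  map_add' M N := by rw [mul_add, add_mul]
  map_smul' c M := by rw [RingHom.id_apply, mul_smul_comm, smul_mul_assoc]

theorem conjM_apply (g : GL (τ → γ) F) (M : Matrix (τ → γ) (τ → γ) F) :
    conjM g M = (g : Matrix (τ → γ) (τ → γ) F) * M * ((g⁻¹ : GL (τ → γ) F) : Matrix (τ → γ) (τ → γ) F) := rfl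

theorem conjM_mul (g : GL (τ → γ) F) (M N : Matrix (τ → γ) (τ → γ) F) : conjM g (M * N) = conjM g M * conjM g N := by
  simp only [conjM_apply, mul_assoc, Units.inv_mul_cancel_left]

theorem conjM_one (g : GL (τ → γ) F) : conjM g (1 : Matrix (τ → γ) (τ → γ) F) = 1 := by
  rw [conjM_apply, mul_one, Units.mul_inv]

theorem conjM_conjM (g h : GL (τ → γ) F) (M : Matrix (τ → γ) (τ → γ) F) : conjM g (conjM h M) = conjM (g * h) M := by
  simp only [conjM_apply, Units.val_mul, _root_.mul_inv_rev, mul_assoc]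

theorem conjM_id (M : Matrix (τ → γ) (τ → γ) F) : conjM (1 : GL (τ → γ) F) M = M := by
  rw [conjM_apply, inv_one, Units.val_one, one_mul, mul_one]

theorem conjM_inv_conjM (g : GL (τ → γ) F) (M : Matrix (τ → γ) (τ → γ) F) : conjM g⁻¹ (conjM g M) = M := by
  rw [conjM_conjM, inv_mul_cancel, conjM_id]

theorem conjM_conjM_inv (g : GL (τ → γ) F) (M : Matrix (τ → γ) (τ → γ) F) : conjM g (conjM g⁻¹ M) = M := by
  rw [conjM_conjM, mul_inv_cancel, conjM_id]

theorem commute_conjM (g : GL (τ → γ) F) {M N : Matrix (τ → γ) (τ → γ) F} (h : Commute M N) :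
    Commute (conjM g M) (conjM g N) := by
  show conjM g M * conjM g N = conjM g N * conjM g M
  rw [← conjM_mul, ← conjM_mul, h.eq]

theorem commute_conjM_left {g : GL (τ → γ) F} {M N : Matrix (τ → γ) (τ → γ) F} (h : Commute (conjM g M) N) :
    Commute M (conjM g⁻¹ N) := by
  have := commute_conjM g⁻¹ h
  rwa [conjM_inv_conjM] at this

/-- The conjugate of slot `i` is slot `j`. -/
def Eqj (g : GL (τ → γ) F) (i j : τ) : Prop := ∀ A, ∃ A', conjM g (slot i A) = slot j A'

/-- The conjugate of slot `i` commutes with slot `j`. -/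
def Comm (g : GL (τ → γ) F) (i j : τ) : Prop := ∀ A B, Commute (conjM g (slot i A)) (slot j B)

theorem Eqj.exists_map [Nonempty γ] {g : GL (τ → γ) F} {i j : τ} (h : Eqj g i j) :
    ∃ φ : Matrix γ γ F →ₗ[F] Matrix γ γ F, (∀ A, conjM g (slot i A) = slot j (φ A)) ∧ Function.Bijective φ ∧
      ∀ A B, φ (A * B) = φ A * φ B := by
  choose f hf using h
  let φ : Matrix γ γ F →ₗ[F] Matrix γ γ F :=
    { toFun := f
      map_add' := fun A B => slot_injective j (by rw [slot_add, ← hf, ← hf, ← hf, slot_add, map_add])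
      map_smul' := fun c A => slot_injective j (by
        rw [RingHom.id_apply, slot_smul, ← hf, ← hf, slot_smul, map_smul]) }
  have hinj : Function.Injective φ := fun A B hAB => slot_injective i (by
    rw [← conjM_inv_conjM g (slot i A), ← conjM_inv_conjM g (slot i B), hf, hf]
    exact congrArg _ (congrArg (slot j) hAB))
  exact ⟨φ, hf, ⟨hinj, LinearMap.injective_iff_surjective.mp hinj⟩, fun A B => slot_injective j (by
    show slot j (f (A * B)) = slot j (f A * f B)
    rw [slot_mul, ← hf, ← hf, ← hf, slot_mul, conjM_mul])⟩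

theorem Eqj.inv [Nonempty γ] {g : GL (τ → γ) F} {i j : τ} (h : Eqj g i j) : Eqj g⁻¹ j i := by
  obtain ⟨φ, hφ, ⟨-, hs⟩, -⟩ := h.exists_map
  intro A
  obtain ⟨B, rfl⟩ := hs A
  exact ⟨B, by rw [← hφ, conjM_inv_conjM]⟩

theorem Eqj.trans {g h : GL (τ → γ) F} {i j k : τ} (h₁ : Eqj g i j) (h₂ : Eqj h j k) : Eqj (h * g) i k := fun A => by
  obtain ⟨B, hB⟩ := h₁ A
  obtain ⟨C, hC⟩ := h₂ B
  exact ⟨C, by rw [← conjM_conjM, hB, hC]⟩

theorem Eqj.comm {g : GL (τ → γ) F} {i j l : τ} (h : Eqj g i j) (hl : j ≠ l) : Comm g i l := fun A B => by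
  obtain ⟨A', hA⟩ := h A
  rw [hA]
  exact slot_comm hl _ _

theorem not_scalar_slot [Nontrivial γ] (i : τ) {a b : γ} (hab : a ≠ b) (c : F) :
    (slot i (Matrix.single a b (1 : F)) : Matrix (τ → γ) (τ → γ) F) ≠ c • 1 := by
  intro h
  rw [← slot_scalar i c] at h
  have := congrFun (congrFun (slot_injective i h) a) b
  rw [Matrix.single_apply_same, Matrix.smul_apply, Matrix.one_apply_ne hab, smul_zero] at this
  exact one_ne_zero this

theorem exists_not_comm [Nontrivial γ] (g : GL (τ → γ) F) (i : τ) : ∃ j, ¬ Comm g i j := by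
  by_contra hh
  push Not at hh
  obtain ⟨a, b, hab⟩ := exists_pair_ne γ
  obtain ⟨c, hc⟩ := eq_scalar_of_comm (M := conjM g (slot i (Matrix.single a b (1 : F))))
    fun l A => (hh l _ A).symm
  refine not_scalar_slot i hab c ?_
  rw [← conjM_inv_conjM g (slot i (Matrix.single a b (1 : F))), hc, map_smul, conjM_one]

/-- An automorphism of a slot is inner. -/
theorem Eqj.inner [Nonempty γ] {g : GL (τ → γ) F} {i j : τ} (h : Eqj g i j) :
    ∃ b : GL γ F, ∀ A, conjM g (slot i A) =
      slot j ((b : Matrix γ γ F) * A * ((b⁻¹ : GL γ F) : Matrix γ γ F)) := by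
  classical
  obtain ⟨φ, hφ, ⟨hinj, -⟩, hmul⟩ := h.exists_map
  obtain ⟨o⟩ := ‹Nonempty γ›
  have hne : φ (Matrix.single o o (1 : F)) ≠ 0 := by
    rw [← map_zero φ]
    exact fun e => (one_ne_zero : (1 : F) ≠ 0) (by simpa using congrFun (congrFun (hinj e) o) o)
  obtain ⟨v, hv⟩ : ∃ v, φ (Matrix.single o o (1 : F)) *ᵥ v ≠ 0 := by
    by_contra hh
    push Not at hh
    exact hne (Matrix.ext_of_mulVec_single fun j => by rw [hh, zero_mulVec])
  set W : Matrix γ γ F := Matrix.of fun r a => (φ (Matrix.single a o (1 : F)) *ᵥ v) r with hW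
  have hcol : ∀ c : γ → F, W *ᵥ c = φ (∑ a, c a • Matrix.single a o 1) *ᵥ v := fun c => by
    funext r
    rw [map_sum, Matrix.sum_mulVec, Finset.sum_apply, Matrix.mulVec, dotProduct]
    refine Finset.sum_congr rfl fun a _ => ?_
    rw [map_smul, Matrix.smul_mulVec, Pi.smul_apply, smul_eq_mul, hW, Matrix.of_apply, mul_comm]
  have hWA : ∀ A, φ A * W = W * A := fun A => by
    refine Matrix.ext_of_mulVec_single fun b => ?_
    rw [← mulVec_mulVec, ← mulVec_mulVec, hcol, hcol, mulVec_mulVec, ← hmul]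
    congr 2
    rw [Finset.mul_sum]
    ext r s
    simp only [Matrix.sum_apply, mul_smul_comm, Matrix.smul_apply, smul_eq_mul]
    by_cases hs : s = o
    · subst hs; simp [Matrix.single_apply, mulVec_single, Pi.single_apply]
    · simp [Matrix.single_apply, Ne.symm hs, hs]
  have hWinj : Function.Injective W.mulVecLin := by
    rw [← LinearMap.ker_eq_bot, LinearMap.ker_eq_bot']
    intro c hc
    funext b
    have h1 : φ (Matrix.single o b (1 : F)) *ᵥ (W *ᵥ c) = c b • (φ (Matrix.single o o (1 : F)) *ᵥ v) := by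
      rw [hcol, mulVec_mulVec, ← hmul, Finset.mul_sum, Finset.sum_eq_single b]
      · rw [mul_smul_comm, Matrix.single_mul_single_same, mul_one, map_smul, Matrix.smul_mulVec]
      · intro a _ ha
        rw [mul_smul_comm, Matrix.single_mul_single_of_ne _ _ _ _ (Ne.symm ha), smul_zero]
      · simp
    rw [show W *ᵥ c = 0 from hc, mulVec_zero] at h1
    exact (smul_eq_zero.mp h1.symm).resolve_right hv
  have hu : IsUnit W := Matrix.mulVec_injective_iff_isUnit.mp hWinj
  refine ⟨hu.unit, fun A => ?_⟩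
  rw [hφ]
  congr 1
  have e := hWA A
  rw [← hu.unit_spec] at e
  rw [← e, mul_assoc, Units.mul_inv, mul_one]

/-- An element normalising a slot is a Kronecker product in its coordinates. -/
theorem kron_of_normal [Nonempty γ] {g : GL (τ → γ) F} {i : τ} (h : Eqj g i i) : IsKron (coord i g) := by
  obtain ⟨b, hb⟩ := h.inner
  set M : Matrix (τ → γ) (τ → γ) F :=
    slot i ((b⁻¹ : GL γ F) : Matrix γ γ F) * (g : Matrix (τ → γ) (τ → γ) F) with hM
  have hcomm : ∀ A, Commute (slot i A) M := fun A => by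
    have e : (g : Matrix (τ → γ) (τ → γ) F) * slot i A =
        slot i ((b : Matrix γ γ F) * A * ((b⁻¹ : GL γ F) : Matrix γ γ F)) * (g : Matrix (τ → γ) (τ → γ) F) := by
      rw [← hb A, conjM_apply, mul_assoc, Units.inv_mul, mul_one]
    show slot i A * M = M * slot i A
    rw [hM, mul_assoc (slot i ((b⁻¹ : GL γ F) : Matrix γ γ F)), e, ← mul_assoc, ← mul_assoc, ← slot_mul, ← slot_mul,
      ← mul_assoc, ← mul_assoc, Units.inv_mul, one_mul]
  obtain ⟨o⟩ := ‹Nonempty γ›
  obtain ⟨h0, h1⟩ := comm_entries fun p q => hcomm (Matrix.single p q (1 : F))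
  set Z : Matrix (Rest i → γ) (Rest i → γ) F := Matrix.of fun a a' => (toBig i).symm M (a, o) (a', o)
  have hMZ : M = toBig i (Z ⊗ₖ (1 : Matrix γ γ F)) := by
    ext x y
    rw [toBig_apply, kroneckerMap_apply]
    by_cases hxy : x i = y i
    · rw [hxy, Matrix.one_apply_eq, mul_one, h1 x y o hxy]
      show M _ _ = (toBig i).symm M _ _
      conv_lhs => rw [← (toBig i).apply_symm_apply M, toBig_apply]
      have e : ∀ z : τ → γ, (fun l : Rest i => Function.update z i o l) = fun l : Rest i => z l := fun z =>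
        funext fun l => Function.update_of_ne l.2 _ _
      rw [e, e, Function.update_self, Function.update_self]
    · rw [Matrix.one_apply_ne hxy, mul_zero, h0 x y hxy]
  refine isKron_of_mat _ Z ((b : Matrix γ γ F)) ((toBig i).injective ?_)
  rw [coord_val, ← outer_mul_slot, outer, ← hMZ, hM, mul_assoc]
  have hcb := hcomm (b : Matrix γ γ F)
  have : M * slot i (b : Matrix γ γ F) = (g : Matrix (τ → γ) (τ → γ) F) := by
    rw [← hcb.eq, hM, ← mul_assoc, ← slot_mul, Units.mul_inv, slot_one, one_mul]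
  rw [hM, mul_assoc] at this
  exact this.symm

theorem normal_of_kron [Nonempty γ] {g : GL (τ → γ) F} {i : τ} (h : IsKron (coord i g)) : Eqj g i i := by
  obtain ⟨a, b, e⟩ := h
  intro A
  refine ⟨(b : Matrix γ γ F) * A * ((b⁻¹ : GL γ F) : Matrix γ γ F), ?_⟩
  have eg : (g : Matrix (τ → γ) (τ → γ) F) = outer i (a : Matrix _ _ F) * slot i (b : Matrix γ γ F) := by
    rw [outer_mul_slot, ← e, coord_val]
  have e2 : (g : Matrix (τ → γ) (τ → γ) F) * slot i A =
      slot i ((b : Matrix γ γ F) * A * ((b⁻¹ : GL γ F) : Matrix γ γ F)) * (g : Matrix (τ → γ) (τ → γ) F) := by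
    rw [eg, mul_assoc, ← slot_mul, ← mul_assoc (slot i _), ← (outer_comm i _ _).eq, mul_assoc, ← slot_mul, mul_assoc,
      mul_assoc, Units.inv_mul, mul_one]
  rw [conjM_apply, e2, mul_assoc, Units.mul_inv, mul_one]

/-- Special elements of a slot. -/
def slotGL (i : τ) : SpecialLinearGroup γ F →* GL (τ → γ) F where
  toFun b := ⟨slot i (b : Matrix γ γ F), slot i ((b⁻¹ : SpecialLinearGroup γ F) : Matrix γ γ F),
    by
      rw [← slot_mul]
      exact (congrArg (fun c : SpecialLinearGroup γ F => slot i (c : Matrix γ γ F)) (mul_inv_cancel b)).trans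
        (slot_one i),
    by
      rw [← slot_mul]
      exact (congrArg (fun c : SpecialLinearGroup γ F => slot i (c : Matrix γ γ F)) (inv_mul_cancel b)).trans
        (slot_one i)⟩
  map_one' := Units.ext (slot_one i)
  map_mul' b b' := Units.ext (slot_mul i _ _)

theorem slotGL_val (i : τ) (b : SpecialLinearGroup γ F) :
    ((slotGL i b : GL (τ → γ) F) : Matrix (τ → γ) (τ → γ) F) = slot i (b : Matrix γ γ F) := rfl

variable {X : Subgroup (GL (τ → γ) F)}

/-- Scalar radicals at every slot. -/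
structure Good (X : Subgroup (GL (τ → γ) F)) : Prop where
  hyp : Hyp X
  scal : ∀ i, Scal (X.map (coord i).toMonoidHom)

theorem Hyp.good [Nonempty γ] (hX : Hyp X) (hnot : ¬ Cfsg.Geo.specialLinear (τ → γ) F ≤ X) : Good X :=
  ⟨hX, hX.scal hnot⟩

theorem Good.slotGL_mem (hX : Good X) (i : τ) (b : SpecialLinearGroup γ F) : slotGL i b ∈ X := by
  obtain ⟨k, hk, e⟩ := hX.hyp.slot i _ b.2
  exact (Units.ext (by rw [slotGL_val, e]) : slotGL i b = k) ▸ hk

/-- A representation of `SL` fixed by a root of a slot fixes the whole slot. -/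
theorem Good.proj [Finite F] [Nonempty γ] (hX : Good X) (ρ : SpecialLinearGroup γ F →* GL (τ → γ) F)
    (hρ : ∀ b, ρ b ∈ X) {j : τ} {e φ : γ → F} (he : e ≠ 0) (hφ : φ ≠ 0)
    (hfix : ∀ b, Commute (ρ b : Matrix (τ → γ) (τ → γ) F) (slot j (vecMulVec e φ))) (b : SpecialLinearGroup γ F)
    (B : Matrix γ γ F) : Commute (ρ b : Matrix (τ → γ) (τ → γ) F) (slot j B) := by
  obtain ⟨k₀, hk₀⟩ := Function.ne_iff.mp hφ
  simp only [Pi.zero_apply] at hk₀
  set w₀ : γ → F := Pi.single k₀ (φ k₀)⁻¹
  have hw₀ : φ ⬝ᵥ w₀ = 1 := by rw [dotProduct_single, mul_inv_cancel₀ hk₀]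
  set ρ' : SpecialLinearGroup γ F →* GL ((Rest j → γ) × γ) F := (coord j).toMonoidHom.comp ρ
  have key := (hX.scal j).proj_trivial ρ' (fun b => ⟨ρ b, hρ b, rfl⟩) he (fun b v => ?_) b
  · obtain ⟨a, ha⟩ := key
    have ha' : (ρ b : Matrix (τ → γ) (τ → γ) F) = outer j a := by
      rw [← coord_val j (ρ b)]
      exact congrArg _ ha
    rw [ha']
    exact outer_comm j a B
  · set N := (rootMat e φ : Matrix ((Rest j → γ) × γ) ((Rest j → γ) × γ) F)
    have hc : Commute (ρ' b : Matrix ((Rest j → γ) × γ) ((Rest j → γ) × γ) F) N := by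
      show _ * N = N * _
      refine (toBig j).injective ?_
      rw [map_mul, map_mul, show toBig j N = slot j (vecMulVec e φ) from (slot_eq j _).symm]
      show toBig j ((coord j (ρ b) : GL ((Rest j → γ) × γ) F) : Matrix ((Rest j → γ) × γ) ((Rest j → γ) × γ) F) * _ =
        _ * toBig j ((coord j (ρ b) : GL ((Rest j → γ) × γ) F) : Matrix ((Rest j → γ) × γ) ((Rest j → γ) × γ) F)
      rw [coord_val]
      exact (hfix b).eq
    have h1 : pure v e = N *ᵥ pure v w₀ := by rw [TensorMax.rootMat_mulVec_pure, hw₀, one_smul]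
    refine ⟨fun a => ∑ k, φ k * ((ρ' b : Matrix _ _ F) *ᵥ pure v w₀) (a, k), ?_⟩
    rw [h1, mulVec_mulVec, hc.eq, ← mulVec_mulVec, rootMat_mulVec]

theorem Good.proj_conj [Finite F] [Nontrivial γ] (hX : Good X) {g : GL (τ → γ) F} (hg : g ∈ X) {l j : τ}
    {e φ : γ → F} (he : e ≠ 0) (hφ : φ ≠ 0)
    (hfix : ∀ b : SpecialLinearGroup γ F, Commute (conjM g (slot l (b : Matrix γ γ F))) (slot j (vecMulVec e φ))) :
    Comm g l j := by
  intro A B
  set ρ : SpecialLinearGroup γ F →* GL (τ → γ) F := (MulAut.conj g).toMonoidHom.comp (slotGL l)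
  have hval : ∀ b, ((ρ b : GL (τ → γ) F) : Matrix (τ → γ) (τ → γ) F) = conjM g (slot l (b : Matrix γ γ F)) :=
    fun b => rfl
  have h := hX.proj ρ (fun b => mul_mem (mul_mem hg (hX.slotGL_mem l b)) (inv_mem hg)) he hφ
    (fun b => by rw [hval]; exact hfix b)
  have h2 : Commute (slot l A) (conjM g⁻¹ (slot j B)) := by
    refine comm_slot_of_offdiag (fun p q hpq => ?_) A
    have h4 : Commute (conjM g (slot l (Matrix.transvection p q (1 : F)))) (slot j B) :=
      h ⟨Matrix.transvection p q 1, Matrix.det_transvection_of_ne p q hpq 1⟩ B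
    have h3 := commute_conjM_left h4
    rw [show Matrix.transvection p q (1 : F) = 1 + Matrix.single p q 1 from rfl, slot_add, slot_one] at h3
    have := h3.sub_left (Commute.one_left _)
    rwa [add_sub_cancel_left] at this
  have := commute_conjM g h2
  rwa [conjM_conjM_inv] at this

theorem root_pow {R : Type*} [Ring R] {N : R} (hN : N * N = 0) (n : ℕ) : (1 + N) ^ n = 1 + n • N := by
  induction n with
  | zero => simp
  | succ n ih => rw [pow_succ, ih, add_mul, one_mul, mul_add, mul_one, smul_mul_assoc, hN, smul_zero, add_zero,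
      add_assoc, succ_nsmul']

theorem card_rest (i j : τ) : Fintype.card (Rest i → γ) = Fintype.card (Rest j → γ) := by
  simp [Fintype.card_fun, Fintype.card_subtype_compl]

/-- A root of slot `j` fixing the conjugate of slot `i` forces it to be slot `j` or to commute with it. -/
theorem Good.root_cases [Fintype F] [Nontrivial γ] (hX : Good X) {g : GL (τ → γ) F} (hg : g ∈ X) {i j : τ}
    {e φ : γ → F} (he : e ≠ 0) (hφ : φ ≠ 0) (hφe : φ ⬝ᵥ e = 0) {k : GL (τ → γ) F}
    (hk : (k : Matrix (τ → γ) (τ → γ) F) = slot j (1 + vecMulVec e φ)) (hK : IsKron (coord i (g⁻¹ * k * g))) :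
    Eqj g i j ∨ Comm g i j := by
  classical
  obtain ⟨p, hp⟩ := CharP.exists F
  haveI : Fact p.Prime := ⟨CharP.char_is_prime F p⟩
  haveI : CharP (Matrix (τ → γ) (τ → γ) F) p := by
    haveI : Nonempty (τ → γ) := ⟨fun _ => Classical.arbitrary γ⟩
    exact Matrix.charP p
  set N := (slot j (vecMulVec e φ) : Matrix (τ → γ) (τ → γ) F) with hN
  have hk' : (k : Matrix (τ → γ) (τ → γ) F) = 1 + N := by rw [hk, slot_add, slot_one]
  have hNN : N * N = 0 := by
    rw [hN, ← slot_mul, vecMulVec_mul_vecMulVec, hφe, zero_smul, vecMulVec_zero, slot_zero]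
  set h := g⁻¹ * k * g
  have hh : (h : Matrix (τ → γ) (τ → γ) F) = conjM g⁻¹ (k : Matrix (τ → γ) (τ → γ) F) := by
    rw [conjM_apply, inv_inv]; rfl
  have hkp : k ^ p = 1 := Units.ext (by
    rw [Units.val_pow_eq_pow_val, hk', root_pow hNN, ← Nat.cast_smul_eq_nsmul F, CharP.cast_eq_zero, zero_smul,
      add_zero, Units.val_one])
  have hhp : (coord i h) ^ p = 1 := by
    rw [← map_pow, show h = MulAut.conj g⁻¹ k by simp [h], ← map_pow, hkp, map_one, map_one]
  have hconj : (h : Matrix (τ → γ) (τ → γ) F) - 1 = conjM g⁻¹ N := by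
    rw [hh, hk', map_add, conjM_one, add_sub_cancel_left]
  have hrank : ((coord i h : GL ((Rest i → γ) × γ) F) : Matrix ((Rest i → γ) × γ) ((Rest i → γ) × γ) F) - 1 =
      (toBig i).symm (conjM g⁻¹ N) := by
    rw [AlgEquiv.eq_symm_apply, map_sub, map_one, coord_val, hconj]
  have hr : (((coord i h : GL ((Rest i → γ) × γ) F) : Matrix ((Rest i → γ) × γ) ((Rest i → γ) × γ) F) - 1).rank ≤
      Fintype.card (Rest i → γ) := by
    rw [hrank]
    show (Matrix.reindex (slotE i) (slotE i) (conjM g⁻¹ N)).rank ≤ _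
    rw [Matrix.rank_reindex, conjM_apply,
      Matrix.rank_mul_eq_left_of_isUnit_det _ _ ((Matrix.isUnit_iff_isUnit_det _).mp (Units.isUnit _)),
      Matrix.rank_mul_eq_right_of_isUnit_det _ _ ((Matrix.isUnit_iff_isUnit_det _).mp (Units.isUnit _)),
      card_rest i j, hN, slot_eq]
    show (Matrix.reindex (slotE j).symm (slotE j).symm _).rank ≤ _
    rw [Matrix.rank_reindex]
    exact TensorMax.rank_rootMat_le e φ
  rcases kron_cases hX.hyp.card₂ hK hhp hr with ⟨a, ha⟩ | ⟨e', φ', he', hφ', -, ha⟩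
  · right
    refine hX.proj_conj hg he hφ fun b => ?_
    have hbig : (h : Matrix (τ → γ) (τ → γ) F) = outer i a := by rw [← coord_val i h, ha]; rfl
    have h1 : Commute (slot i (b : Matrix γ γ F)) (conjM g⁻¹ N) := by
      rw [← hconj, hbig]
      exact (outer_comm i a _).symm.sub_right (Commute.one_right _)
    have := commute_conjM g h1
    rwa [conjM_conjM_inv] at this
  · left
    have hbig : conjM g⁻¹ N = slot i (vecMulVec e' φ') := by
      have : (h : Matrix (τ → γ) (τ → γ) F) = slot i (1 + vecMulVec e' φ') := by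
        rw [← coord_val i h, ha, slot_eq]
      rw [← hconj, this, slot_add, slot_one, add_sub_cancel_left]
    have hc : ∀ l, l ≠ j → Comm g⁻¹ l i := fun l hl => by
      refine hX.proj_conj (inv_mem hg) he' hφ' fun b => ?_
      rw [← hbig]
      exact commute_conjM g⁻¹ (slot_comm hl _ _)
    intro A
    refine eq_slot_of_comm fun l hl B => ?_
    have := commute_conjM g (hc l hl B A)
    rwa [conjM_conjM_inv] at this

/-- The bracket of an element of the span of the slots with a slot. -/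
theorem bracket_InL (P : τ → Matrix γ γ F) (j : τ) (A : Matrix γ γ F) :
    (∑ l, slot l (P l)) * slot j A - slot j A * (∑ l, slot l (P l)) = slot j (P j * A - A * P j) := by
  rw [Finset.sum_mul, Finset.mul_sum, ← Finset.sum_sub_distrib, Finset.sum_eq_single j]
  · rw [← slot_mul, ← slot_mul, slot_sub]
  · intro l _ hl
    rw [(slot_comm hl _ _).eq, sub_self]
  · simp

theorem double_bracket {R : Type*} [Ring R] (P Q a b : R) (hPab : (P * a - a * P) * b = b * (P * a - a * P))
    (hQab : (Q * a - a * Q) * b = b * (Q * a - a * Q)) (hPQ : (P * Q * a - a * (P * Q)) * b = b * (P * Q * a - a * (P * Q))) :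
    (P * a - a * P) * (Q * b - b * Q) + (P * b - b * P) * (Q * a - a * Q) = 0 := by
  have e : ((P * Q * a - a * (P * Q)) * b - b * (P * Q * a - a * (P * Q))) =
      ((P * a - a * P) * b - b * (P * a - a * P)) * Q + ((P * a - a * P) * (Q * b - b * Q) +
        (P * b - b * P) * (Q * a - a * Q)) + P * ((Q * a - a * Q) * b - b * (Q * a - a * Q)) := by
    noncomm_ring
  rw [hPab, hQab, hPQ, sub_self, sub_self, sub_self, zero_mul, mul_zero, zero_add, add_zero] at e
  exact e.symm

/-- The coordinates of a component modulo scalars. -/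
def fcomp (P : τ → Matrix γ γ F) (j : τ) (x : Matrix γ γ F × γ × γ) : F := (P j * x.1 - x.1 * P j) x.2.1 x.2.2

theorem cross [Nonempty γ] {P Q : τ → Matrix γ γ F} (hPQ : InL ((∑ l, slot l (P l)) * ∑ l, slot l (Q l)))
    {j k : τ} (hjk : j ≠ k) (x y : Matrix γ γ F × γ × γ) :
    fcomp P j x * fcomp Q k y + fcomp Q j x * fcomp P k y = 0 := by
  obtain ⟨A, a, a'⟩ := x
  obtain ⟨B, b, b'⟩ := y
  obtain ⟨R, hR⟩ := hPQ
  have hb : ∀ S : τ → Matrix γ γ F, ((∑ l, slot l (S l)) * slot j A - slot j A * ∑ l, slot l (S l)) * slot k B =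
      slot k B * ((∑ l, slot l (S l)) * slot j A - slot j A * ∑ l, slot l (S l)) := fun S => by
    rw [bracket_InL]; exact (slot_comm hjk _ _).eq
  have h0 := double_bracket _ _ (slot j A) (slot k B) (hb P) (hb Q) (by rw [hR]; exact hb R)
  rw [bracket_InL, bracket_InL, bracket_InL, bracket_InL, (slot_comm hjk.symm (P k * B - B * P k) _).eq] at h0
  set c : τ → γ := fun _ => Classical.arbitrary γ
  have h1 := congrFun (congrFun h0 (Function.update (Function.update c j a) k b))
    (Function.update (Function.update c j a') k b')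
  have hr : ∀ o, o ≠ j → o ≠ k → Function.update (Function.update c j a) k b o =
      Function.update (Function.update c j a') k b' o := fun o ho ho' => by simp [ho, ho']
  rw [Matrix.add_apply, slot_pair hjk, slot_pair hjk, if_pos hr, if_pos hr, Matrix.zero_apply] at h1
  simpa [fcomp, hjk] using h1

theorem fcomp_zero_scalar [Nonempty γ] {P : τ → Matrix γ γ F} {j : τ} (h : ∀ x, fcomp P j x = 0) (A : Matrix γ γ F) :
    P j * A = A * P j := sub_eq_zero.mp (Matrix.ext fun a b => h (A, a, b))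

/-- If the off-diagonal units of slot `i` go into the span of the slots, slot `i` goes to a slot. -/
theorem permutes [Nonempty γ] [Nonempty τ] (h3 : 3 ≤ Fintype.card γ) (g : GL (τ → γ) F) (i : τ)
    (hL : ∀ a b : γ, a ≠ b → InL (conjM g (slot i (Matrix.single a b (1 : F))))) : ∃ j, Eqj g i j := by
  classical
  haveI : Nontrivial γ := Fintype.one_lt_card_iff_nontrivial.mp (by omega)
  set Un := {u : γ × γ // u.1 ≠ u.2}
  choose P hP using fun u : Un => hL u.1.1 u.1.2 u.2
  have hrel : ∀ u v : Un, ¬(u.1.2 = v.1.1 ∧ u.1.1 = v.1.2) → ∀ (j k : τ), j ≠ k → ∀ x y,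
      fcomp (P u) j x * fcomp (P v) k y + fcomp (P v) j x * fcomp (P u) k y = 0 := by
    intro u v huv j k hjk
    refine cross ?_ hjk
    rw [← hP, ← hP, ← conjM_mul, ← slot_mul]
    by_cases h1 : u.1.2 = v.1.1
    · rw [← h1, Matrix.single_mul_single_same, mul_one]
      exact hL _ _ fun e => huv ⟨h1, e⟩
    · rw [Matrix.single_mul_single_of_ne _ _ _ _ h1, slot_zero, map_zero]
      exact InL.zero
  have hscal : ∀ (M : τ → Matrix γ γ F), (∀ l A, M l * A = A * M l) → ∃ c : F, ∑ l, slot l (M l) = c • (1 :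
      Matrix (τ → γ) (τ → γ) F) := fun M hM => eq_scalar_of_comm fun l A => by
    show slot l A * _ = _ * slot l A
    refine (sub_eq_zero.mp ?_).symm
    rw [bracket_InL, hM, sub_self, slot_zero]
  have hNZ : ∀ u : Un, ∃ j x, fcomp (P u) j x ≠ 0 := by
    intro u
    by_contra hh
    push Not at hh
    obtain ⟨c, hc⟩ := hscal (P u) fun l => fcomp_zero_scalar (hh l)
    refine not_scalar_slot i u.2 c ?_
    rw [← conjM_inv_conjM g (slot i (Matrix.single u.1.1 u.1.2 (1 : F))), hP, hc, map_smul, conjM_one]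
  have huniq : ∀ (u : Un) (j k : τ), (∃ x, fcomp (P u) j x ≠ 0) → (∃ y, fcomp (P u) k y ≠ 0) → j = k := by
    rintro u j k ⟨x₀, hx₀⟩ ⟨y₀, hy₀⟩
    by_contra hjk
    have h2 : (2 : F) = 0 := by
      have := hrel u u (fun e => u.2 e.1.symm) j k hjk x₀ y₀
      rw [← two_mul] at this
      exact (mul_eq_zero.mp this).resolve_right (mul_ne_zero hx₀ hy₀)
    obtain ⟨o, hoa, hob⟩ := exists_third h3 u.1.1 u.1.2
    set v : Un := ⟨(u.1.1, o), hoa.symm⟩
    have huv : ¬(u.1.2 = v.1.1 ∧ u.1.1 = v.1.2) := fun e => u.2 e.1.symm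
    set ν := fcomp (P v) j x₀ / fcomp (P u) j x₀ with hν
    have hl : ∀ l, l ≠ j → ∀ y, fcomp (P v) l y = -ν * fcomp (P u) l y := fun l hl y => by
      have := hrel u v huv j l hl.symm x₀ y
      rw [hν, neg_mul, div_mul_eq_mul_div, ← neg_div, eq_div_iff hx₀]
      linear_combination this
    have hall : ∀ l y, fcomp (P v) l y = ν * fcomp (P u) l y := fun l y => by
      by_cases hlj : l = j
      · subst hlj
        have := hrel u v huv l k hjk y y₀
        rw [hl k (Ne.symm hjk) y₀] at this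
        have e : (fcomp (P v) l y - ν * fcomp (P u) l y) * fcomp (P u) k y₀ = 0 := by linear_combination this
        exact sub_eq_zero.mp ((mul_eq_zero.mp e).resolve_right hy₀)
      · rw [hl l hlj y]
        linear_combination (-ν * fcomp (P u) l y) * h2
    obtain ⟨c, hc⟩ := hscal (fun l => P v l - ν • P u l) fun l A => sub_eq_zero.mp (Matrix.ext fun a b => by
      have := hall l (A, a, b)
      simp only [fcomp, Matrix.sub_apply] at this
      simp only [sub_mul, mul_sub, smul_mul_assoc, mul_smul_comm, Matrix.sub_apply, Matrix.smul_apply, smul_eq_mul,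
        Matrix.zero_apply]
      linear_combination this)
    have e1 : conjM g (slot i (Matrix.single v.1.1 v.1.2 1 - ν • Matrix.single u.1.1 u.1.2 1)) =
        c • (1 : Matrix (τ → γ) (τ → γ) F) := by
      rw [← hc, slot_sub, slot_smul, map_sub, map_smul, hP, hP, Finset.smul_sum, ← Finset.sum_sub_distrib]
      exact Finset.sum_congr rfl fun l _ => by rw [slot_sub, slot_smul]
    have e2 := congrArg (conjM g⁻¹) e1
    rw [conjM_inv_conjM, map_smul, conjM_one, ← slot_scalar i c] at e2
    have := congrFun (congrFun (slot_injective i e2) u.1.1) o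
    rw [Matrix.sub_apply, Matrix.smul_apply, Matrix.smul_apply, Matrix.single_apply_same,
      Matrix.single_apply_of_ne _ _ _ _ _ (fun e : u.1.1 = u.1.1 ∧ u.1.2 = o => hob e.2.symm),
      Matrix.one_apply_ne hoa.symm, smul_zero, smul_zero, sub_zero] at this
    exact one_ne_zero this
  choose J hJ using hNZ
  have hsame : ∀ u v : Un, ¬(u.1.2 = v.1.1 ∧ u.1.1 = v.1.2) → J u = J v := by
    intro u v huv
    by_contra hne
    obtain ⟨x, hx⟩ := hJ u
    obtain ⟨y, hy⟩ := hJ v
    have h0 : fcomp (P v) (J u) x = 0 := by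
      by_contra h
      exact hne (huniq v _ _ ⟨x, h⟩ (hJ v))
    have := hrel u v huv (J u) (J v) hne x y
    rw [h0, zero_mul, add_zero] at this
    exact mul_ne_zero hx hy this
  obtain ⟨a₀, b₀, hab₀⟩ := exists_pair_ne γ
  set j := J ⟨(a₀, b₀), hab₀⟩
  have hall : ∀ u : Un, J u = j := by
    intro u
    by_cases h : u.1.2 = a₀ ∧ u.1.1 = b₀
    · obtain ⟨o, hoa, hob⟩ := exists_third h3 u.1.1 u.1.2
      rw [hsame u ⟨(u.1.1, o), hoa.symm⟩ (fun e => u.2 e.1.symm)]
      exact hsame _ _ fun e => hob (e.1.trans h.1.symm)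
    · exact hsame u _ h
  refine ⟨j, fun A => ?_⟩
  refine eq_slot_of_comm fun l hl B => ?_
  have h1 : Commute (slot i A) (conjM g⁻¹ (slot l B)) := by
    refine comm_slot_of_offdiag (fun a b hab => ?_) A
    refine commute_conjM_left ?_
    rw [hP ⟨(a, b), hab⟩]
    show _ * slot l B = slot l B * _
    refine sub_eq_zero.mp ?_
    rw [bracket_InL, fcomp_zero_scalar (fun x => ?_), sub_self, slot_zero]
    by_contra hx
    exact hl ((huniq _ _ _ ⟨x, hx⟩ (hJ _)).trans (hall _))
  have := commute_conjM g h1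
  rw [conjM_conjM_inv] at this
  exact this.symm

end Cfsg.Lib.Classical.TensorPowLin
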