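import Cfsg.Agent.Classical.TensorPowLin.Omega

/-!
# The trilinear invariant is fixed
-/

set_option autoImplicit false
set_option linter.unusedSectionVars false
set_option linter.unusedSimpArgs false
set_option linter.unusedVariables false
set_option linter.style.haveILetI false

namespace Cfsg.Lib.Classical.TensorPowLin

open Matrix Finset
open scoped Kronecker MatrixGroups

universe u

variable {τ γ : Type} [Fintype τ] [DecidableEq τ] [Fintype γ] [DecidableEq γ] {F : Type u} [Field F]

theorem two_zero [Fintype F] (hF : Fintype.card F = 2) : (2 : F) = 0 := by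
  have := FiniteField.cast_card_eq_zero F
  rwa [hF, Nat.cast_ofNat] at this

theorem eq_one_of_two [Fintype F] (hF : Fintype.card F = 2) (x : F) (hx : x ≠ 0) : x = 1 := by
  have := FiniteField.pow_card_sub_one_eq_one x hx
  rwa [hF, show 2 - 1 = 1 from rfl, pow_one] at this

theorem tensGL_perm (σ : Equiv.Perm τ) (b : τ → GL γ F) :
    tensGL b * permGL σ = permGL σ * tensGL fun o => b (σ o) := by
  refine Units.ext ?_
  rw [Units.val_mul, Units.val_mul, tensGL_val, tensGL_val, permGL_val, perm_tens]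
  simp

theorem slotGL_eq_tensGL (i : τ) (b : SpecialLinearGroup γ F) :
    slotGL i b = tensGL (Pi.mulSingle i (SpecialLinearGroup.toGL b)) := by
  refine Units.ext ?_
  rw [slotGL_val, tensGL_val, slot]
  congr 1
  funext o
  by_cases h : o = i
  · subst h; simp
  · simp [h]

theorem sl_mulVec (i : τ) (p q : γ) (w : τ → γ) :
    (slot i (Matrix.single p q (1 : F))) *ᵥ (Pi.single w 1 : (τ → γ) → F) =
      if w i = q then Pi.single (Function.update w i p) 1 else 0 := by
  funext a
  rw [mulVec_single_one']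
  show slot i (Matrix.single p q (1 : F)) a w = _
  rw [slot_single_apply]
  by_cases hw : w i = q
  · rw [if_pos hw, Pi.single_apply]
    refine if_congr ⟨?_, ?_⟩ rfl rfl
    · rintro ⟨h1, rfl⟩
      rw [Function.update_idem, ← h1, Function.update_eq_self]
    · rintro rfl
      exact ⟨Function.update_self _ _ _, by rw [Function.update_idem, ← hw, Function.update_eq_self]⟩
  · rw [if_neg hw, if_neg, Pi.zero_apply]
    rintro ⟨-, rfl⟩
    exact hw (Function.update_self _ _ _)

theorem tens_eq_one (hone : ∀ x : F, x ≠ 0 → x = 1) {w : τ → Matrix γ γ F} (h : tens w = 1) (l : τ) : w l = 1 := by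
  have hd : ∀ x : τ → γ, ∀ o, w o (x o) (x o) = 1 := fun x o => by
    refine hone _ fun h0 => ?_
    have := congrFun (congrFun h x) x
    rw [tens_apply, Matrix.one_apply_eq, Finset.prod_eq_zero (mem_univ o) h0] at this
    exact zero_ne_one this
  ext a b
  by_cases hab : a = b
  · subst hab; rw [Matrix.one_apply_eq]; exact hd (fun _ => a) l
  · have := congrFun (congrFun h (fun _ => a)) (Function.update (fun _ => a) l b)
    rw [tens_apply, Matrix.one_apply_ne (fun e => hab (by simpa using congrFun e l)), Finset.prod_eq_single l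
      (fun o _ ho => by rw [Function.update_of_ne ho]; exact hd (fun _ => a) o) (fun h => absurd (mem_univ l) h),
      Function.update_self] at this
    rw [Matrix.one_apply_ne hab, this]

/-- No matrix units commute with `A ⊗ A` in a pair of three-dimensional slots. -/
theorem no_matrix_units (h3 : Fintype.card γ = 3) {ka la : τ} (hne : ka ≠ la)
    (e : Fin 3 ≃ γ) {A : Matrix γ γ F} (hA0 : ∀ r, A r (e 0) = if r = e 1 then 1 else 0)
    (hA1 : ∀ r, A r (e 1) = if r = e 2 then 1 else 0)
    (hA2 : ∀ r, A r (e 2) = if r = e 0 ∨ r = e 1 then 1 else 0)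
    (C : γ → γ → Matrix (τ → γ) (τ → γ) F) (hmul : ∀ a b b' c, C a b * C b' c = if b = b' then C a c else 0)
    (hsum : ∑ a, C a a = 1) (hslot : ∀ a b o, o ≠ ka → o ≠ la → ∀ B, Commute (slot o B) (C a b))
    (hK : ∀ a b, Commute (slot ka A * slot la A) (C a b)) : False := by
  classical
  set K := slot ka A * slot la A with hKdef
  set c : τ → γ := fun _ => e 0
  let pt : γ → γ → τ → γ := fun a b => Function.update (Function.update c ka a) la b
  let U : Submodule F ((τ → γ) → F) :=
    { carrier := {v | ∀ y, (∃ o, o ≠ ka ∧ o ≠ la ∧ y o ≠ c o) → v y = 0}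
      zero_mem' := fun y _ => rfl
      add_mem' := fun {v w} hv hw y hy => by rw [Pi.add_apply, hv y hy, hw y hy, add_zero]
      smul_mem' := fun r v hv y hy => by rw [Pi.smul_apply, hv y hy, smul_zero] }
  have hU : ∀ M : Matrix (τ → γ) (τ → γ) F, (∀ o, o ≠ ka → o ≠ la → ∀ B, Commute (slot o B) M) →
      ∀ v ∈ U, M *ᵥ v ∈ U := by
    rintro M hM v hv y ⟨o, ho1, ho2, ho⟩
    refine Finset.sum_eq_zero fun z _ => ?_
    by_cases hz : z o = c o
    · show M y z * v z = 0
      rw [(comm_entries (i := o) fun p q => hM o ho1 ho2 _).1 y z (by rw [hz]; exact ho), zero_mul]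
    · show M y z * v z = 0
      rw [hv z ⟨o, ho1, ho2, hz⟩, mul_zero]
  have hKU : ∀ o, o ≠ ka → o ≠ la → ∀ B, Commute (slot o B) K := fun o ho1 ho2 B =>
    (slot_comm ho1 _ _).mul_right (slot_comm ho2 _ _)
  have hUdim : Module.finrank F U ≤ 9 := by
    let ev : U →ₗ[F] (γ × γ → F) :=
      { toFun := fun v p => (v : (τ → γ) → F) (pt p.1 p.2)
        map_add' := fun v w => rfl
        map_smul' := fun r v => rfl }
    have hinj : Function.Injective ev := by
      rw [← LinearMap.ker_eq_bot, LinearMap.ker_eq_bot']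
      intro v hv
      refine Subtype.ext (funext fun y => ?_)
      by_cases hy : ∃ o, o ≠ ka ∧ o ≠ la ∧ y o ≠ c o
      · exact v.2 y hy
      · push Not at hy
        have hyp : pt (y ka) (y la) = y := funext fun o => by
          by_cases ho : o = la
          · subst ho; simp [pt]
          · by_cases ho' : o = ka
            · subst ho'; simp [pt, hne]
            · simp [pt, ho, ho', hy o ho' ho]
        have h1 : (v : (τ → γ) → F) (pt (y ka) (y la)) = 0 := congrFun hv (y ka, y la)
        rwa [hyp] at h1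
    have := LinearMap.finrank_le_finrank_of_injective hinj
    rwa [Module.finrank_pi, Fintype.card_prod, h3] at this
  set W : Submodule F ((τ → γ) → F) := U ⊓ LinearMap.ker ((C (e 0) (e 0)).mulVecLin - LinearMap.id) with hW
  have hmemW : ∀ v, v ∈ W ↔ v ∈ U ∧ C (e 0) (e 0) *ᵥ v = v := fun v => by
    rw [hW, Submodule.mem_inf, LinearMap.mem_ker, LinearMap.sub_apply, sub_eq_zero]
    rfl
  have hWdim : Module.finrank F W ≤ 3 := by
    let Φ : (γ → W) →ₗ[F] U :=
      { toFun := fun w => ⟨∑ a, C a (e 0) *ᵥ (w a : (τ → γ) → F), sum_mem fun a _ =>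
          hU _ (hslot a (e 0)) _ ((hmemW _).mp (w a).2).1⟩
        map_add' := fun w w' => Subtype.ext (by simp [mulVec_add, Finset.sum_add_distrib])
        map_smul' := fun r w => Subtype.ext (by simp [mulVec_smul, Finset.smul_sum]) }
    have hinj : Function.Injective Φ := by
      rw [← LinearMap.ker_eq_bot, LinearMap.ker_eq_bot']
      intro w hw
      funext b
      have h0 : ∑ a, C a (e 0) *ᵥ (w a : (τ → γ) → F) = 0 := congrArg Subtype.val hw
      have := congrArg (fun v => C (e 0) b *ᵥ v) h0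
      simp only [mulVec_sum, mulVec_mulVec, hmul, mulVec_zero] at this
      rw [Finset.sum_eq_single b (fun a _ ha => by rw [if_neg (Ne.symm ha), zero_mulVec])
        (fun h => absurd (mem_univ b) h), if_pos rfl, ((hmemW _).mp (w b).2).2] at this
      exact Subtype.ext this
    have := LinearMap.finrank_le_finrank_of_injective hinj
    rw [Module.finrank_pi_fintype, Finset.sum_const, Finset.card_univ, h3, smul_eq_mul] at this
    omega
  have hKW : ∀ v ∈ W, K.mulVecLin v ∈ W := fun v hv => by
    obtain ⟨h1, h2⟩ := (hmemW v).mp hv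
    refine (hmemW _).mpr ⟨hU K hKU v h1, ?_⟩
    show C (e 0) (e 0) *ᵥ (K *ᵥ v) = K *ᵥ v
    rw [mulVec_mulVec, ← (hK _ _).eq, ← mulVec_mulVec, h2]
  set f : W →ₗ[F] W := K.mulVecLin.restrict hKW
  set χ := f.charpoly with hχ
  have hpoly : ∀ (p : Polynomial F) (w : W),
      (Polynomial.aeval K p) *ᵥ (w : (τ → γ) → F) = ((Polynomial.aeval f p) w : W) := by
    intro p
    induction p using Polynomial.induction_on' with
    | add p q hp hq => intro w; simp [add_mulVec, hp w, hq w]
    | monomial k r =>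
      intro w
      induction k generalizing w with
      | zero => simp [Algebra.algebraMap_eq_smul_one, Matrix.smul_mulVec]
      | succ k ih =>
        rw [← Polynomial.monomial_mul_X, map_mul, map_mul, Polynomial.aeval_X, Polynomial.aeval_X, ← mulVec_mulVec,
          Module.End.mul_apply]
        exact ih (f w)
  have hkill : ∀ u ∈ U, (Polynomial.aeval K χ) *ᵥ u = 0 := by
    intro u hu
    have hcomm : ∀ a b, Commute (Polynomial.aeval K χ) (C a b) := fun a b => by
      rw [Polynomial.aeval_eq_sum_range]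
      exact Commute.sum_left _ _ _ fun i _ => ((hK a b).pow_left i).smul_left _
    rw [show u = ∑ a, C a (e 0) *ᵥ (C (e 0) a *ᵥ u) by
      simp only [mulVec_mulVec, hmul, if_true, ← sum_mulVec, hsum, one_mulVec], mulVec_sum]
    refine Finset.sum_eq_zero fun a _ => ?_
    have hw : C (e 0) a *ᵥ u ∈ W :=
      (hmemW _).mpr ⟨hU _ (hslot (e 0) a) u hu, by rw [mulVec_mulVec, hmul, if_pos rfl]⟩
    rw [mulVec_mulVec, (hcomm a (e 0)).eq, ← mulVec_mulVec, show C (e 0) a *ᵥ u = ((⟨_, hw⟩ : W) : (τ → γ) → F)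
      from rfl, hpoly, hχ, LinearMap.aeval_self_charpoly]
    simp
  have hdeg : χ.natDegree < 4 := by
    rw [hχ, LinearMap.charpoly_natDegree]; omega
  set v₀ : (τ → γ) → F := Pi.single (pt (e 0) (e 0)) 1 with hv₀
  have hv₀U : v₀ ∈ U := fun y hy => by
    obtain ⟨o, ho1, ho2, ho⟩ := hy
    rw [hv₀, Pi.single_eq_of_ne]
    exact fun h => ho (by rw [h]; simp [pt, ho1, ho2])
  have hcol : ∀ a b y, (K *ᵥ Pi.single (pt a b) 1) y =
      if ∀ o, o ≠ ka → o ≠ la → y o = c o then A (y ka) a * A (y la) b else 0 := fun a b y => by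
    rw [mulVec_single_one', hKdef]
    show (slot ka A * slot la A) y (pt a b) = _
    rw [slot_pair hne]
    have h1 : pt a b ka = a := by simp [pt, hne]
    have h2 : pt a b la = b := by simp [pt]
    rw [h1, h2]
    refine if_congr ⟨fun h o ho ho' => ?_, fun h o ho ho' => ?_⟩ rfl rfl
    · rw [h o ho ho']; simp [pt, ho, ho']
    · rw [h o ho ho']; simp [pt, ho, ho']
  have hstep : ∀ a b a' b' : γ, (∀ r, A r a = if r = a' then 1 else 0) → (∀ r, A r b = if r = b' then 1 else 0) →
      K *ᵥ Pi.single (pt a b) 1 = Pi.single (pt a' b') 1 := fun a b a' b' ha hb => by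
    funext y
    rw [hcol, ha, hb, Pi.single_apply]
    by_cases hy : y = pt a' b'
    · subst hy
      rw [if_pos rfl, if_pos fun o ho ho' => by simp [pt, ho, ho']]
      simp [pt, hne]
    · rw [if_neg hy]
      split_ifs with h h1 h2 <;> simp
      refine hy (funext fun o => ?_)
      by_cases ho : o = la
      · subst ho; simp [pt, h2]
      · by_cases ho' : o = ka
        · subst ho'; simp [pt, hne, h1]
        · simp [pt, ho, ho', h o ho' ho]
  have hK1 : K *ᵥ v₀ = Pi.single (pt (e 1) (e 1)) 1 := hstep _ _ _ _ hA0 hA0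
  have hK2 : (K ^ 2) *ᵥ v₀ = Pi.single (pt (e 2) (e 2)) 1 := by
    rw [pow_two, ← mulVec_mulVec, hK1]; exact hstep _ _ _ _ hA1 hA1
  have hK3 : (K ^ 3) *ᵥ v₀ = K *ᵥ Pi.single (pt (e 2) (e 2)) 1 := by rw [pow_succ', ← mulVec_mulVec, hK2]
  have hrel : ∀ y, χ.coeff 0 * v₀ y + χ.coeff 1 * (K *ᵥ v₀) y + χ.coeff 2 * ((K ^ 2) *ᵥ v₀) y +
      χ.coeff 3 * ((K ^ 3) *ᵥ v₀) y = 0 := fun y => by
    have := congrFun (hkill v₀ hv₀U) y
    rw [Polynomial.aeval_eq_sum_range' hdeg] at this
    simpa [Finset.sum_range_succ, add_mulVec, Matrix.smul_mulVec] using this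
  have hpt : ∀ a b a' b' : γ, (Pi.single (pt a b) (1 : F) : (τ → γ) → F) (pt a' b') =
      if a' = a ∧ b' = b then 1 else 0 := fun a b a' b' => by
    rw [Pi.single_apply]
    refine if_congr ⟨fun h => ⟨?_, ?_⟩, fun h => by rw [h.1, h.2]⟩ rfl rfl
    · have := congrFun h ka; simpa [pt, hne] using this
    · have := congrFun h la; simpa [pt] using this
  have h3v : ∀ a' b' : γ, (K *ᵥ Pi.single (pt (e 2) (e 2)) 1) (pt a' b') =
      (if a' = e 0 ∨ a' = e 1 then 1 else 0) * (if b' = e 0 ∨ b' = e 1 then 1 else 0) := fun a' b' => by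
    rw [hcol, if_pos fun o ho ho' => by simp [pt, ho, ho'], hA2, hA2]
    simp [pt, hne]
  simp only [hK3, hK2, hK1] at hrel
  simp only [hv₀] at hrel
  have e01 : e 0 ≠ e 1 := fun h => absurd (e.injective h) (by decide)
  have e02 : e 0 ≠ e 2 := fun h => absurd (e.injective h) (by decide)
  have e12 : e 1 ≠ e 2 := fun h => absurd (e.injective h) (by decide)
  have c3 : χ.coeff 3 = 0 := by
    have h := hrel (pt (e 0) (e 1))
    simp only [hpt, h3v, e01, e01.symm, e02, e02.symm, e12, e12.symm, and_false, false_and, and_self, true_or, or_true,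
      false_or, or_false, if_true, if_false, mul_zero, mul_one, zero_add, add_zero] at h
    exact h
  have c2 : χ.coeff 2 = 0 := by
    have h := hrel (pt (e 2) (e 2))
    simp only [hpt, h3v, e01, e01.symm, e02, e02.symm, e12, e12.symm, and_false, false_and, and_self, true_or, or_true,
      false_or, or_false, if_true, if_false, mul_zero, mul_one, zero_add, add_zero] at h
    exact h
  have c1 : χ.coeff 1 = 0 := by
    have h := hrel (pt (e 1) (e 1))
    simp only [hpt, h3v, e01, e01.symm, e02, e02.symm, e12, e12.symm, c3, and_false, false_and, and_self, true_or, or_true,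
      false_or, or_false, if_true, if_false, mul_zero, mul_one, zero_mul, zero_add, add_zero] at h
    exact h
  have c0 : χ.coeff 0 = 0 := by
    have h := hrel (pt (e 0) (e 0))
    simp only [hpt, h3v, e01, e01.symm, e02, e02.symm, e12, e12.symm, c3, and_false, false_and, and_self, true_or, or_true,
      false_or, or_false, if_true, if_false, mul_zero, mul_one, zero_mul, zero_add, add_zero] at h
    exact h
  have hm : χ.Monic := f.charpoly_monic
  refine hm.ne_zero (Polynomial.ext fun i => ?_)
  rw [Polynomial.coeff_zero]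
  by_cases hi : i < 4
  · interval_cases i
    · exact c0
    · exact c1
    · exact c2
    · exact c3
  · exact Polynomial.coeff_eq_zero_of_natDegree_lt (by omega)

variable [Fintype F] {X : Subgroup (GL (τ → γ) F)}

/-- A root of slot `j` fixing a frame has slot `j` in the frame. -/
theorem member [Nontrivial γ] [Nonempty τ] (hX : Good X) (h3 : Fintype.card γ = 3) (hF : Fintype.card F = 2)
    {g : GL (τ → γ) F} (hg : g ∈ X) {j : τ} {e φ : γ → F} (he : e ≠ 0) (hφ : φ ≠ 0) (hφe : φ ⬝ᵥ e = 0)
    {k : GL (τ → γ) F} (hk : (k : Matrix (τ → γ) (τ → γ) F) = slot j (1 + vecMulVec e φ))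
    (hperm : g⁻¹ * k * g ∈ permuting τ γ F) : ∃ i, Eqj g i j := by
  classical
  have h2 := two_zero hF
  have hone := eq_one_of_two hF
  by_contra hno
  push Not at hno
  set N : Matrix (τ → γ) (τ → γ) F := slot j (vecMulVec e φ) with hN
  have hk' : (k : Matrix (τ → γ) (τ → γ) F) = 1 + N := by rw [hk, slot_add, slot_one]
  have hkk : k * k = 1 := Units.ext (by
    rw [Units.val_mul, hk', add_mul, one_mul, mul_add, mul_one, hN, ← slot_mul, vecMulVec_mul_vecMulVec, hφe,
      zero_smul, vecMulVec_zero, slot_zero, add_zero, add_assoc, ← two_smul F, h2, zero_smul, add_zero, Units.val_one])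
  obtain ⟨σ, f, hh⟩ := decomp hperm
  have hh2 : permGL σ * tensGL f * (permGL σ * tensGL f) = 1 := by
    rw [← hh]
    calc g⁻¹ * k * g * (g⁻¹ * k * g) = g⁻¹ * (k * k) * g := by group
      _ = 1 := by rw [hkk]; group
  have hEq : ∀ o, Eqj (g⁻¹ * k * g) o (σ o) := fun o => by
    rw [hh]
    exact Eqj.trans (show Eqj (tensGL f) o o from fun A => ⟨_, tensGL_slot f o A⟩)
      (fun A => ⟨A, perm_conj σ o A⟩)
  have hσσ : ∀ o, σ (σ o) = o := fun o => by
    have h := (hEq o).trans (hEq (σ o))
    rw [show g⁻¹ * k * g * (g⁻¹ * k * g) = 1 by rw [hh]; exact hh2] at h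
    exact (eqj_one h).symm
  by_cases hσ : ∀ o, σ o = o
  · obtain ⟨o, ho⟩ := exists_not_comm g⁻¹ j
    have hoo : Eqj (g⁻¹ * k * g) o o := by have := hEq o; rwa [hσ o] at this
    rcases hX.root_cases hg he hφ hφe hk (kron_of_normal hoo) with h | h
    · exact hno o h
    · refine ho fun A B => ?_
      have := commute_conjM g⁻¹ (h B A)
      rw [conjM_inv_conjM] at this
      exact this.symm
  push Not at hσ
  obtain ⟨ka, hka⟩ := hσ
  set la := σ ka with hla
  have hne : ka ≠ la := Ne.symm hka
  have hσla : σ la = ka := hσσ ka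
  have hw : ∀ o, (f (σ o) : Matrix γ γ F) * (f o : Matrix γ γ F) = 1 := by
    intro o
    have hσs : σ * σ = 1 := Equiv.ext fun x => by simp [hσσ]
    have : tensGL (fun o => f (σ o) * f o) = 1 := by
      rw [← hh2, show (fun o => f (σ o) * f o) = (fun o => f (σ o)) * f from rfl, map_mul]
      rw [← mul_assoc, mul_assoc (permGL σ) (tensGL f) (permGL σ), tensGL_perm, ← mul_assoc]
      have hp : (permGL σ : GL (τ → γ) F) * permGL σ = 1 :=
        Units.ext (by rw [Units.val_mul, permGL_val, perm_mul, hσs, perm_one, Units.val_one])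
      rw [hp, one_mul]
    exact tens_eq_one hone (w := fun o => (f (σ o) : Matrix γ γ F) * (f o : Matrix γ γ F))
      (congrArg Units.val this) o
  -- gauge
  set b₀ : SpecialLinearGroup γ F :=
    ⟨(f ka : Matrix γ γ F), hone _ ((Matrix.isUnit_iff_isUnit_det _).mp (f ka).isUnit).ne_zero⟩
  set d := slotGL la b₀ with hd
  set g' := g * d with hg'
  have hg'X : g' ∈ X := mul_mem hg (hX.slotGL_mem la b₀)
  have hno' : ∀ o, ¬ Eqj g' o j := fun o h => hno o (by
    have := (slotGL_normal la o b₀).inv.trans h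
    rwa [hg', mul_inv_cancel_right] at this)
  set μ : τ → GL γ F := Pi.mulSingle la (SpecialLinearGroup.toGL b₀) with hμ
  set f' : τ → GL γ F := fun o => (μ (σ o))⁻¹ * f o * μ o with hf'
  have hh' : g'⁻¹ * k * g' = permGL σ * tensGL f' := by
    calc g'⁻¹ * k * g' = d⁻¹ * (g⁻¹ * k * g) * d := by rw [hg']; group
      _ = tensGL μ⁻¹ * permGL σ * tensGL f * tensGL μ := by
        rw [hh, hd, slotGL_eq_tensGL, ← map_inv, ← mul_assoc]
      _ = permGL σ * tensGL f' := by
        rw [tensGL_perm, mul_assoc, mul_assoc, ← map_mul, ← map_mul]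
        refine congrArg (fun t => permGL σ * tensGL t) (funext fun o => ?_)
        simp only [Pi.mul_apply, Pi.inv_apply, hf', mul_assoc]
  have hbGL : SpecialLinearGroup.toGL b₀ = f ka := Units.ext rfl
  have hf'ka : f' ka = 1 := by
    simp [hf', hμ, ← hla, hne, hbGL]
  have hf'la : f' la = 1 := by
    have h := hw ka
    simp [hf', hμ, hσla, hne, hbGL]
    exact Units.ext h
  set G : Matrix (τ → γ) (τ → γ) F := ((g'⁻¹ * k * g' : GL (τ → γ) F) : Matrix (τ → γ) (τ → γ) F) with hG
  have hGapp : ∀ z x, G z x = ∏ o, (f' o : Matrix γ γ F) (z (σ o)) (x o) := fun z x => by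
    rw [hG, hh', Units.val_mul, permGL_val, tensGL_val, perm_mul_apply, tens_apply]
    rfl
  have hconjN : G - 1 = conjM g'⁻¹ N := by
    have : G = conjM g'⁻¹ (k : Matrix (τ → γ) (τ → γ) F) := by rw [conjM_apply, inv_inv]; rfl
    rw [this, hk', map_add, conjM_one, add_sub_cancel_left]
  have hrank : (G - 1).rank ≤ Fintype.card (Rest ka → γ) := by
    rw [hconjN, conjM_apply, Matrix.rank_mul_eq_left_of_isUnit_det _ _ ((Matrix.isUnit_iff_isUnit_det _).mp (Units.isUnit _)),
      Matrix.rank_mul_eq_right_of_isUnit_det _ _ ((Matrix.isUnit_iff_isUnit_det _).mp (Units.isUnit _)),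
      card_rest ka j, hN, slot_eq]
    show (Matrix.reindex (slotE j).symm (slotE j).symm _).rank ≤ _
    rw [Matrix.rank_reindex]
    exact TensorMax.rank_rootMat_le e φ
  obtain ⟨en⟩ : Nonempty (Fin 3 ≃ γ) := ⟨(Fintype.equivFinOfCardEq h3).symm⟩
  let ν : γ → γ := fun a => en (en.symm a + 1)
  have hν1 : ∀ a, ν a ≠ a := fun a h => by
    have := congrArg en.symm h
    simp [ν] at this
  have hν2 : ∀ a, ν (ν a) ≠ a := fun a h => by
    have := congrArg en.symm h
    simp only [ν, Equiv.symm_apply_apply] at this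
    revert this
    generalize en.symm a = i
    revert i
    decide
  have hcol0 : ∀ z x, G z x ≠ 0 → z la = x ka ∧ z ka = x la := by
    intro z x hne0
    rw [hGapp, Finset.prod_ne_zero_iff] at hne0
    refine ⟨?_, ?_⟩
    · have := hne0 ka (mem_univ _)
      rw [hf'ka, ← hla, Units.val_one, Matrix.one_apply] at this
      by_contra h
      exact this (if_neg h)
    · have := hne0 la (mem_univ _)
      rw [hf'la, hσla, Units.val_one, Matrix.one_apply] at this
      by_contra h
      exact this (if_neg h)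
  have hfix : ∀ x : τ → γ, x ka = x la → ∀ z, G z x = if z = x then 1 else 0 := by
    intro x₀ hx₀ z₀
    by_contra hz₀
    let xc : (Rest ka → γ) → τ → γ := fun v o => if h : o = ka then ν (v ⟨la, hne.symm⟩) else v ⟨o, h⟩
    have hxc : ∀ v, xc v ka = ν (xc v la) := fun v => by simp [xc, hne.symm]
    have hxi : Function.Injective xc := fun v v' h => funext fun o => by
      have := congrFun h o
      simpa [xc, o.2] using this
    let L : ((Rest ka → γ) → F) × F →ₗ[F] ((τ → γ) → F) :=
      (∑ v, (LinearMap.proj v ∘ₗ LinearMap.fst F _ _).smulRight ((G - 1) *ᵥ Pi.single (xc v) 1)) +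
        (LinearMap.snd F _ _).smulRight ((G - 1) *ᵥ Pi.single x₀ 1)
    have hL : ∀ (cf : (Rest ka → γ) → F) s, L (cf, s) =
        ∑ v, cf v • ((G - 1) *ᵥ Pi.single (xc v) 1) + s • ((G - 1) *ᵥ Pi.single x₀ 1) := fun cf s => by
      simp [L, LinearMap.sum_apply]
    have hinj : Function.Injective L := by
      rw [← LinearMap.ker_eq_bot, LinearMap.ker_eq_bot']
      rintro ⟨cf, s⟩ h0
      rw [hL] at h0
      have hcf : cf = 0 := funext fun v' => by
        have h1 := congrFun h0 (xc v')
        have ea : ∀ v, ((G - 1) *ᵥ Pi.single (xc v) 1) (xc v') = if v' = v then -1 else 0 := fun v => by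
          rw [mulVec_single_one']
          show (G - 1) (xc v') (xc v) = _
          have hz : G (xc v') (xc v) = 0 := by
            by_contra h
            obtain ⟨e1, e2⟩ := hcol0 _ _ h
            exact hν2 (xc v la) (by rw [← hxc v, ← e1, ← hxc v', e2])
          rw [Matrix.sub_apply, hz, Matrix.one_apply, zero_sub]
          by_cases hv : v' = v
          · rw [if_pos hv, if_pos (by rw [hv])]
          · rw [if_neg hv, if_neg (fun h => hv (hxi h)), neg_zero]
        have eb : ((G - 1) *ᵥ Pi.single x₀ 1) (xc v') = 0 := by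
          rw [mulVec_single_one']
          show (G - 1) (xc v') x₀ = _
          have hz : G (xc v') x₀ = 0 := by
            by_contra h
            obtain ⟨e1, e2⟩ := hcol0 _ _ h
            exact hν1 (xc v' la) (by rw [← hxc v', e2, e1, hx₀])
          rw [Matrix.sub_apply, hz, Matrix.one_apply, if_neg, sub_zero]
          intro h
          exact hν1 (xc v' la) (by rw [← hxc v', h, hx₀])
        rw [Pi.add_apply, Finset.sum_apply, Pi.smul_apply, eb, smul_zero, add_zero] at h1
        simp only [Pi.smul_apply, ea, smul_eq_mul, mul_ite, mul_zero, Finset.sum_ite_eq, mem_univ, if_true, mul_neg,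
          mul_one, Pi.zero_apply, neg_eq_zero] at h1
        exact h1
      subst hcf
      refine Prod.ext rfl ?_
      by_contra hs
      simp only [Pi.zero_apply, zero_smul, Finset.sum_const_zero, zero_add] at h0
      have h1 := congrFun ((smul_eq_zero.mp h0).resolve_left hs) z₀
      rw [mulVec_single_one'] at h1
      exact hz₀ (by rw [← sub_eq_zero]; simpa [Matrix.one_apply] using h1)
    have hr : LinearMap.range L ≤ LinearMap.range (G - 1).mulVecLin := by
      rintro _ ⟨⟨cf, s⟩, rfl⟩
      rw [hL]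
      exact add_mem (sum_mem fun v _ => Submodule.smul_mem _ _ ⟨_, rfl⟩) (Submodule.smul_mem _ _ ⟨_, rfl⟩)
    have h1 := Submodule.finrank_mono hr
    rw [LinearMap.finrank_range_of_inj hinj, Module.finrank_prod, Module.finrank_pi, Module.finrank_self] at h1
    exact absurd (h1.trans hrank) (by omega)
  have hrest : ∀ o, o ≠ ka → o ≠ la → σ o = o ∧ f' o = 1 := by
    intro o ho1 ho2
    have hs1 : σ o ≠ ka := fun h => ho2 (by rw [← hσσ o, h])
    have hs2 : σ o ≠ la := fun h => ho1 (by rw [← hσσ o, h, hσla])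
    have key : ∀ (x : τ → γ), x ka = x la → ∀ a, (f' o : Matrix γ γ F) a (x o) = if a = x (σ o) then 1 else 0 := by
      intro x hx a
      have hxx := hfix x hx x
      have hzx := hfix x hx (Function.update x (σ o) a)
      rw [hGapp, if_pos rfl, ← Finset.mul_prod_erase _ _ (mem_univ o)] at hxx
      rw [hGapp, ← Finset.mul_prod_erase _ _ (mem_univ o), Function.update_self] at hzx
      have hP : ∏ p ∈ univ.erase o, (f' p : Matrix γ γ F) (Function.update x (σ o) a (σ p)) (x p) =
          ∏ p ∈ univ.erase o, (f' p : Matrix γ γ F) (x (σ p)) (x p) :=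
        Finset.prod_congr rfl fun p hp => by
          rw [Function.update_of_ne fun h => Finset.ne_of_mem_erase hp (σ.injective h)]
      rw [hP] at hzx
      have hP1 : ∏ p ∈ univ.erase o, (f' p : Matrix γ γ F) (x (σ p)) (x p) = 1 :=
        hone _ fun h => by rw [h, mul_zero] at hxx; exact zero_ne_one hxx
      rw [hP1, mul_one] at hzx
      rw [hzx]
      refine if_congr ⟨fun h => ?_, fun h => by rw [h, Function.update_eq_self]⟩ rfl rfl
      have := congrFun h (σ o)
      rwa [Function.update_self] at this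
    obtain ⟨p, q, hpq⟩ := exists_pair_ne γ
    have hσo : σ o = o := by
      by_contra hmove
      have h1 := key (fun _ => p) rfl p
      have h2 := key (Function.update (fun _ => p) (σ o) q) (by simp [hs1.symm, hs2.symm]) p
      rw [Function.update_of_ne (Ne.symm hmove), Function.update_self, if_neg hpq, h1, if_pos rfl] at h2
      exact one_ne_zero h2
    refine ⟨hσo, Units.ext (Matrix.ext fun a b => ?_)⟩
    have := key (fun _ => b) rfl a
    rw [this, Units.val_one, Matrix.one_apply]
  have hf'1 : f' = 1 := funext fun o => by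
    by_cases h1 : o = ka
    · subst h1; exact hf'ka
    · by_cases h2 : o = la
      · subst h2; exact hf'la
      · exact (hrest o h1 h2).2
  have hP : g'⁻¹ * k * g' = permGL σ := by rw [hh', hf'1, map_one, mul_one]
  have hcommO : ∀ o, o ≠ ka → o ≠ la → Comm g' o j := fun o ho1 ho2 => by
    have hoo : Eqj (g'⁻¹ * k * g') o o := by
      rw [hP]
      exact fun A => ⟨A, by rw [perm_conj, (hrest o ho1 ho2).1]⟩
    exact (hX.root_cases hg'X he hφ hφe hk (kron_of_normal hoo)).resolve_left (hno' o)
  -- the diagonal of the pair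
  let ρ₀ : SpecialLinearGroup γ F →* GL (τ → γ) F :=
    MonoidHom.mk' (fun b => slotGL ka b * slotGL la b) fun b b' => by
      rw [map_mul, map_mul]
      have hc : slotGL ka b' * slotGL la b = slotGL la b * slotGL ka b' :=
        Units.ext (slot_comm hne _ _).eq
      simp only [mul_assoc]
      rw [← mul_assoc (slotGL ka b') (slotGL la b), hc]
      simp only [mul_assoc]
  let ρ := (MulAut.conj g').toMonoidHom.comp ρ₀
  have hρv : ∀ b : SpecialLinearGroup γ F, ((ρ b : GL (τ → γ) F) : Matrix (τ → γ) (τ → γ) F) =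
      conjM g' (slot ka (b : Matrix γ γ F) * slot la (b : Matrix γ γ F)) := fun b => rfl
  have hproj := hX.proj ρ (fun b => mul_mem (mul_mem hg'X (mul_mem (hX.slotGL_mem ka b) (hX.slotGL_mem la b)))
    (inv_mem hg'X)) he hφ (fun b => by
      rw [hρv, ← hN]
      have hc : Commute (slot ka (b : Matrix γ γ F) * slot la (b : Matrix γ γ F)) (conjM g'⁻¹ N) := by
        rw [← hconjN, hG, hP, permGL_val]
        refine Commute.sub_right ?_ (Commute.one_right _)
        show _ * perm σ = perm σ * _
        rw [← mul_assoc, perm_slot, mul_assoc (slot (σ ka) _), perm_slot, ← hla, hσla, ← mul_assoc,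
          (slot_comm hne.symm _ _).eq]
      have := commute_conjM g' hc
      rwa [conjM_conjM_inv] at this)
  obtain ⟨A, hA0, hA1, hA2⟩ : ∃ A : Matrix γ γ F, (∀ r, A r (en 0) = if r = en 1 then 1 else 0) ∧
      (∀ r, A r (en 1) = if r = en 2 then 1 else 0) ∧
      (∀ r, A r (en 2) = if r = en 0 ∨ r = en 1 then 1 else 0) :=
    ⟨Matrix.of fun r s => if s = en 0 then (if r = en 1 then 1 else 0) else
      if s = en 1 then (if r = en 2 then 1 else 0) else (if r = en 0 ∨ r = en 1 then 1 else 0),
      fun r => by simp, fun r => by simp, fun r => by simp⟩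
  have hdetA : A.det = 1 := by
    rw [← Matrix.det_submatrix_equiv_self en A, Matrix.det_fin_three]
    simp [hA0, hA1, hA2]
  refine no_matrix_units h3 hne en hA0 hA1 hA2 (fun a b => conjM g'⁻¹ (slot j (Matrix.single a b (1 : F)))) ?_ ?_ ?_ ?_
  · intro a b b' c
    rw [← conjM_mul, ← slot_mul]
    by_cases h : b = b'
    · rw [if_pos h, h, Matrix.single_mul_single_same, mul_one]
    · rw [if_neg h, Matrix.single_mul_single_of_ne _ _ _ _ h, slot_zero, map_zero]
  · rw [← map_sum, ← slot_sum, Matrix.sum_single_eq_diagonal, Matrix.diagonal_one, slot_one, conjM_one]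
  · intro a b o ho1 ho2 B
    exact commute_conjM_left (hcommO o ho1 ho2 B _)
  · intro a b
    exact commute_conjM_left ((hρv ⟨A, hdetA⟩) ▸ hproj ⟨A, hdetA⟩ _)

/-- The cosets of the group permuting the slots. -/
abbrev Frames [Nontrivial γ] (X : Subgroup (GL (τ → γ) F)) : Type u := X ⧸ (permuting τ γ F).subgroupOf X

/-- A representative. -/
noncomputable def frep [Nontrivial γ] (ω : Frames X) : GL (τ → γ) F := ((ω.out : X) : GL (τ → γ) F)

theorem frep_smul [Nontrivial γ] (x : X) (ω : Frames X) :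
    ∃ k ∈ permuting τ γ F, frep (x • ω) = (x : GL (τ → γ) F) * frep ω * k := by
  obtain ⟨h, hh⟩ := QuotientGroup.mk_out_eq_mul ((permuting τ γ F).subgroupOf X) (x * ω.out)
  refine ⟨((h : X) : GL (τ → γ) F), h.2, ?_⟩
  rw [show (x • ω : Frames X) = QuotientGroup.mk (x * ω.out) by
    conv_lhs => rw [← QuotientGroup.out_eq' ω]
    rfl, frep, hh]
  rfl

theorem inv_permuting [Nontrivial γ] [Nonempty τ] (h3 : Fintype.card γ = 3) (hF : Fintype.card F = 2)
    {g : GL (τ → γ) F} (hg : g ∈ permuting τ γ F) : Inv (g : Matrix (τ → γ) (τ → γ) F) := by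
  obtain ⟨σ, b, rfl⟩ := decomp hg
  rw [Units.val_mul, permGL_val, tensGL_val]
  exact inv_mul (inv_perm σ) (inv_tens h3 (two_zero hF) (eq_one_of_two hF) _
    fun l => ((Matrix.isUnit_iff_isUnit_det _).mp (b l).isUnit).ne_zero)

/-- The value on a triple of basis vectors at a frame. -/
noncomputable def fval (x y z : τ → γ) (g : GL (τ → γ) F) : F :=
  comp3 omTri ((g⁻¹ : GL (τ → γ) F) : Matrix (τ → γ) (τ → γ) F) (Pi.single x 1) (Pi.single y 1) (Pi.single z 1)

theorem frame_class_zero [Nontrivial γ] [Nonempty τ] (hX : Good X) (h3 : Fintype.card γ = 3) (hF : Fintype.card F = 2)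
    (j : τ) (s : Finset τ) (x y z : τ → γ) [Fintype (Frames X)]
    [DecidablePred fun ω : Frames X => (∀ i, ¬ Eqj (frep ω) i j) ∧ ∀ l ∈ s, ∃ i, Eqj (frep ω) i l] {V : Type u}
    [AddCommGroup V] [Fintype V] (ρ : Multiplicative V →* SpecialLinearGroup γ F)
    (hρ : ∀ c, c ≠ 1 → ∃ e φ : γ → F, e ≠ 0 ∧ φ ≠ 0 ∧ φ ⬝ᵥ e = 0 ∧
      (ρ c : Matrix γ γ F) = 1 + vecMulVec e φ)
    (horb : ∀ L : ((τ → γ) → F) →ₗ[F] ((τ → γ) → F) →ₗ[F] ((τ → γ) → F) →ₗ[F] F,
      ∑ c : V, L (slot j (ρ (Multiplicative.ofAdd c)⁻¹ : Matrix γ γ F) *ᵥ Pi.single x 1)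
        (slot j (ρ (Multiplicative.ofAdd c)⁻¹ : Matrix γ γ F) *ᵥ Pi.single y 1)
        (slot j (ρ (Multiplicative.ofAdd c)⁻¹ : Matrix γ γ F) *ᵥ Pi.single z 1) = 0) :
    ∑ ω ∈ Finset.univ.filter (fun ω : Frames X => (∀ i, ¬ Eqj (frep ω) i j) ∧ ∀ l ∈ s, ∃ i, Eqj (frep ω) i l),
      fval x y z (frep ω) = 0 := by
  classical
  let ρX : Multiplicative V →* X := ((slotGL j).comp ρ).codRestrict X fun c => hX.slotGL_mem j _
  letI : MulAction (Multiplicative V) (Frames X) := MulAction.compHom _ ρX
  have hrep : ∀ (c : Multiplicative V) (ω : Frames X), ∃ k ∈ permuting τ γ F,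
      frep (c • ω) = slotGL j (ρ c) * frep ω * k := fun c ω => frep_smul (ρX c) ω
  refine TensorOrth.sum_zero_of_free (R := Multiplicative V) (fun ω => fval x y z (frep ω)) _ ?_ ?_ ?_
  · intro c ω hω
    rw [Finset.mem_filter] at hω ⊢
    obtain ⟨k, hk, ek⟩ := hrep c ω
    obtain ⟨h1, h2⟩ := hω.2
    refine ⟨Finset.mem_univ _, fun i hi => ?_, fun l hl => ?_⟩
    · obtain ⟨i', hi'⟩ := hk i
      have h4 := (hi'.inv.trans hi).trans (slotGL_normal j j (ρ c)).inv
      rw [ek] at h4
      refine h1 i' ?_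
      simpa [mul_assoc] using h4
    · obtain ⟨i, hi⟩ := h2 l hl
      obtain ⟨i', hi'⟩ := (permuting τ γ F).inv_mem hk i
      refine ⟨i', ?_⟩
      rw [ek]
      have hk' : Eqj k i' i := by simpa using hi'.inv
      exact hk'.trans (hi.trans (slotGL_normal j l (ρ c)))
  · intro c ω hω hfix
    by_contra hc
    obtain ⟨k, hk, ek⟩ := hrep c ω
    rw [hfix] at ek
    obtain ⟨e, φ, he, hφ, hφe, hv⟩ := hρ c hc
    have hn : (frep ω)⁻¹ * slotGL j (ρ c) * frep ω ∈ permuting τ γ F := by
      have e2 : (frep ω)⁻¹ * slotGL j (ρ c) * frep ω = k⁻¹ := by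
        calc (frep ω)⁻¹ * slotGL j (ρ c) * frep ω
            = (frep ω)⁻¹ * (slotGL j (ρ c) * frep ω * k) * k⁻¹ := by group
          _ = k⁻¹ := by rw [← ek, inv_mul_cancel, one_mul]
      rw [e2]
      exact inv_mem hk
    obtain ⟨i, hi⟩ := member hX h3 hF (ω.out : X).2 he hφ hφe (by rw [slotGL_val, hv]) hn
    exact (Finset.mem_filter.mp hω).2.1 i hi
  · intro ω hω
    rw [← Multiplicative.ofAdd.sum_comp]
    refine (Finset.sum_congr rfl fun c _ => ?_).trans
      (horb (comp3 omTri (((frep ω)⁻¹ : GL (τ → γ) F) : Matrix (τ → γ) (τ → γ) F)))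
    obtain ⟨k, hk, ek⟩ := hrep (Multiplicative.ofAdd c) ω
    simp only [fval, ek, _root_.mul_inv_rev, Units.val_mul, comp3_mul]
    rw [show comp3 omTri ((k⁻¹ : GL (τ → γ) F) : Matrix (τ → γ) (τ → γ) F) = omTri from
      inv_permuting h3 hF (inv_mem hk)]
    simp only [comp3_apply, ← map_inv, slotGL_val]

variable (F) in
/-- Roots with a fixed functional. -/
def rootHomR {V : Type*} [AddCommGroup V] (φ : γ → F) (e : V →+ (γ → F)) (he : ∀ v, φ ⬝ᵥ e v = 0) :
    Multiplicative V →* SpecialLinearGroup γ F where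
  toFun v := ⟨1 + vecMulVec (e v.toAdd) φ, by rw [LinOne.det_one', he, add_zero]⟩
  map_one' := Subtype.ext (by
    show 1 + vecMulVec (e (0 : V)) φ = 1
    rw [map_zero, zero_vecMulVec, add_zero])
  map_mul' v w := Subtype.ext (by
    show 1 + vecMulVec (e (v.toAdd + w.toAdd)) φ = (1 + vecMulVec (e v.toAdd) φ) * (1 + vecMulVec (e w.toAdd) φ)
    rw [map_add, add_vecMulVec, add_mul, one_mul, mul_add, mul_one, vecMulVec_mul_vecMulVec, he, zero_smul,
      vecMulVec_zero]
    abel)

/-- The invariant is fixed by the group. -/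
theorem omega_inv [Nontrivial γ] [Nonempty τ] (hX : Good X) (h3 : Fintype.card γ = 3) (hF : Fintype.card F = 2)
    {g : GL (τ → γ) F} (hg : g ∈ X) : Inv (g : Matrix (τ → γ) (τ → γ) F) := by
  classical
  letI : Fintype (Frames X) := Fintype.ofFinite _
  set S : ((τ → γ) → F) →ₗ[F] ((τ → γ) → F) →ₗ[F] ((τ → γ) → F) →ₗ[F] F :=
    ∑ ω : Frames X, comp3 omTri (((frep ω)⁻¹ : GL (τ → γ) F) : Matrix (τ → γ) (τ → γ) F) with hS
  have hSinv : comp3 S (g : Matrix (τ → γ) (τ → γ) F) = S := by
    refine LinearMap.ext fun v => LinearMap.ext fun w => LinearMap.ext fun z => ?_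
    simp only [comp3_apply, hS, LinearMap.sum_apply]
    refine (Equiv.sum_comp (MulAction.toPerm (⟨g, hg⟩ : X) : Equiv.Perm (Frames X)) _).symm.trans ?_
    refine Finset.sum_congr rfl fun ω _ => ?_
    obtain ⟨k, hk, ek⟩ := frep_smul (⟨g, hg⟩ : X) ω
    have hkinv : comp3 omTri ((k⁻¹ : GL (τ → γ) F) : Matrix (τ → γ) (τ → γ) F) = omTri :=
      inv_permuting h3 hF (inv_mem hk)
    have e : comp3 (comp3 omTri (((g * frep ω * k)⁻¹ : GL (τ → γ) F) : Matrix (τ → γ) (τ → γ) F))
        (g : Matrix (τ → γ) (τ → γ) F) = comp3 omTri (((frep ω)⁻¹ : GL (τ → γ) F) : Matrix (τ → γ) (τ → γ) F) := by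
      rw [← comp3_mul, ← Units.val_mul, show (g * frep ω * k)⁻¹ * g = k⁻¹ * (frep ω)⁻¹ by group, Units.val_mul,
        comp3_mul, hkinv]
    rw [MulAction.toPerm_apply, ek]
    exact DFunLike.congr_fun (DFunLike.congr_fun (DFunLike.congr_fun e v) w) z
  have hkey : ∀ (x y z : τ → γ) (j : τ) (s : Finset τ), ∑ ω ∈ Finset.univ.filter
      (fun ω : Frames X => (∀ i, ¬ Eqj (frep ω) i j) ∧ ∀ l ∈ s, ∃ i, Eqj (frep ω) i l),
      fval x y z (frep ω) = 0 := by
    intro x y z j s
    by_cases hrep : ∃ q, x j ≠ q ∧ y j ≠ q ∧ z j ≠ q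
    · obtain ⟨q, hqx, hqy, hqz⟩ := hrep
      obtain ⟨p, hpq⟩ := exists_ne q
      let φ : F →+ (γ → F) := AddMonoidHom.mk' (fun c => Pi.single q c) fun a b => by rw [Pi.single_add]
      have hφ : ∀ c, φ c ⬝ᵥ Pi.single p 1 = 0 := fun c => by
        simp [φ, dotProduct_single, Pi.single_eq_of_ne hpq]
      refine frame_class_zero hX h3 hF j s x y z (rootHom F (Pi.single p (1 : F)) φ hφ)
        (fun c hc => ⟨Pi.single p 1, φ c.toAdd, by simp, ?_, hφ _, rfl⟩) fun L => ?_
      · intro h0
        refine hc (Multiplicative.toAdd.injective ?_)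
        simpa [φ] using h0
      · have hfixv : ∀ (c : F) (w : τ → γ), w j ≠ q →
            (slot j (rootHom F (Pi.single p (1 : F)) φ hφ (Multiplicative.ofAdd c)⁻¹ : Matrix γ γ F)) *ᵥ
              (Pi.single w 1 : (τ → γ) → F) = Pi.single w 1 := fun c w hw => by
          rw [show (Multiplicative.ofAdd c)⁻¹ = Multiplicative.ofAdd (-c) from rfl, rootHom_val, slot_add, slot_one,
            add_mulVec, one_mulVec, mulVec_single_one', add_eq_left]
          funext a
          show slot j _ a w = 0
          rw [slot_eq, toBig_apply, kroneckerMap_apply, vecMulVec_apply,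
            show φ (-c) (w j) = 0 from Pi.single_eq_of_ne hw _, mul_zero, mul_zero]
        simp only [hfixv _ x hqx, hfixv _ y hqy, hfixv _ z hqz, Finset.sum_const, Finset.card_univ, nsmul_eq_mul,
          FiniteField.cast_card_eq_zero, zero_mul]
    · push Not at hrep
      have hd : x j ≠ y j ∧ x j ≠ z j ∧ y j ≠ z j := by
        refine ⟨fun h => ?_, fun h => ?_, fun h => ?_⟩
        · obtain ⟨q, hq1, hq2⟩ := exists_third (by omega) (x j) (z j)
          exact hq2 (hrep q hq1.symm (h ▸ hq1.symm)).symm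
        · obtain ⟨q, hq1, hq2⟩ := exists_third (by omega) (x j) (y j)
          exact hq1 (h.trans (hrep q hq1.symm hq2.symm)).symm
        · obtain ⟨q, hq1, hq2⟩ := exists_third (by omega) (x j) (y j)
          exact hq2 (h.trans (hrep q hq1.symm hq2.symm)).symm
      obtain ⟨hxy, hxz, hyz⟩ := hd
      let em : F × F →+ (γ → F) := AddMonoidHom.mk' (fun c => Pi.single (y j) c.1 + Pi.single (z j) c.2) fun a b => by
        rw [Prod.fst_add, Prod.snd_add, Pi.single_add, Pi.single_add]; abel
      have hem : ∀ c, (Pi.single (x j) (1 : F) : γ → F) ⬝ᵥ em c = 0 := fun c => by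
        simp [em, single_dotProduct, Pi.single_eq_of_ne hxy, Pi.single_eq_of_ne hxz, Pi.single_eq_of_ne hxy.symm, Pi.single_eq_of_ne hxz.symm]
      refine frame_class_zero hX h3 hF j s x y z (rootHomR F (Pi.single (x j) (1 : F)) em hem)
        (fun c hc => ⟨em c.toAdd, Pi.single (x j) 1, ?_, by simp, hem _, rfl⟩) fun L => ?_
      · intro h0
        refine hc (Multiplicative.toAdd.injective (Prod.ext ?_ ?_))
        · simpa [em, Pi.single_eq_of_ne hyz] using congrFun h0 (y j)
        · simpa [em, Pi.single_eq_of_ne hyz.symm] using congrFun h0 (z j)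
      · have hval : ∀ (c : F × F) (w : τ → γ),
            (slot j (rootHomR F (Pi.single (x j) (1 : F)) em hem (Multiplicative.ofAdd c)⁻¹ : Matrix γ γ F)) *ᵥ
              (Pi.single w 1 : (τ → γ) → F) =
            Pi.single w 1 + (if w j = x j then (1 : F) else 0) • ((-c.1) • Pi.single (Function.update w j (y j)) 1 +
              (-c.2) • Pi.single (Function.update w j (z j)) 1) := fun c w => by
          rw [show (Multiplicative.ofAdd c)⁻¹ = Multiplicative.ofAdd (-c) from rfl]
          show slot j (1 + vecMulVec (em (-c)) (Pi.single (x j) (1 : F))) *ᵥ _ = _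
          rw [show vecMulVec (em (-c)) (Pi.single (x j) (1 : F)) =
              (-c.1) • Matrix.single (y j) (x j) (1 : F) + (-c.2) • Matrix.single (z j) (x j) (1 : F) by
            ext a b
            rw [vecMulVec_apply, Matrix.add_apply, Matrix.smul_apply, Matrix.smul_apply]
            simp only [em, AddMonoidHom.mk'_apply, Pi.add_apply, Pi.single_apply, Matrix.single_apply, smul_eq_mul,
              Prod.fst_neg, Prod.snd_neg]
            by_cases hb : b = x j
            · subst hb; simp [eq_comm]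
            · simp [hb, Ne.symm hb],
            slot_add, slot_add, slot_one, slot_smul, slot_smul]
          rw [add_mulVec, one_mulVec, add_mulVec, Matrix.smul_mulVec, Matrix.smul_mulVec, sl_mulVec, sl_mulVec]
          by_cases hw : w j = x j <;> simp [hw]
        simp only [hval, if_pos, if_neg hxy.symm, if_neg hxz.symm, zero_smul, add_zero, one_smul, map_add,
          map_smul, LinearMap.add_apply, LinearMap.smul_apply, smul_eq_mul]
        simp only [Fintype.sum_prod_type, Finset.sum_add_distrib, Finset.sum_const, Finset.card_univ, nsmul_eq_mul,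
          FiniteField.cast_card_eq_zero, zero_mul, ← Finset.sum_mul, mul_zero, Finset.sum_const_zero, add_zero]
        rw [Fintype.card_prod, Nat.cast_mul, FiniteField.cast_card_eq_zero, zero_mul, zero_mul]
  have hST : S = omTri := by
    refine tri_ext fun x y z => ?_
    rw [hS]
    simp only [LinearMap.sum_apply]
    show ∑ ω : Frames X, fval x y z (frep ω) = _
    have hind : ∀ s : Finset τ, ∑ ω ∈ Finset.univ.filter
        (fun ω : Frames X => ∃ l ∈ s, ∀ i, ¬ Eqj (frep ω) i l), fval x y z (frep ω) = 0 := by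
      intro s
      induction s using Finset.induction_on with
      | empty => simp
      | insert a s ha ih =>
        have hsplit : Finset.univ.filter (fun ω : Frames X => ∃ l ∈ insert a s, ∀ i, ¬ Eqj (frep ω) i l) =
            Finset.univ.filter (fun ω : Frames X => ∃ l ∈ s, ∀ i, ¬ Eqj (frep ω) i l) ∪
            Finset.univ.filter (fun ω : Frames X =>
              (∀ i, ¬ Eqj (frep ω) i a) ∧ ∀ l ∈ s, ∃ i, Eqj (frep ω) i l) := by
          ext ω
          simp only [Finset.mem_filter, Finset.mem_univ, true_and, Finset.mem_union, Finset.mem_insert]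
          constructor
          · rintro ⟨l, hl, h1⟩
            by_cases h2 : ∃ l ∈ s, ∀ i, ¬ Eqj (frep ω) i l
            · exact Or.inl h2
            · push Not at h2
              rcases hl with rfl | hl
              · exact Or.inr ⟨h1, h2⟩
              · obtain ⟨i, hi⟩ := h2 l hl
                exact absurd hi (h1 i)
          · rintro (⟨l, hl, h1⟩ | ⟨h1, -⟩)
            · exact ⟨l, Or.inr hl, h1⟩
            · exact ⟨a, Or.inl rfl, h1⟩
        rw [hsplit, Finset.sum_union, ih, hkey, add_zero]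
        rw [Finset.disjoint_filter]
        rintro ω - ⟨l, hl, h1⟩ ⟨-, h2⟩
        obtain ⟨i, hi⟩ := h2 l hl
        exact h1 i hi
    obtain ⟨h, hh⟩ := QuotientGroup.mk_out_eq_mul ((permuting τ γ F).subgroupOf X) (1 : X)
    have hbase : frep (QuotientGroup.mk (1 : X) : Frames X) = ((h : X) : GL (τ → γ) F) := by
      rw [frep, hh, one_mul]
    rw [← Finset.sum_add_sum_compl (Finset.univ.filter
      (fun ω : Frames X => ∃ l ∈ (Finset.univ : Finset τ), ∀ i, ¬ Eqj (frep ω) i l)), hind, zero_add,
      Finset.sum_eq_single (QuotientGroup.mk (1 : X) : Frames X)]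
    · rw [fval, hbase]
      exact DFunLike.congr_fun (DFunLike.congr_fun (DFunLike.congr_fun
        (show comp3 omTri _ = omTri from inv_permuting h3 hF (inv_mem h.2)) _) _) _
    · intro ω hω hne
      refine absurd ?_ hne
      simp only [Finset.mem_compl, Finset.mem_filter, Finset.mem_univ, true_and, not_exists, not_forall, not_not] at hω
      choose f hf using hω
      rw [← QuotientGroup.out_eq' ω]
      refine (QuotientGroup.eq.mpr ?_)
      show (((ω.out)⁻¹ * 1 : X) : GL (τ → γ) F) ∈ permuting τ γ F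
      rw [mul_one]
      refine inv_mem (fun i => ?_)
      have hfinj : Function.Injective f := fun l l' e => eqj_unique (hf l) (e ▸ hf l')
      obtain ⟨l, rfl⟩ := Finite.injective_iff_surjective.mp hfinj i
      exact ⟨l, hf l⟩
    · intro hc
      exfalso
      apply hc
      simp only [Finset.mem_compl, Finset.mem_filter, Finset.mem_univ, true_and, not_exists, not_forall, not_not]
      intro l
      obtain ⟨i, hi⟩ := (permuting τ γ F).inv_mem h.2 l
      exact ⟨i, by rw [hbase]; simpa using hi.inv⟩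
  rw [hST] at hSinv
  exact hSinv

/-- The inverse transpose. -/
def dualGL (κ : Type) [Fintype κ] [DecidableEq κ] (F : Type u) [Field F] : GL κ F ≃* GL κ F where
  toFun g := ⟨((g⁻¹ : GL κ F) : Matrix κ κ F)ᵀ, (g : Matrix κ κ F)ᵀ,
    by rw [← transpose_mul, Units.mul_inv, transpose_one], by rw [← transpose_mul, Units.inv_mul, transpose_one]⟩
  invFun g := ⟨((g⁻¹ : GL κ F) : Matrix κ κ F)ᵀ, (g : Matrix κ κ F)ᵀ,
    by rw [← transpose_mul, Units.mul_inv, transpose_one], by rw [← transpose_mul, Units.inv_mul, transpose_one]⟩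
  left_inv g := Units.ext (transpose_transpose _)
  right_inv g := Units.ext (transpose_transpose _)
  map_mul' g h := Units.ext (by
    show ((((g * h)⁻¹ : GL κ F)) : Matrix κ κ F)ᵀ = ((g⁻¹ : GL κ F) : Matrix κ κ F)ᵀ * ((h⁻¹ : GL κ F) : Matrix κ κ F)ᵀ
    rw [_root_.mul_inv_rev, Units.val_mul, transpose_mul])

theorem dual_slotGL (i : τ) (A : Matrix γ γ F) (hA : A.det = 1) :
    ∃ b : SpecialLinearGroup γ F, ((dualGL (τ → γ) F (slotGL i b) : GL (τ → γ) F) : Matrix (τ → γ) (τ → γ) F) =
      slot i A := by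
  obtain ⟨c, hc⟩ : ∃ c : SpecialLinearGroup γ F, (c : Matrix γ γ F) = Aᵀ :=
    ⟨⟨Aᵀ, by rw [det_transpose, hA]⟩, rfl⟩
  refine ⟨c⁻¹, ?_⟩
  show ((((slotGL i _)⁻¹ : GL (τ → γ) F)) : Matrix (τ → γ) (τ → γ) F)ᵀ = _
  rw [map_inv, inv_inv, slotGL_val, slot_transpose]
  rw [hc, transpose_transpose]

theorem dual_hyp (hX : Hyp X) : Hyp (X.map (dualGL (τ → γ) F).toMonoidHom) where
  card₂ := hX.card₂
  slot i A hA := by
    obtain ⟨b, hb⟩ := dual_slotGL (F := F) i A hA
    obtain ⟨k, hk, e⟩ := hX.slot i (b : Matrix γ γ F) b.2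
    refine ⟨_, ⟨k, hk, rfl⟩, ?_⟩
    rw [show k = slotGL i b from Units.ext e]
    exact hb
  cyc a b c h1 h2 h3 := by
    obtain ⟨k, hk, e⟩ := hX.cyc a b c h1 h2 h3
    refine ⟨_, ⟨k, hk, rfl⟩, ?_⟩
    rw [show k = permGL (Equiv.swap a b * Equiv.swap b c) from Units.ext e]
    exact (perm_transpose _).trans (congrArg perm (inv_inv _))

theorem dual_not_full (hnot : ¬ Cfsg.Geo.specialLinear (τ → γ) F ≤ X) :
    ¬ Cfsg.Geo.specialLinear (τ → γ) F ≤ X.map (dualGL (τ → γ) F).toMonoidHom := by
  intro h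
  refine hnot fun g hg => ?_
  have hdet : ∀ x : GL (τ → γ) F, x ∈ Cfsg.Geo.specialLinear (τ → γ) F ↔
      (x : Matrix (τ → γ) (τ → γ) F).det = 1 := fun x => by
    rw [Cfsg.Geo.specialLinear, MonoidHom.mem_ker, Units.ext_iff, Matrix.GeneralLinearGroup.val_det_apply,
      Units.val_one]
  obtain ⟨k, hk, e⟩ := h (show dualGL (τ → γ) F g ∈ Cfsg.Geo.specialLinear (τ → γ) F by
    rw [hdet]
    show (((g⁻¹ : GL (τ → γ) F)) : Matrix (τ → γ) (τ → γ) F)ᵀ.det = 1
    rw [det_transpose, ← hdet]
    exact inv_mem hg)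
  rwa [← (dualGL (τ → γ) F).injective e]

/-- Conjugates of slots lie in the span of the slots: two elements, three-dimensional slots. -/
theorem conj_mem_span_two [Nontrivial γ] [Nonempty τ] (hX : Hyp X)
    (hnot : ¬ Cfsg.Geo.specialLinear (τ → γ) F ≤ X) (h3 : Fintype.card γ = 3) (hF : Fintype.card F = 2)
    {g : GL (τ → γ) F} (hg : g ∈ X) (i : τ) (A : Matrix γ γ F) : InL (conjM g (slot i A)) := by
  refine stab_InL h3 (two_zero hF) (stab_conj (fun N => ?_) (stab_slot h3 (two_zero hF) i A))
  refine piOp_conj (omega_inv (hX.good hnot) h3 hF hg) ?_ N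
  exact omega_inv (Hyp.good (dual_hyp hX) (dual_not_full hnot)) h3 hF (g := dualGL (τ → γ) F g) ⟨g, hg, rfl⟩

end Cfsg.Lib.Classical.TensorPowLin
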